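import Cfsg.Agent.Lib.ExtraspecialLarge.Basic
import Cfsg.Agent.Lib.PGroups.Extraspecial
import Mathlib.GroupTheory.Sylow
import Cfsg.Prelude.Def_Transfer

/-!
Extraspecial 2-groups of plus type: self-centralising elementary abelian subgroups and the number
of elements of order 4.
-/

set_option autoImplicit false

namespace CfsgLib.LargeSubgroups

open Subgroup CfsgLib.ExtraspecialLarge
open scoped commutatorElement

variable {E : Type*} [Group E] [Finite E]

/-- The central involution and the pairing of an extraspecial 2-group. -/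
theorem exists_good_top (hE : Cfsg.IsExtraspecial 2 E) :
    ∃ u : E, Good (⊤ : Subgroup E) u ∧ ∀ z : E, z ∈ center E ↔ z = 1 ∨ z = u := by
  haveI : Fact (Nat.Prime 2) := ⟨Nat.prime_two⟩
  obtain ⟨⟨u, hu⟩, hu2⟩ := exists_prime_orderOf_dvd_card' 2 (dvd_of_eq hE.2.symm)
  rw [← Subgroup.orderOf_coe] at hu2
  change orderOf u = 2 at hu2
  have hu1 : u ≠ 1 := fun h => by simp [h] at hu2
  have huu : u * u = 1 := by rw [← pow_two, ← hu2, pow_orderOf_eq_one]
  have hzp : zpowers u = center E :=
    eq_of_le_of_card_ge (zpowers_le.2 hu) (by rw [Nat.card_zpowers, hu2, hE.2])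
  have hZ : ∀ z : E, z ∈ center E ↔ z = 1 ∨ z = u := by
    intro z
    constructor
    · intro hz
      rw [← hzp] at hz
      obtain ⟨k, rfl⟩ := mem_zpowers_iff.1 hz
      rcases Int.even_or_odd k with ⟨j, rfl⟩ | ⟨j, rfl⟩
      · left
        rw [← two_mul, zpow_mul, zpow_two, huu, one_zpow]
      · right
        rw [zpow_add, zpow_mul, zpow_two, huu, one_zpow, one_mul, zpow_one]
    · rintro (rfl | rfl)
      exacts [one_mem _, hu]
  refine ⟨u, ⟨mem_top _, hu1, huu, fun q _ => mem_center_iff.1 hu q, fun q _ r _ => ?_,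
    fun r _ h => (hZ r).1 (mem_center_iff.2 fun g => h g (mem_top _)), fun q _ => ?_,
    fun g _ => mem_top _, fun g _ q _ => mem_top _⟩, hZ⟩
  · rcases (hZ _).1 (CfsgLib.PGroups.IsExtraspecial.commutator_mem_center hE q r) with h | h
    · exact Or.inl (mul_inv_eq_one.1 (by simpa [commutatorElement_def, mul_assoc] using h))
    · refine Or.inr ?_
      rw [← h, commutatorElement_def, inv_mul_cancel_right]
  · have := CfsgLib.PGroups.IsExtraspecial.pow_mem_center hE q
    rw [pow_two] at this
    exact (hZ _).1 this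

section
variable {u : E} (h : Good (⊤ : Subgroup E) u)
include h

theorem two_mul_card_centralizer_le {V U : Subgroup E} (huV : u ∈ V) (hlt : V < U) :
    2 * Nat.card (centralizer (U : Set E)) ≤ Nat.card (centralizer (V : Set E)) := by
  obtain ⟨a, haU, haV⟩ := SetLike.exists_of_lt hlt
  obtain ⟨q, -, hq, hqa⟩ := h.exists_flip le_top huV (mem_top a) haV
  have hsub : centralizer (U : Set E) ≤ centralizer (V : Set E) :=
    centralizer_le (SetLike.coe_subset_coe.2 hlt.le)
  have hqV : q ∈ centralizer (V : Set E) := fun b hb => (hq b hb).symm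
  have hqU : q ∉ centralizer (U : Set E) := fun hh =>
    h.not_comm_of_flip hqa ((mem_centralizer_iff.1 hh a haU).symm)
  have hne : Nat.card (centralizer (U : Set E)) ≠ Nat.card (centralizer (V : Set E)) := fun e =>
    hqU ((eq_of_le_of_card_ge hsub e.ge).ge hqV)
  obtain ⟨k, hk⟩ := card_dvd_of_le hsub
  rw [hk] at hne ⊢
  rcases k with _ | _ | k
  · have := hk ▸ (Nat.card_pos : 0 < Nat.card (centralizer (V : Set E)))
    simp at this
  · simp at hne
  · rw [mul_comm 2]; exact Nat.mul_le_mul_left _ (by omega)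

/-- `|U|·|C(U)| ≤ 2|E|` for elementary abelian `U` containing the central involution. -/
theorem card_mul_card_centralizer_le : ∀ (n : ℕ) (U : Subgroup E), u ∈ U →
    Nat.card U = 2 ^ (n + 1) → Nat.card U * Nat.card (centralizer (U : Set E)) ≤ 2 * Nat.card E := by
  haveI : Fact (Nat.Prime 2) := ⟨Nat.prime_two⟩
  intro n
  induction n with
  | zero =>
    intro U _ hU
    rw [hU, zero_add, pow_one]
    exact Nat.mul_le_mul_left _ (Subgroup.card_le_card_group _)
  | succ n ih =>
    intro U huU hU
    have hzu : Nat.card (zpowers u) = 2 ^ 1 := by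
      rw [Nat.card_zpowers, pow_one]
      exact orderOf_eq_prime (by rw [pow_two]; exact h.sq_u) h.ne_one
    obtain ⟨V', hV', hle⟩ := Sylow.exists_subgroup_card_pow_prime_le (G := U) 2
      (show 2 ^ (n + 1) ∣ Nat.card U by rw [hU]; exact pow_dvd_pow 2 (Nat.le_succ _))
      ((zpowers u).subgroupOf U)
      (by rw [Nat.card_congr (subgroupOfEquivOfLe (zpowers_le.2 huU)).toEquiv, hzu]) (by omega)
    set V := V'.map U.subtype with hVdef
    have hVc : Nat.card V = 2 ^ (n + 1) := by
      rw [← hV']; exact card_map_of_injective U.subtype_injective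
    have huV : u ∈ V := ⟨⟨u, huU⟩, hle (mem_zpowers u), rfl⟩
    have hlt : V < U := lt_of_le_of_ne (map_subtype_le _) fun e => by
      rw [e, hU] at hVc
      exact absurd (Nat.pow_right_injective le_rfl hVc) (by omega)
    have h1 := ih V huV hVc
    have h2 := two_mul_card_centralizer_le h huV hlt
    rw [hU]
    rw [hVc] at h1
    calc 2 ^ (n + 1 + 1) * Nat.card (centralizer (U : Set E))
        = 2 ^ (n + 1) * (2 * Nat.card (centralizer (U : Set E))) := by rw [pow_succ]; ring
      _ ≤ 2 ^ (n + 1) * Nat.card (centralizer (V : Set E)) := Nat.mul_le_mul_left _ h2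
      _ ≤ _ := h1

/-- A commutative subgroup of order `2^(m+1)` is self-centralising. -/
theorem centralizer_eq_of_card {m : ℕ} (hcard : Nat.card E = 2 ^ (2 * m + 1)) {A : Subgroup E}
    [IsMulCommutative A] (hA : Nat.card A = 2 ^ (m + 1)) : centralizer (A : Set E) = A := by
  haveI : Fact (Nat.Prime 2) := ⟨Nat.prime_two⟩
  set U := A ⊔ zpowers u with hU
  have hEp : IsPGroup 2 E := IsPGroup.iff_card.2 ⟨_, hcard⟩
  obtain ⟨k, hk⟩ := IsPGroup.iff_card.1 (hEp.to_subgroup U)
  have hk1 : 2 ^ (m + 1) ≤ 2 ^ k := by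
    rw [← hA, ← hk]; exact card_le_of_le le_sup_left
  have hk2 : m + 1 ≤ k := (Nat.pow_le_pow_iff_right Nat.one_lt_two).1 hk1
  obtain ⟨j, rfl⟩ : ∃ j, k = j + 1 := ⟨k - 1, by omega⟩
  have hle := card_mul_card_centralizer_le h j U (le_sup_right (a := A) (mem_zpowers u)) hk
  have hcen : centralizer (A : Set E) ≤ centralizer (U : Set E) := by
    intro x hx
    have hxu : x ∈ centralizer ((zpowers u : Subgroup E) : Set E) := by
      rintro _ ⟨i, rfl⟩
      exact (((show Commute x u from h.comm x (mem_top x)).zpow_right i)).symm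
    rw [hU]
    refine mem_centralizer_iff.2 fun y hy => ?_
    have : A ⊔ zpowers u ≤ centralizer ({x} : Set E) := sup_le
      (fun a ha => mem_centralizer_singleton_iff.2 (mem_centralizer_iff.1 hx a ha))
      (fun a ha => mem_centralizer_singleton_iff.2 (mem_centralizer_iff.1 hxu a ha))
    exact mem_centralizer_singleton_iff.1 (this hy)
  have hAA : A ≤ centralizer (A : Set E) := fun a ha b hb =>
    congrArg Subtype.val (IsMulCommutative.is_comm.comm (⟨b, hb⟩ : A) ⟨a, ha⟩)
  have h2 : Nat.card A * Nat.card (centralizer (A : Set E)) ≤ 2 * Nat.card E :=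
    le_trans (Nat.mul_le_mul (card_le_of_le le_sup_left) (card_le_of_le hcen)) hle
  refine (eq_of_le_of_card_ge hAA ?_).symm
  rw [hA, hcard] at h2
  rw [hA]
  refine Nat.le_of_mul_le_mul_left (h2.trans (le_of_eq ?_)) (Nat.two_pow_pos (m + 1))
  rw [← pow_add, ← pow_succ']
  congr 1
  omega

end

/-- An element has order 4 iff its square is not 1, when all fourth powers are 1. -/
theorem orderOf_eq_four_iff {x : E} (h4 : (x * x) * (x * x) = 1) : orderOf x = 4 ↔ x * x ≠ 1 := by
  constructor
  · intro h e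
    have hx2 : x ^ 2 = 1 := by rw [pow_two]; exact e
    have := orderOf_le_of_pow_eq_one (by norm_num : 0 < 2) hx2
    omega
  · intro hne
    have h4' : x ^ (2 ^ 2) = 1 := by
      rw [← h4]
      norm_num [pow_succ, mul_assoc]
    haveI : Fact (Nat.Prime 2) := ⟨Nat.prime_two⟩
    have := orderOf_eq_prime_pow (p := 2) (n := 1) (x := x) (by rw [pow_one, pow_two]; exact hne)
      (by norm_num; simpa using h4')
    simpa using this

/-- The number of elements of order 4 in an extraspecial group of plus type. -/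
theorem card_order_four_plus (m : ℕ) (hE : Cfsg.IsExtraspecial 2 E)
    (hcard : Nat.card E = 2 ^ (2 * m + 1)) {A : Subgroup E} (hA : Cfsg.IsElementaryAbelian 2 A)
    (hAc : Nat.card A = 2 ^ (m + 1)) :
    Nat.card {x : E // orderOf x = 4} = 2 ^ (2 * m) - 2 ^ m := by
  classical
  obtain ⟨u, h, -⟩ := exists_good_top hE
  haveI := hA.1
  have hC := centralizer_eq_of_card h hcard hAc
  have hsq : ∀ x : E, x * x = 1 ∨ x * x = u := fun x => h.sq x (mem_top x)
  have hfour : ∀ x : E, orderOf x = 4 ↔ x * x ≠ 1 := fun x => orderOf_eq_four_iff (by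
    rcases hsq x with e | e
    · rw [e, one_mul]
    · rw [e, h.sq_u])
  have hA2 : ∀ a ∈ A, a * a = 1 := fun a ha => by rw [← pow_two]; exact hA.2 a ha
  let c : E → E := fun x => Classical.epsilon (fun a => a ∈ A ∧ x * a ≠ a * x)
  have hc : ∀ x : E, x ∉ A → c x ∈ A ∧ x * c x ≠ c x * x := by
    intro x hx
    refine Classical.epsilon_spec (p := fun a => a ∈ A ∧ x * a ≠ a * x) ?_
    by_contra hh
    push Not at hh
    exact hx (hC.le (mem_centralizer_iff.2 fun a ha => (hh a ha).symm))
  have hcc : ∀ x a : E, a ∈ A → c (x * a) = c x := by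
    intro x a ha
    refine congrArg Classical.epsilon (funext fun b => propext (and_congr_right fun hb => ?_))
    have hab : a * b = b * a :=
      congrArg Subtype.val (IsMulCommutative.is_comm.comm (⟨a, ha⟩ : A) ⟨b, hb⟩)
    constructor
    · intro hne e
      exact hne (by rw [mul_assoc, hab, ← mul_assoc, e, mul_assoc])
    · intro hne e
      refine hne (mul_right_cancel (b := a) ?_)
      rw [mul_assoc, ← hab, ← mul_assoc, e, mul_assoc]
  have hflip : ∀ x : E, x ∉ A → (x * c x) * (x * c x) = u * (x * x) := by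
    intro x hx
    obtain ⟨hcA, hne⟩ := hc x hx
    have e := h.flip_of_not_comm (mem_top x) (mem_top (c x)) hne
    calc (x * c x) * (x * c x) = (x * c x * x⁻¹) * (x * x) * c x := by group
      _ = u * (c x * (x * x)) * c x := by rw [e]; group
      _ = u * ((x * x) * c x) * c x := by
        have : c x * (x * x) = (x * x) * c x := by
          rcases hsq x with e' | e'
          · rw [e', mul_one, one_mul]
          · rw [e']; exact h.comm (c x) (mem_top _)
        rw [this]
      _ = u * (x * x) * (c x * c x) := by group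
      _ = u * (x * x) := by rw [hA2 _ hcA, mul_one]
  have hout : ∀ x : E, x ∉ A → x * c x ∉ A := fun x hx hh =>
    hx (by simpa using A.mul_mem hh (A.inv_mem (hc x hx).1))
  have hback : ∀ x : E, x ∉ A → x * c x * c (x * c x) = x := fun x hx => by
    rw [hcc x _ (hc x hx).1, mul_assoc, hA2 _ (hc x hx).1, mul_one]
  have hu1 : u * u = 1 := h.sq_u
  let e : {x : E // x ∉ A ∧ x * x = 1} ≃ {x : E // x ∉ A ∧ x * x ≠ 1} :=
    { toFun := fun x => ⟨x.1 * c x.1, hout _ x.2.1, by
        rw [hflip _ x.2.1, x.2.2, mul_one]; exact h.ne_one⟩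
      invFun := fun x => ⟨x.1 * c x.1, hout _ x.2.1, by
        rw [hflip _ x.2.1, (hsq x.1).resolve_left x.2.2]; exact hu1⟩
      left_inv := fun x => Subtype.ext (hback _ x.2.1)
      right_inv := fun x => Subtype.ext (hback _ x.2.1) }
  have h4eq : Nat.card {x : E // orderOf x = 4} = Nat.card {x : E // x ∉ A ∧ x * x ≠ 1} :=
    Nat.card_congr (Equiv.subtypeEquivRight fun x =>
      ⟨fun hx => ⟨fun hxA => (hfour x).1 hx (hA2 x hxA), (hfour x).1 hx⟩, fun hx => (hfour x).2 hx.2⟩)
  have hsum : Nat.card {x : E // x ∉ A ∧ x * x = 1} + Nat.card {x : E // x ∉ A ∧ x * x ≠ 1} + Nat.card A = Nat.card E := by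
    haveI := Fintype.ofFinite E
    simp only [Nat.card_eq_fintype_card, Fintype.card_subtype]
    rw [← Finset.filter_filter, ← Finset.filter_filter,
      Finset.card_filter_add_card_filter_not, add_comm,
      Finset.card_filter_add_card_filter_not, Finset.card_univ]
  rw [Nat.card_congr e, hAc, hcard] at hsum
  rw [h4eq]
  have e1 : 2 ^ (2 * m + 1) = 2 * 2 ^ (2 * m) := by rw [pow_succ]; ring
  have e2 : 2 ^ (m + 1) = 2 * 2 ^ m := by rw [pow_succ]; ring
  omega

end CfsgLib.LargeSubgroups
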