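import Mathlib

/-!
Subgroups of `GL₂(ℤ/2ᵏ)` isomorphic to `A₄`.
-/

set_option autoImplicit false

namespace CfsgLib.LargeSubgroups.AFour

open Matrix

abbrev RR (k : ℕ) := ZMod (2 ^ k)
abbrev M2 := Matrix (Fin 2) (Fin 2) (ZMod 2)

/-- The companion matrix of `X² + X + 1`. -/
def sig (R : Type*) [CommRing R] : Matrix (Fin 2) (Fin 2) R := !![0, -1; 1, -1]

/-- The sum of the three conjugates under `sig`. -/
def tr3 (X : M2) : M2 :=
  X + sig (ZMod 2) * X * (sig (ZMod 2) * sig (ZMod 2)) + sig (ZMod 2) * sig (ZMod 2) * X * sig (ZMod 2)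

theorem m2_unipotent : ∀ v w : M2, v * v = 1 → w * w * w = 1 → w ≠ 1 →
    (v * w) * (v * w) * (v * w) = 1 → v = 1 := by decide

theorem m2_order3 : ∀ w : M2, w * w * w = 1 → w ≠ 1 →
    (w - 1).det = 1 ∧ w 1 0 = 1 := by decide

theorem m2_idem : ∀ X : M2, X + X * X = 0 → tr3 X = 0 → X = 0 := by decide

theorem m2_orbit : ∀ X Y : M2, tr3 X = 0 → X ≠ 0 → tr3 Y = 0 → Y ≠ 0 →
    Y = X ∨ Y = sig (ZMod 2) * X * (sig (ZMod 2) * sig (ZMod 2)) ∨
      Y = sig (ZMod 2) * sig (ZMod 2) * X * sig (ZMod 2) := by decide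

set_option maxRecDepth 10000 in
theorem a4_pow : ∀ w v : alternatingGroup (Fin 4),
    w * w * w = 1 → w ≠ 1 → v * v = 1 → (v * w) * (v * w) * (v * w) = 1 := by decide

set_option maxRecDepth 10000 in
theorem a4_exists : ∃ w v : alternatingGroup (Fin 4),
    w * w * w = 1 ∧ w ≠ 1 ∧ v * v = 1 ∧ v ≠ 1 := by decide

set_option maxRecDepth 10000 in
set_option synthInstance.maxSize 4000 in
theorem a4_gen : ∀ w : alternatingGroup (Fin 4), w * w * w = 1 → w ≠ 1 →
    ∀ v : alternatingGroup (Fin 4), v * v = 1 → v ≠ 1 → ∀ x : alternatingGroup (Fin 4),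
      x = 1 ∨ x = v ∨ x = w * v * (w * w) ∨ x = w * w * v * w ∨ x = w ∨ x = v * w ∨
      x = w * v ∨ x = w * w * v * w * w ∨ x = w * w ∨ x = v * (w * w) ∨ x = w * v * w ∨ x = w * w * v := by decide

section

variable {k : ℕ}

/-- Reduction mod 2. -/
def red (hk : k ≠ 0) : RR k →+* ZMod 2 := ZMod.castHom (dvd_pow_self 2 hk) (ZMod 2)

theorem exists_two_mul (hk : k ≠ 0) {x : RR k} (h : red hk x = 0) : ∃ y, x = 2 * y := by
  have h' : ((x.val : ℕ) : ZMod 2) = 0 := by
    rw [← map_natCast (red hk), ZMod.natCast_zmod_val]; exact h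
  obtain ⟨c, hc⟩ := (ZMod.natCast_eq_zero_iff _ 2).1 h'
  exact ⟨(c : RR k), by rw [← ZMod.natCast_zmod_val x, hc, Nat.cast_mul]; rfl⟩

theorem exists_pow_mul (hk : k ≠ 0) {x : RR k} (h : 2 * x = 0) : ∃ y, x = 2 ^ (k - 1) * y := by
  have h' : ((2 * x.val : ℕ) : RR k) = 0 := by
    rw [Nat.cast_mul, ZMod.natCast_zmod_val]; exact h
  have hd := (ZMod.natCast_eq_zero_iff _ (2 ^ k)).1 h'
  have he : 2 * 2 ^ (k - 1) ∣ 2 * x.val := by
    have e : (2 : ℕ) * 2 ^ (k - 1) = 2 ^ k := by rw [← pow_succ']; congr 1; omega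
    rw [e]; exact hd
  obtain ⟨c, hc⟩ := Nat.dvd_of_mul_dvd_mul_left (by norm_num) he
  exact ⟨(c : RR k), by rw [← ZMod.natCast_zmod_val x, hc, Nat.cast_mul, Nat.cast_pow]; rfl⟩

theorem red_eq_zero_of_pow_mul (hk : k ≠ 0) {x : RR k} (h : 2 ^ (k - 1) * x = 0) :
    red hk x = 0 := by
  have h' : ((2 ^ (k - 1) * x.val : ℕ) : RR k) = 0 := by
    rw [Nat.cast_mul, ZMod.natCast_zmod_val, Nat.cast_pow]; exact h
  have hd := (ZMod.natCast_eq_zero_iff _ (2 ^ k)).1 h'
  have he : 2 ^ (k - 1) * 2 ∣ 2 ^ (k - 1) * x.val := by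
    have e : (2 : ℕ) ^ (k - 1) * 2 = 2 ^ k := by rw [← pow_succ]; congr 1; omega
    rw [e]; exact hd
  obtain ⟨c, hc⟩ := Nat.dvd_of_mul_dvd_mul_left (Nat.two_pow_pos _) he
  rw [← ZMod.natCast_zmod_val x, map_natCast, hc, Nat.cast_mul]
  exact mul_eq_zero_of_left (by decide) _

theorem two_pow_eq_zero : (2 : RR k) ^ k = 0 := by
  have := ZMod.natCast_self (2 ^ k)
  rwa [Nat.cast_pow] at this

theorem isUnit_one_add_two {R : Type*} [Ring R] [Algebra (RR k) R] (y : R) :
    IsUnit (1 + (2 : RR k) • y) :=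
  IsNilpotent.isUnit_one_add ⟨k, by rw [smul_pow, two_pow_eq_zero, zero_smul]⟩

theorem isUnit_of_red (hk : k ≠ 0) {x : RR k} (h : red hk x = 1) : IsUnit x := by
  obtain ⟨y, hy⟩ := exists_two_mul hk (x := x - 1) (by rw [map_sub, map_one, h, sub_self])
  rw [show x = 1 + (2 : RR k) • y by rw [smul_eq_mul, ← hy]; ring]
  exact isUnit_one_add_two y

/-- Entrywise reduction. -/
def redM (hk : k ≠ 0) : Matrix (Fin 2) (Fin 2) (RR k) →+* M2 := (red hk).mapMatrix

theorem redM_sig (hk : k ≠ 0) : redM hk (sig (RR k)) = sig (ZMod 2) := by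
  ext i j
  fin_cases i <;> fin_cases j <;> simp [redM, sig]

theorem redM_smul (hk : k ≠ 0) (c : RR k) (X : Matrix (Fin 2) (Fin 2) (RR k)) :
    redM hk (c • X) = red hk c • redM hk X := by
  ext i j
  simp [redM]

theorem exists_two_smul (hk : k ≠ 0) {X : Matrix (Fin 2) (Fin 2) (RR k)} (h : redM hk X = 0) :
    ∃ Y, X = (2 : RR k) • Y := by
  have h' : ∀ i j, ∃ y, X i j = 2 * y := fun i j =>
    exists_two_mul hk (by simpa [redM] using congrFun (congrFun h i) j)
  choose Y hY using h'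
  exact ⟨Matrix.of Y, by ext i j; rw [Matrix.smul_apply, smul_eq_mul]; exact hY i j⟩

theorem exists_pow_smul (hk : k ≠ 0) {X : Matrix (Fin 2) (Fin 2) (RR k)}
    (h : (2 : RR k) • X = 0) : ∃ Y, X = ((2 : RR k) ^ (k - 1)) • Y := by
  have h' : ∀ i j, ∃ y, X i j = 2 ^ (k - 1) * y := fun i j =>
    exists_pow_mul hk (by simpa using congrFun (congrFun h i) j)
  choose Y hY using h'
  exact ⟨Matrix.of Y, by ext i j; rw [Matrix.smul_apply, smul_eq_mul]; exact hY i j⟩

theorem redM_eq_zero_of_pow_smul (hk : k ≠ 0) {X : Matrix (Fin 2) (Fin 2) (RR k)}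
    (h : ((2 : RR k) ^ (k - 1)) • X = 0) : redM hk X = 0 := by
  ext i j
  have := red_eq_zero_of_pow_mul hk (x := X i j) (by simpa using congrFun (congrFun h i) j)
  simpa [redM] using this

theorem pow_smul_congr (hk : k ≠ 0) {X Y : Matrix (Fin 2) (Fin 2) (RR k)}
    (h : redM hk X = redM hk Y) : ((2 : RR k) ^ (k - 1)) • X = ((2 : RR k) ^ (k - 1)) • Y := by
  obtain ⟨Z, hZ⟩ := exists_two_smul hk (X := X - Y) (by rw [map_sub, h, sub_self])
  rw [← sub_eq_zero, ← smul_sub, hZ, smul_smul, ← pow_succ, show k - 1 + 1 = k by omega,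
    two_pow_eq_zero, zero_smul]

/-- Product of three matrices congruent to 1 modulo `2ᵏ⁻¹`. -/
theorem one_add_pow_mul (hk : 2 ≤ k) (A B : Matrix (Fin 2) (Fin 2) (RR k)) :
    (1 + ((2 : RR k) ^ (k - 1)) • A) * (1 + ((2 : RR k) ^ (k - 1)) • B) =
      1 + ((2 : RR k) ^ (k - 1)) • (A + B) := by
  have h0 : ((2 : RR k) ^ (k - 1)) * ((2 : RR k) ^ (k - 1)) = 0 := by
    rw [← pow_add, show k - 1 + (k - 1) = k + (k - 2) by omega, pow_add, two_pow_eq_zero, zero_mul]
  simp only [add_mul, mul_add, one_mul, mul_one, smul_mul_smul_comm, h0, zero_smul, add_zero,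
    smul_add]
  abel

variable {H : Subgroup (GL (Fin 2) (RR k))}

/-- In a subgroup isomorphic to `A₄`, facts on the reduction of involutions and of order-3 elements. -/
theorem red_eq_one (hk : k ≠ 0) (e : H ≃* alternatingGroup (Fin 4)) {w v : H}
    (hw : w * w * w = 1) (hw1 : w ≠ 1) (hv : v * v = 1) :
    redM hk ((v : GL (Fin 2) (RR k)) : Matrix (Fin 2) (Fin 2) (RR k)) = 1 ∧
      redM hk ((w : GL (Fin 2) (RR k)) : Matrix (Fin 2) (Fin 2) (RR k)) ≠ 1 := by
  have hvw : (v * w) * (v * w) * (v * w) = 1 := e.injective (by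
    simp only [map_mul, map_one]
    refine a4_pow (e w) (e v) ?_ (fun h => hw1 (e.injective (h.trans (map_one e).symm))) ?_
    · rw [← map_mul, ← map_mul, hw, map_one]
    · rw [← map_mul, hv, map_one])
  let F : H →* M2 := ((redM hk).toMonoidHom.comp (Units.coeHom _)).comp H.subtype
  have hw' : F w ≠ 1 := by
    intro h
    obtain ⟨Y, hY⟩ := exists_two_smul hk
      (X := ((w : GL (Fin 2) (RR k)) : Matrix (Fin 2) (Fin 2) (RR k)) - 1)
      (by rw [map_sub, map_one, sub_eq_zero]; exact h)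
    set W := ((w : GL (Fin 2) (RR k)) : Matrix (Fin 2) (Fin 2) (RR k)) with hW
    have hW3 : W * W * W = 1 := by
      have := congrArg (fun x : H => ((x : GL (Fin 2) (RR k)) : Matrix (Fin 2) (Fin 2) (RR k))) hw
      simpa using this
    have hu : IsUnit (W * W + W + 1) := by
      refine (Matrix.isUnit_iff_isUnit_det _).2 (isUnit_of_red hk ?_)
      rw [RingHom.map_det]
      change (redM hk (W * W + W + 1)).det = 1
      rw [map_add, map_add, map_mul, map_one, show redM hk W = 1 from h]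
      decide
    have : (W - 1) * (W * W + W + 1) = 0 := by
      calc (W - 1) * (W * W + W + 1) = W * (W * W) - 1 := by noncomm_ring
        _ = 0 := by rw [← mul_assoc, hW3, sub_self]
    have hW1 : W = 1 := sub_eq_zero.1 ((hu.mul_left_eq_zero).1 this)
    exact hw1 (Subtype.ext (Units.ext hW1))
  refine ⟨m2_unipotent (F v) (F w) ?_ ?_ hw' ?_, hw'⟩
  · rw [← map_mul, hv, map_one]
  · rw [← map_mul, ← map_mul, hw, map_one]
  · simp only [← map_mul, hvw, map_one]

/-- Every such subgroup contains a conjugate of the companion matrix. -/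
theorem exists_conj_sig (hk : k ≠ 0) (e : H ≃* alternatingGroup (Fin 4)) :
    ∃ g s : GL (Fin 2) (RR k), (s : Matrix (Fin 2) (Fin 2) (RR k)) = sig (RR k) ∧
      g * s * g⁻¹ ∈ H := by
  obtain ⟨w₀, v₀, hw, hw1, hv, -⟩ := a4_exists
  set w := e.symm w₀ with hwdef
  have hw' : w * w * w = 1 := by rw [hwdef, ← map_mul, ← map_mul, hw, map_one]
  have hw1' : w ≠ 1 := fun h => hw1 (by
    have := congrArg e h
    rwa [hwdef, MulEquiv.apply_symm_apply, map_one] at this)
  have hne := (red_eq_one hk e hw' hw1' (v := 1) (one_mul 1)).2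
  set W := ((w : GL (Fin 2) (RR k)) : Matrix (Fin 2) (Fin 2) (RR k)) with hW
  have hW3 : W * W * W = 1 := by
    have := congrArg (fun x : H => ((x : GL (Fin 2) (RR k)) : Matrix (Fin 2) (Fin 2) (RR k))) hw'
    simpa using this
  obtain ⟨hdet, hc⟩ := m2_order3 (redM hk W) (by rw [← map_mul, ← map_mul, hW3, map_one]) hne
  have hu : IsUnit (W - 1) := by
    refine (Matrix.isUnit_iff_isUnit_det _).2 (isUnit_of_red hk ?_)
    rw [RingHom.map_det]
    change (redM hk (W - 1)).det = 1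
    rw [map_sub, map_one]
    exact hdet
  have hquad : W * W + W + 1 = 0 := by
    refine (hu.mul_right_eq_zero).1 ?_
    calc (W - 1) * (W * W + W + 1) = W * (W * W) - 1 := by noncomm_ring
      _ = 0 := by rw [← mul_assoc, hW3, sub_self]
  have hcu : IsUnit (W 1 0) := isUnit_of_red hk (by simpa [redM] using hc)
  let P : Matrix (Fin 2) (Fin 2) (RR k) := !![1, W 0 0; 0, W 1 0]
  have hP : IsUnit P := (Matrix.isUnit_iff_isUnit_det _).2 (by
    simpa [P, Matrix.det_fin_two] using hcu)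
  have h00 := congrFun (congrFun hquad 0) 0
  have h10 := congrFun (congrFun hquad 1) 0
  simp only [Matrix.add_apply, Matrix.mul_apply, Fin.sum_univ_two, Matrix.one_apply_eq,
    Matrix.one_apply_ne (by decide : (1 : Fin 2) ≠ 0), Matrix.zero_apply] at h00 h10
  have hPs : W * P = P * sig (RR k) := by
    ext i j
    fin_cases i <;> fin_cases j <;> simp [P, sig, Matrix.mul_apply, Fin.sum_univ_two]
    · linear_combination h00
    · linear_combination h10
  let g := hP.unit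
  refine ⟨g, g⁻¹ * (w : GL (Fin 2) (RR k)) * g, ?_, ?_⟩
  · have : ((g⁻¹ : GL (Fin 2) (RR k)) : Matrix (Fin 2) (Fin 2) (RR k)) * P = 1 := by
      rw [← hP.unit_spec, ← Units.val_mul, inv_mul_cancel, Units.val_one]
    rw [Units.val_mul, Units.val_mul, mul_assoc, hP.unit_spec, hPs, ← mul_assoc, this, one_mul]
  · rw [show g * (g⁻¹ * (w : GL (Fin 2) (RR k)) * g) * g⁻¹ = (w : GL (Fin 2) (RR k)) by group]
    exact w.2

/-- The shape of the involutions. -/
theorem involution_shape (hk : 2 ≤ k) (e : H ≃* alternatingGroup (Fin 4)) {s : GL (Fin 2) (RR k)}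
    (hs : (s : Matrix (Fin 2) (Fin 2) (RR k)) = sig (RR k)) (hsH : s ∈ H) {v : H} (hv : v * v = 1)
    (hv1 : v ≠ 1) :
    ∃ Z, ((v : GL (Fin 2) (RR k)) : Matrix (Fin 2) (Fin 2) (RR k)) = 1 + ((2 : RR k) ^ (k - 1)) • Z ∧
      tr3 (redM (show k ≠ 0 by omega) Z) = 0 ∧ redM (show k ≠ 0 by omega) Z ≠ 0 := by
  have hk0 : k ≠ 0 := by omega
  set σ := sig (RR k) with hσ
  have hσ3 : σ * σ * σ = 1 := by
    ext i j
    fin_cases i <;> fin_cases j <;> simp [hσ, sig, Matrix.mul_apply, Fin.sum_univ_two]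
  have hs3 : (⟨s, hsH⟩ : H) * ⟨s, hsH⟩ * ⟨s, hsH⟩ = 1 :=
    Subtype.ext (Units.ext (by simp [hs, hσ3]))
  have hs1 : (⟨s, hsH⟩ : H) ≠ 1 := fun h => by
    have h' := congrArg (fun x : H => redM hk0 ((x : GL (Fin 2) (RR k)) : Matrix (Fin 2) (Fin 2) (RR k))) h
    simp only [hs, hσ, redM_sig, Subgroup.coe_one, Units.val_one, map_one] at h'
    exact absurd h' (by decide)
  set V := ((v : GL (Fin 2) (RR k)) : Matrix (Fin 2) (Fin 2) (RR k)) with hV
  have hV2 : V * V = 1 := by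
    have := congrArg (fun x : H => ((x : GL (Fin 2) (RR k)) : Matrix (Fin 2) (Fin 2) (RR k))) hv
    simpa using this
  have hprod : V * (σ * V * (σ * σ)) * (σ * σ * V * σ) = 1 := by
    have h3 : (v * ⟨s, hsH⟩) * (v * ⟨s, hsH⟩) * (v * ⟨s, hsH⟩) = 1 := e.injective (by
      simp only [map_mul, map_one]
      refine a4_pow (e ⟨s, hsH⟩) (e v) ?_ (fun h => hs1 (e.injective (h.trans (map_one e).symm))) ?_
      · rw [← map_mul, ← map_mul, hs3, map_one]
      · rw [← map_mul, hv, map_one])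
    have h3' : V * σ * (V * σ) * (V * σ) = 1 := by
      have := congrArg (fun x : H => ((x : GL (Fin 2) (RR k)) : Matrix (Fin 2) (Fin 2) (RR k))) h3
      simpa [hs] using this
    calc V * (σ * V * (σ * σ)) * (σ * σ * V * σ)
        = V * σ * V * ((σ * σ * σ) * σ) * V * σ := by noncomm_ring
      _ = V * σ * (V * σ) * (V * σ) := by rw [hσ3, one_mul]; noncomm_ring
      _ = 1 := h3'
  have hred := (red_eq_one hk0 e hs3 hs1 hv).1
  obtain ⟨X, hX⟩ := exists_two_smul hk0 (X := V - 1) (by rw [map_sub, map_one, sub_eq_zero]; exact hred)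
  have hVX : V = 1 + (2 : RR k) • X := by rw [← hX]; abel
  have h2X : (2 : RR k) • ((2 : RR k) • (X + X * X)) = 0 := by
    calc (2 : RR k) • ((2 : RR k) • (X + X * X))
        = (1 + (2 : RR k) • X) * (1 + (2 : RR k) • X) - 1 := by
          simp only [two_smul, mul_add, add_mul, one_mul, mul_one]; abel
      _ = 0 := by rw [← hVX, hV2, sub_self]
  -- it suffices that `2 (2X) = 0`
  suffices h4 : (2 : RR k) • ((2 : RR k) • X) = 0 by
    obtain ⟨Z, hZ⟩ := exists_pow_smul hk0 h4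
    have hVZ : V = 1 + ((2 : RR k) ^ (k - 1)) • Z := by rw [hVX, hZ]
    have hconj : ∀ a b : Matrix (Fin 2) (Fin 2) (RR k), a * b = 1 →
        a * V * b = 1 + ((2 : RR k) ^ (k - 1)) • (a * Z * b) := by
      intro a b hab
      rw [hVZ, mul_add, add_mul, mul_one, hab, mul_smul_comm, smul_mul_assoc]
    refine ⟨Z, hVZ, ?_, fun h0 => hv1 (Subtype.ext (Units.ext ?_))⟩
    · rw [hconj σ (σ * σ) (by rw [← mul_assoc, hσ3]), hconj (σ * σ) σ hσ3, hVZ,
        one_add_pow_mul hk, one_add_pow_mul hk, add_eq_left] at hprod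
      have := redM_eq_zero_of_pow_smul hk0 hprod
      simpa only [map_add, map_mul, hσ, redM_sig, tr3] using this
    · change V = 1
      rw [hVZ, pow_smul_congr hk0 (Y := 0) (by rw [h0, map_zero]), smul_zero, add_zero]
  rcases eq_or_lt_of_le hk with hk2 | hk3
  · rw [smul_smul]
    subst hk2
    rw [show (2 : RR 2) * 2 = 0 by decide, zero_smul]
  -- `X` is even
  have hXe : redM hk0 X = 0 := by
    refine m2_idem _ ?_ ?_
    · rw [smul_smul] at h2X
      obtain ⟨Y, hY⟩ : ∃ Y, (2 : RR k) • (X + X * X) = ((2 : RR k) ^ (k - 1)) • Y :=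
        exists_pow_smul hk0 (by rw [smul_smul]; exact h2X)
      have h0 : ((2 : RR k) ^ (k - 1)) • (X + X * X) = 0 := by
        rw [show k - 1 = (k - 2) + 1 by omega, pow_succ, mul_smul, hY, smul_smul, ← pow_add,
          show k - 2 + (k - 1) = k + (k - 3) by omega, pow_add, two_pow_eq_zero, zero_mul, zero_smul]
      simpa only [map_add, map_mul] using redM_eq_zero_of_pow_smul hk0 h0
    · have hconj : ∀ a b : Matrix (Fin 2) (Fin 2) (RR k), a * b = 1 →
          a * V * b = 1 + (2 : RR k) • (a * X * b) := by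
        intro a b hab
        rw [hVX, mul_add, add_mul, mul_one, hab, mul_smul_comm, smul_mul_assoc]
      rw [hconj σ (σ * σ) (by rw [← mul_assoc, hσ3]), hconj (σ * σ) σ hσ3, hVX] at hprod
      set B := σ * X * (σ * σ) with hB
      set C := σ * σ * X * σ with hC
      have h0 : (2 : RR k) • (X + B + C) +
          (2 : RR k) • ((2 : RR k) • (X * B + X * C + B * C + (2 : RR k) • (X * B * C))) = 0 := by
        rw [← sub_eq_zero] at hprod
        rw [← hprod]
        simp only [add_mul, mul_add, one_mul, mul_one, smul_mul_smul_comm, smul_add, smul_smul,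
          mul_smul_comm, smul_mul_assoc]
        abel
      rw [← smul_add] at h0
      obtain ⟨Y, hY⟩ := exists_pow_smul hk0 h0
      have := congrArg (redM hk0) hY
      rw [map_add, redM_smul, redM_smul, show red hk0 (2 : RR k) = 0 by rw [map_ofNat]; decide,
        zero_smul, add_zero, map_pow, show red hk0 (2 : RR k) = 0 by rw [map_ofNat]; decide,
        zero_pow (by omega : k - 1 ≠ 0), zero_smul] at this
      simpa only [map_add, map_mul, hσ, redM_sig, tr3, hB, hC] using this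
  obtain ⟨Y, hY⟩ := exists_two_smul hk0 hXe
  have h3 : ((2 : RR k) * 2 * 2) • (Y * (1 + (2 : RR k) • Y)) = 0 := by
    rw [← h2X, hY]
    simp only [mul_add, mul_one, smul_mul_assoc, mul_smul_comm, smul_add, smul_smul, mul_assoc]
  rw [← smul_mul_assoc] at h3
  have h4 := ((isUnit_one_add_two (k := k) Y).mul_left_eq_zero).1 h3
  rw [hY, smul_smul, smul_smul]
  exact h4

/-- All subgroups isomorphic to `A₄` are conjugate. -/
theorem conj_unique (hk : 2 ≤ k) {H₁ H₂ : Subgroup (GL (Fin 2) (RR k))}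
    (e₁ : H₁ ≃* alternatingGroup (Fin 4)) (e₂ : H₂ ≃* alternatingGroup (Fin 4))
    {s : GL (Fin 2) (RR k)} (hs : (s : Matrix (Fin 2) (Fin 2) (RR k)) = sig (RR k))
    (h₁ : s ∈ H₁) (h₂ : s ∈ H₂) : H₂ = H₁ := by
  have hk0 : k ≠ 0 := by omega
  have hσ3 : sig (RR k) * sig (RR k) * sig (RR k) = 1 := by
    ext i j
    fin_cases i <;> fin_cases j <;> simp [sig, Matrix.mul_apply, Fin.sum_univ_two]
  have hs3 : s * s * s = 1 := Units.ext (by simp [hs, hσ3])
  have hs1 : s ≠ 1 := fun h => by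
    have h' := congrArg (fun x : GL (Fin 2) (RR k) => redM hk0 (x : Matrix (Fin 2) (Fin 2) (RR k))) h
    simp only [hs, redM_sig, Units.val_one, map_one] at h'
    exact absurd h' (by decide)
  obtain ⟨w₀, v₀, -, -, hv, hv1⟩ := a4_exists
  set v₁ := e₁.symm v₀ with hv₁def
  set v₂ := e₂.symm v₀ with hv₂def
  have hv₁ : v₁ * v₁ = 1 := by rw [hv₁def, ← map_mul, hv, map_one]
  have hv₂ : v₂ * v₂ = 1 := by rw [hv₂def, ← map_mul, hv, map_one]
  have hv₁1 : v₁ ≠ 1 := fun h => hv1 (by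
    have := congrArg e₁ h; rwa [hv₁def, MulEquiv.apply_symm_apply, map_one] at this)
  have hv₂1 : v₂ ≠ 1 := fun h => hv1 (by
    have := congrArg e₂ h; rwa [hv₂def, MulEquiv.apply_symm_apply, map_one] at this)
  obtain ⟨Z₁, hZ₁, ht₁, hn₁⟩ := involution_shape hk e₁ hs h₁ hv₁ hv₁1
  obtain ⟨Z₂, hZ₂, ht₂, hn₂⟩ := involution_shape hk e₂ hs h₂ hv₂ hv₂1
  have hconj : ∀ a b : Matrix (Fin 2) (Fin 2) (RR k), a * b = 1 →
      redM hk0 Z₂ = redM hk0 a * redM hk0 Z₁ * redM hk0 b →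
      ((v₂ : GL (Fin 2) (RR k)) : Matrix (Fin 2) (Fin 2) (RR k)) =
        a * ((v₁ : GL (Fin 2) (RR k)) : Matrix (Fin 2) (Fin 2) (RR k)) * b := by
    intro a b hab h
    rw [hZ₁, hZ₂, mul_add, add_mul, mul_one, hab, mul_smul_comm, smul_mul_assoc,
      pow_smul_congr hk0 (X := Z₂) (Y := a * Z₁ * b) (by rw [map_mul, map_mul]; exact h)]
  have hv₂mem : (v₂ : GL (Fin 2) (RR k)) ∈ H₁ := by
    rcases m2_orbit _ _ ht₁ hn₁ ht₂ hn₂ with h | h | h
    · have := hconj 1 1 (one_mul 1) (by simpa using h)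
      rw [one_mul, mul_one] at this
      rw [Units.ext this]; exact v₁.2
    · have := hconj _ _ (by rw [← mul_assoc, hσ3] : sig (RR k) * (sig (RR k) * sig (RR k)) = 1)
        (by simpa only [map_mul, redM_sig] using h)
      have e : (v₂ : GL (Fin 2) (RR k)) = s * v₁ * (s * s) :=
        Units.ext (by simp only [Units.val_mul, hs]; exact this)
      rw [e]; exact H₁.mul_mem (H₁.mul_mem h₁ v₁.2) (H₁.mul_mem h₁ h₁)
    · have := hconj _ _ hσ3 (by simpa only [map_mul, redM_sig] using h)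
      have e : (v₂ : GL (Fin 2) (RR k)) = s * s * v₁ * s :=
        Units.ext (by simp only [Units.val_mul, hs]; exact this)
      rw [e]; exact H₁.mul_mem (H₁.mul_mem (H₁.mul_mem h₁ h₁) v₁.2) h₁
  have hle : H₂ ≤ H₁ := by
    intro x hx
    set K := H₁.subgroupOf H₂ with hK
    have hsK : (⟨s, h₂⟩ : H₂) ∈ K := h₁
    have hvK : v₂ ∈ K := hv₂mem
    set K' := K.map e₂.toMonoidHom with hK'
    have hwK : e₂ ⟨s, h₂⟩ ∈ K' := Subgroup.mem_map_of_mem _ hsK
    have hv0K : v₀ ∈ K' := by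
      have := Subgroup.mem_map_of_mem e₂.toMonoidHom hvK
      rwa [MulEquiv.coe_toMonoidHom, hv₂def, MulEquiv.apply_symm_apply] at this
    have hgen := a4_gen (e₂ ⟨s, h₂⟩) (by rw [← map_mul, ← map_mul]; exact (congrArg e₂ (Subtype.ext hs3 : (⟨s, h₂⟩ : H₂) * ⟨s, h₂⟩ * ⟨s, h₂⟩ = 1)).trans (map_one e₂))
      (fun h => hs1 (congrArg Subtype.val (e₂.injective (h.trans (map_one e₂).symm)))) v₀ hv hv1
      (e₂ ⟨x, hx⟩)
    have hmem : e₂ ⟨x, hx⟩ ∈ K' := by
      rcases hgen with h | h | h | h | h | h | h | h | h | h | h | h <;> rw [h] <;>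
        first
        | exact K'.one_mem
        | exact hv0K
        | exact hwK
        | exact K'.mul_mem hwK hwK
        | exact K'.mul_mem hv0K hwK
        | exact K'.mul_mem hwK hv0K
        | exact K'.mul_mem (K'.mul_mem hwK hwK) hv0K
        | exact K'.mul_mem hv0K (K'.mul_mem hwK hwK)
        | exact K'.mul_mem (K'.mul_mem hwK hv0K) hwK
        | exact K'.mul_mem (K'.mul_mem hwK hv0K) (K'.mul_mem hwK hwK)
        | exact K'.mul_mem (K'.mul_mem (K'.mul_mem hwK hwK) hv0K) hwK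
        | exact K'.mul_mem (K'.mul_mem (K'.mul_mem (K'.mul_mem hwK hwK) hv0K) hwK) hwK
    obtain ⟨y, hy, hyx⟩ := hmem
    have : y = ⟨x, hx⟩ := e₂.injective hyx
    rw [this] at hy
    exact hy
  refine Subgroup.eq_of_le_of_card_ge hle ?_
  rw [Nat.card_congr e₁.toEquiv, Nat.card_congr e₂.toEquiv]

end

end CfsgLib.LargeSubgroups.AFour
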