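import Cfsg.Agent.Lib.Cores.Quasisimple
import Cfsg.Agent.Lib.Cores.GenFitting
import Cfsg.Agent.Lib.PermGroups.Jordan
import Cfsg.Agent.Lib.OrderDegrees.ThreeCycle
import Cfsg.Agent.Lib.Generators.SmallPermGroups
import Cfsg.Agent.S2553

/-!
Subgroups of symmetric groups containing a Sylow `2`-subgroup of the alternating group and a
self-centralizing normal quasisimple subgroup.
-/

set_option autoImplicit false

namespace CfsgLib.LargeSubgroups.AltSylow

open Cfsg Equiv Equiv.Perm Subgroup MulAction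
open scoped Pointwise

/-- `H` contains a Sylow `2`-subgroup of the alternating group and has the quasisimple normal
subgroup `F` containing its centralizer in `H`. -/
structure Setting {α : Type*} [Fintype α] [DecidableEq α] (H F : Subgroup (Perm α)) : Prop where
  le : F ≤ H
  norm : ∀ h ∈ H, ∀ f ∈ F, h * f * h⁻¹ ∈ F
  qs : IsQuasisimple ↥F
  cent : ∀ h ∈ H, (∀ f ∈ F, h * f = f * h) → h ∈ F
  sylow : ∃ P : Sylow 2 ↥(alternatingGroup α),
    (P : Subgroup ↥(alternatingGroup α)).map (alternatingGroup α).subtype ≤ H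

/-- A perfect group has only trivial homomorphisms to commutative groups. -/
theorem eq_one_of_perfect {G A : Type*} [Group G] [Group A] (hA : ∀ a b : A, a * b = b * a)
    (hG : Group.IsPerfect G) (f : G →* A) (g : G) : f g = 1 := by
  letI : CommGroup A := { ‹Group A› with mul_comm := hA }
  have : g ∈ commutator G := by rw [hG.commutator_eq_top]; trivial
  exact Abelianization.commutator_subset_ker f this

theorem isSolvable_perm_of_card_le {α : Type*} [Finite α] (h : Nat.card α ≤ 4) :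
    Group.IsSolvable (Perm α) := by
  refine CfsgLib.Generators.SmallPermGroups.isSolvable_of_two_primes (n := (Nat.card α).factorial)
    2 3 3 1 Nat.prime_two Nat.prime_three Nat.card_perm ?_
  interval_cases Nat.card α <;> decide

/-- A perfect group has only trivial homomorphisms to solvable groups. -/
theorem eq_one_of_perfect_solvable {G A : Type*} [Group G] [Group A] (hG : Group.IsPerfect G)
    [Group.IsSolvable A] (f : G →* A) (g : G) : f g = 1 := by
  haveI := hG
  haveI : Group.IsPerfect f.range := Group.IsPerfect.ofSurjective f.rangeRestrict_surjective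
  haveI : Group.IsSolvable f.range := inferInstance
  by_contra hne
  haveI : Nontrivial f.range := ⟨⟨f.rangeRestrict g, 1, fun e => hne (congrArg Subtype.val e)⟩⟩
  exact (Group.IsSolvable.commutator_lt_top_of_nontrivial f.range).ne Group.IsPerfect.commutator_eq_top

namespace Setting

variable {α : Type*} [Fintype α] [DecidableEq α] {H F : Subgroup (Perm α)} (h : Setting H F)
include h

theorem perfect : Group.IsPerfect ↥F := h.qs.1

/-- Every `2`-element of a subgroup of the alternating group meeting `H` in a Sylow subgroup is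
conjugate in it into `H`. -/
theorem exists_conj_mem {W : Subgroup (Perm α)} (hW : W ≤ alternatingGroup α)
    (hH : H ⊓ alternatingGroup α ≤ W) {D : Subgroup (Perm α)} (hD : D ≤ W) (hD2 : IsPGroup 2 ↥D) :
    ∃ w ∈ W, ∀ d ∈ D, w * d * w⁻¹ ∈ H := by
  haveI : Fact (Nat.Prime 2) := ⟨Nat.prime_two⟩
  obtain ⟨P, hP⟩ := h.sylow
  set P' := (P : Subgroup ↥(alternatingGroup α)).map (alternatingGroup α).subtype
  have hPA : P' ≤ alternatingGroup α := Subgroup.map_subtype_le _
  have hPW : P' ≤ W := (le_inf hP hPA).trans hH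
  have hPp : IsPGroup 2 ↥(P'.subgroupOf W) := (P.2.map _).comap_subtype
  have hidx : ¬ 2 ∣ (P'.subgroupOf W).index := by
    intro h2
    refine P.not_dvd_index (h2.trans ?_)
    have e : (P : Subgroup ↥(alternatingGroup α)).index = P'.relIndex (alternatingGroup α) := by
      rw [Subgroup.relIndex, Subgroup.subgroupOf,
        Subgroup.comap_map_eq_self_of_injective (Subgroup.subtype_injective _)]
    rw [e, ← Subgroup.relIndex_mul_relIndex P' W _ hPW hW]
    exact dvd_mul_right _ _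
  set P₀ : Sylow 2 ↥W := hPp.toSylow hidx with hP₀
  obtain ⟨S, hS⟩ := (hD2.comap_subtype (K := W)).exists_le_sylow
  obtain ⟨w, hw⟩ := MulAction.exists_smul_eq ↥W S P₀
  refine ⟨w, w.2, fun d hd => hP ?_⟩
  have hmem : w * ⟨d, hD hd⟩ * w⁻¹ ∈ (P₀ : Subgroup ↥W) := by
    rw [← hw, Sylow.coe_subgroup_smul, Subgroup.pointwise_smul_def]
    exact ⟨⟨d, hD hd⟩, hS hd, rfl⟩
  rw [hP₀, IsPGroup.toSylow_coe] at hmem
  exact hmem

/-- If the commutators of `x` with `F` lie in a proper normal subgroup of `F`, then `x` is central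
in `F`. -/
theorem mem_center {x : Perm α} (hx : x ∈ H) (N : Subgroup ↥F) [N.Normal] (hN : N ≠ ⊤)
    (hc : ∀ f : ↥F, (⟨x * f * x⁻¹ * (f : Perm α)⁻¹,
      mul_mem (h.norm x hx f f.2) (inv_mem f.2)⟩ : ↥F) ∈ N) :
    x ∈ F ∧ ∀ f ∈ F, x * f = f * x := by
  have hNZ := (CfsgLib.Cores.normal_eq_top_or_le_center h.qs N).resolve_left hN
  let φ : ↥F →* ↥(Subgroup.center ↥F) :=
    { toFun := fun f => ⟨_, hNZ (hc f)⟩
      map_one' := by ext; simp
      map_mul' := fun a b => by
        have hb := Subgroup.mem_center_iff.1 (hNZ (hc b)) a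
        ext1; apply Subtype.ext
        have hb' : (a : Perm α) * (x * b * x⁻¹ * (b : Perm α)⁻¹) =
            (x * b * x⁻¹ * (b : Perm α)⁻¹) * a := congrArg Subtype.val hb
        show x * ((a : Perm α) * b) * x⁻¹ * ((a : Perm α) * b)⁻¹ =
          (x * a * x⁻¹ * (a : Perm α)⁻¹) * (x * b * x⁻¹ * (b : Perm α)⁻¹)
        calc x * ((a : Perm α) * b) * x⁻¹ * ((a : Perm α) * b)⁻¹ =
              x * a * x⁻¹ * ((x * b * x⁻¹ * (b : Perm α)⁻¹)) * (a : Perm α)⁻¹ := by group
          _ = x * a * x⁻¹ * ((a : Perm α)⁻¹ * ((a : Perm α) *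
                (x * b * x⁻¹ * (b : Perm α)⁻¹)) * (a : Perm α)⁻¹) := by group
          _ = x * a * x⁻¹ * ((a : Perm α)⁻¹ * ((x * b * x⁻¹ * (b : Perm α)⁻¹) * a) *
                (a : Perm α)⁻¹) := by rw [hb']
          _ = (x * a * x⁻¹ * (a : Perm α)⁻¹) * (x * b * x⁻¹ * (b : Perm α)⁻¹) := by group }
  have hcomm : ∀ f ∈ F, x * f = f * x := by
    intro f hf
    have := eq_one_of_perfect (fun a b => Subtype.ext (Subgroup.mem_center_iff.1 b.2 a.1))
      h.perfect φ ⟨f, hf⟩
    have e : x * f * x⁻¹ * f⁻¹ = 1 := congrArg (fun z : ↥(Subgroup.center ↥F) => ((z : ↥F) : Perm α)) this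
    rwa [mul_inv_eq_one, mul_inv_eq_iff_eq_mul] at e
  exact ⟨h.cent x hx hcomm, hcomm⟩

/-- `F` fixes pointwise any invariant set of at most four points. -/
theorem fix_of_card_le {s : Set α} (hs : ∀ f ∈ F, ∀ a ∈ s, f a ∈ s) (hc : s.ncard ≤ 4) :
    ∀ f ∈ F, ∀ a ∈ s, f a = a := by
  have hiff : ∀ f ∈ F, ∀ a, a ∈ s ↔ f a ∈ s := fun f hf a =>
    ⟨hs f hf a, fun ha => by simpa using hs f⁻¹ (inv_mem hf) _ ha⟩
  let φ : ↥F →* Perm s :=
    { toFun := fun f => (f : Perm α).subtypePerm (fun a => (hiff f f.2 a).symm)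
      map_one' := by ext a; rfl
      map_mul' := fun a b => by ext c; rfl }
  haveI : Group.IsSolvable (Perm s) := isSolvable_perm_of_card_le (by rwa [Nat.card_coe_set_eq])
  intro f hf a ha
  have := eq_one_of_perfect_solvable h.perfect φ ⟨f, hf⟩
  exact congrArg Subtype.val (DFunLike.congr_fun this ⟨a, ha⟩)

/-- No element moving at most four points is central in `F`, other than the identity. -/
theorem eq_one_of_central {x : Perm α} (hx : x ∈ F) (hc : ∀ f ∈ F, x * f = f * x)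
    (hs : x.support.card ≤ 4) : x = 1 := by
  have hinv : ∀ f ∈ F, ∀ a ∈ (x.support : Set α), f a ∈ (x.support : Set α) := by
    intro f hf a ha
    simp only [Finset.mem_coe, Equiv.Perm.mem_support] at ha ⊢
    intro e
    apply ha
    apply f.injective
    rw [← Equiv.Perm.mul_apply, ← hc f hf, Equiv.Perm.mul_apply, e]
  ext a
  by_contra ha
  exact ha (h.fix_of_card_le hinv (by rwa [Set.ncard_coe_finset]) x hx a
    (Equiv.Perm.mem_support.2 ha))

theorem ne_bot : F ≠ ⊥ := by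
  intro e
  haveI : Subsingleton ↥F := by rw [e]; infer_instance
  haveI := h.qs.2
  haveI : Subsingleton (↥F ⧸ Subgroup.center ↥F) := inferInstance
  exact not_subsingleton (↥F ⧸ Subgroup.center ↥F) inferInstance

/-- An element of `H` fixing an `F`-invariant set pointwise, on which `F` acts nontrivially, is
central in `F`. -/
theorem mem_center_of_fix {x : Perm α} (hx : x ∈ H) {U : Set α}
    (hU : ∀ f ∈ F, ∀ a ∈ U, f a ∈ U) (hne : ∃ f ∈ F, ∃ a ∈ U, f a ≠ a)
    (hxU : ∀ a ∈ U, x a = a) : x ∈ F ∧ ∀ f ∈ F, x * f = f * x := by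
  let N : Subgroup ↥F :=
    { carrier := {f | ∀ a ∈ U, (f : Perm α) a = a}
      one_mem' := fun a _ => rfl
      mul_mem' := fun {f g} hf hg a ha => by
        show (f : Perm α) ((g : Perm α) a) = a
        rw [hg a ha, hf a ha]
      inv_mem' := fun {f} hf a ha => by
        show (f : Perm α)⁻¹ a = a
        conv_lhs => rw [← hf a ha]
        exact (f : Perm α).symm_apply_apply a }
  haveI : N.Normal := ⟨fun n hn g a ha => by
    show (g : Perm α) ((n : Perm α) ((g : Perm α)⁻¹ a)) = a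
    rw [hn _ (hU _ (inv_mem g.2) a ha)]
    exact (g : Perm α).apply_symm_apply a⟩
  refine h.mem_center hx N (fun e => ?_) fun f a ha => ?_
  · obtain ⟨f, hf, a, ha, hfa⟩ := hne
    exact hfa ((e ▸ Subgroup.mem_top _ : (⟨f, hf⟩ : ↥F) ∈ N) a ha)
  · show x ((f : Perm α) (x⁻¹ ((f : Perm α)⁻¹ a))) = a
    have hb : (f : Perm α)⁻¹ a ∈ U := hU _ (inv_mem f.2) a ha
    have : x⁻¹ ((f : Perm α)⁻¹ a) = (f : Perm α)⁻¹ a := by
      rw [Equiv.Perm.inv_eq_iff_eq, hxU _ hb]
    rw [this]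
    show x ((f : Perm α) ((f : Perm α).symm a)) = a
    rw [Equiv.apply_symm_apply, hxU a ha]

omit h in
theorem isPGroup_zpowers_invol {x : Perm α} (hx : x * x = 1) : IsPGroup 2 ↥(Subgroup.zpowers x) := by
  intro g
  obtain ⟨k, hk⟩ := Subgroup.mem_zpowers_iff.1 g.2
  refine ⟨1, Subtype.ext ?_⟩
  show (g : Perm α) ^ (2 ^ 1) = 1
  rw [pow_one, ← hk, ← zpow_natCast, ← zpow_mul, mul_comm, zpow_mul, zpow_natCast, sq, hx, one_zpow]

omit h in
theorem double_swap_spec {a b c d : α} (hab : a ≠ b) (hcd : c ≠ d) (hac : a ≠ c) (had : a ≠ d)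
    (hbc : b ≠ c) (hbd : b ≠ d) :
    (swap a b * swap c d) ∈ alternatingGroup α ∧ (swap a b * swap c d) * (swap a b * swap c d) = 1 ∧
      (swap a b * swap c d).support.card ≤ 4 ∧ (swap a b * swap c d) a ≠ a ∧
      (∀ p, p ≠ a → p ≠ b → p ≠ c → p ≠ d → (swap a b * swap c d) p = p) := by
  refine ⟨?_, ?_, ?_, ?_, fun p pa pb pc pd => ?_⟩
  · simp [Equiv.Perm.mem_alternatingGroup, Equiv.Perm.sign_swap hab, Equiv.Perm.sign_swap hcd]
  · have : Commute (swap a b) (swap c d) := (Equiv.Perm.disjoint_iff_disjoint_support.2 (by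
      simp [Equiv.Perm.support_swap hab, Equiv.Perm.support_swap hcd, hac.symm, had.symm, hbc.symm,
        hbd.symm])).commute
    rw [this.symm.mul_mul_mul_comm, swap_mul_self, swap_mul_self, one_mul]
  · refine (Finset.card_le_card (Equiv.Perm.support_mul_le _ _)).trans ((Finset.card_union_le _ _).trans ?_)
    rw [Equiv.Perm.card_support_swap hab, Equiv.Perm.card_support_swap hcd]
  · rw [Equiv.Perm.mul_apply, swap_apply_of_ne_of_ne hac had, swap_apply_left]
    exact hab.symm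
  · rw [Equiv.Perm.mul_apply, swap_apply_of_ne_of_ne pc pd, swap_apply_of_ne_of_ne pa pb]

omit h in
theorem exists_four {s : Finset α} (hs : 4 ≤ s.card) : ∃ a ∈ s, ∃ b ∈ s, ∃ c ∈ s, ∃ d ∈ s,
    a ≠ b ∧ c ≠ d ∧ a ≠ c ∧ a ≠ d ∧ b ≠ c ∧ b ≠ d := by
  obtain ⟨t, hts, ht⟩ := Finset.exists_subset_card_eq hs
  have e := (Finset.equivFinOfCardEq ht).symm
  refine ⟨e 0, hts (e 0).2, e 1, hts (e 1).2, e 2, hts (e 2).2, e 3, hts (e 3).2, ?_, ?_, ?_, ?_, ?_, ?_⟩ <;>
    exact fun eq => absurd (e.injective (Subtype.ext eq)) (by decide)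

/-- Outside the orbit on which `F` acts there are at most three points. -/
theorem card_compl_le {Δ : Finset α} (hΔ : ∀ g ∈ H, ∀ a ∈ Δ, g a ∈ Δ)
    (hne : ∃ f ∈ F, ∃ a ∈ Δ, f a ≠ a) : Δᶜ.card ≤ 3 := by
  by_contra hgt
  obtain ⟨a, ha, b, hb, c, hc, d, hd, hab, hcd, hac, had, hbc, hbd⟩ :=
    exists_four (s := Δᶜ) (by omega)
  rw [Finset.mem_compl] at ha hb hc hd
  obtain ⟨hyA, hy2, hy4, hya, hyfix⟩ := double_swap_spec hab hcd hac had hbc hbd
  set y := swap a b * swap c d
  let W : Subgroup (Perm α) :=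
    { carrier := {g | g ∈ alternatingGroup α ∧ ∀ p, p ∈ Δ ↔ g p ∈ Δ}
      one_mem' := ⟨one_mem _, fun p => Iff.rfl⟩
      mul_mem' := fun {g k} hg hk => ⟨mul_mem hg.1 hk.1, fun p => (hk.2 p).trans (hg.2 (k p))⟩
      inv_mem' := fun {g} hg => ⟨inv_mem hg.1, fun p => by
        rw [hg.2 (g⁻¹ p)]; exact (congrArg (· ∈ Δ) (g.apply_symm_apply p)).to_iff.symm⟩ }
  have hyΔ : ∀ p ∈ Δ, y p = p := fun p hp => hyfix p (fun e => ha (e ▸ hp)) (fun e => hb (e ▸ hp))
    (fun e => hc (e ▸ hp)) (fun e => hd (e ▸ hp))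
  have hyW : y ∈ W := ⟨hyA, fun p => ⟨fun hp => by rwa [hyΔ p hp], fun hp => by
    have h1 := hyΔ _ hp
    rw [← Equiv.Perm.mul_apply, hy2] at h1
    have e : y p = p := h1.symm
    rwa [e] at hp⟩⟩
  obtain ⟨w, hw, hconj⟩ := h.exists_conj_mem (W := W) (fun g hg => hg.1)
    (fun g hg => ⟨hg.2, fun p => ⟨hΔ g hg.1 p, fun hp => by simpa using hΔ g⁻¹ (inv_mem hg.1) _ hp⟩⟩)
    (Subgroup.zpowers_le.2 hyW) (isPGroup_zpowers_invol hy2)
  have hx := hconj y (Subgroup.mem_zpowers y)
  obtain ⟨hxF, hxc⟩ := h.mem_center_of_fix hx (U := (Δ : Set α))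
    (fun f hf p hp => hΔ f (h.le hf) p hp) hne (fun p hp => by
      have hw' := (W.inv_mem hw).2 p
      show w (y (w⁻¹ p)) = p
      rw [hyΔ _ (hw'.1 hp)]
      exact w.apply_symm_apply p)
  have := h.eq_one_of_central hxF hxc (by rwa [Equiv.Perm.card_support_conj])
  rw [conj_eq_one_iff] at this
  exact hya (by rw [this]; rfl)

/-- A transitive such group is primitive. -/
theorem isPreprimitive [IsPretransitive ↥H α] (h4 : 4 < Fintype.card α) :
    IsPreprimitive ↥H α := by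
  refine ⟨fun {B} hB => ?_⟩
  by_contra hnt
  rw [IsTrivialBlock, not_or, Set.not_subsingleton_iff] at hnt
  obtain ⟨hBnt, hBu⟩ := hnt
  have hmoved : ∀ a : α, ∃ f ∈ F, f a ≠ a := by
    intro a
    by_contra hall
    push Not at hall
    refine h.ne_bot ((Subgroup.eq_bot_iff_forall _).2 fun f hf => Equiv.ext fun b => ?_)
    obtain ⟨g, hg⟩ := MulAction.exists_smul_eq ↥H a b
    have h1 := h.norm (g : Perm α)⁻¹ (inv_mem g.2) f hf
    have h2 := hall _ h1
    rw [inv_inv, Equiv.Perm.mul_apply, Equiv.Perm.mul_apply, Equiv.Perm.inv_eq_iff_eq,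
      show (g : Perm α) a = b from hg] at h2
    exact h2
  set 𝔅 : Set (Set α) := orbit ↥H B
  have hblock : ∀ C ∈ 𝔅, ∀ C' ∈ 𝔅, ∀ p, p ∈ C → p ∈ C' → C = C' := by
    rintro _ ⟨g, rfl⟩ _ ⟨k, rfl⟩ p hp hp'
    by_contra hne
    exact Set.disjoint_left.1 (hB hne) hp hp'
  have hmap : ∀ g ∈ H, ∀ C ∈ 𝔅, g '' C ∈ 𝔅 := by
    rintro g hg _ ⟨k, rfl⟩
    refine ⟨⟨g, hg⟩ * k, ?_⟩
    show (⟨g, hg⟩ * k : ↥H) • B = g '' (k • B)
    rw [mul_smul]
    rfl
  have hcard : ∀ C ∈ 𝔅, 2 ≤ C.ncard := by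
    rintro _ ⟨k, rfl⟩
    show 2 ≤ (k • B).ncard
    rw [Set.ncard_smul_set]
    exact (Set.one_lt_ncard (Set.toFinite B)).2 hBnt
  have hB0 : B ∈ 𝔅 := mem_orbit_self B
  let W : Subgroup (Perm α) :=
    { carrier := {g | g ∈ alternatingGroup α ∧ ∀ C, C ∈ 𝔅 ↔ g '' C ∈ 𝔅}
      one_mem' := ⟨one_mem _, fun C => by simp⟩
      mul_mem' := fun {g k} hg hk => ⟨mul_mem hg.1 hk.1, fun C => by
        rw [Equiv.Perm.coe_mul, Set.image_comp]; exact (hk.2 C).trans (hg.2 _)⟩
      inv_mem' := fun {g} hg => ⟨inv_mem hg.1, fun C => by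
        rw [hg.2 (_ '' C), ← Set.image_comp, ← Equiv.Perm.coe_mul, mul_inv_cancel,
          Equiv.Perm.coe_one, Set.image_id]⟩ }
  have hWle : H ⊓ alternatingGroup α ≤ W := fun g hg => ⟨hg.2, fun C => ⟨hmap g hg.1 C, fun hC => by
    have := hmap g⁻¹ (inv_mem hg.1) _ hC
    rwa [← Set.image_comp, ← Equiv.Perm.coe_mul, inv_mul_cancel, Equiv.Perm.coe_one, Set.image_id] at this⟩⟩
  -- elements fixing every block can be moved into `H`
  have hconjW : ∀ y : Perm α, y ∈ alternatingGroup α → y * y = 1 → (∀ C ∈ 𝔅, y '' C = C) →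
      ∃ w : Perm α, (∀ C, C ∈ 𝔅 ↔ w '' C ∈ 𝔅) ∧ w * y * w⁻¹ ∈ H := by
    intro y hyA hy2 hyC
    have hyW : y ∈ W := ⟨hyA, fun C => ⟨fun hC => by rwa [hyC C hC], fun hC => by
      have h1 := hyC _ hC
      rw [← Set.image_comp, ← Equiv.Perm.coe_mul, hy2, Equiv.Perm.coe_one, Set.image_id] at h1
      rwa [← h1] at hC⟩⟩
    obtain ⟨w, hw, hwH⟩ := h.exists_conj_mem (W := W) (fun g hg => hg.1) hWle
      (Subgroup.zpowers_le.2 hyW) (isPGroup_zpowers_invol hy2)
    exact ⟨w, hw.2, hwH y (Subgroup.mem_zpowers y)⟩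
  have himg : ∀ (y : Perm α) (C : Set α), (∀ p ∈ C, y p ∈ C) → y '' C = C := by
    intro y C hC
    exact Set.eq_of_subset_of_ncard_le (Set.image_subset_iff.2 hC)
      (Set.ncard_image_of_injective C y.injective).ge
  have hfinal : ∀ (y w : Perm α) (a : α), y a ≠ a → y.support.card ≤ 4 →
      w * y * w⁻¹ ∈ F → (∀ f ∈ F, w * y * w⁻¹ * f = f * (w * y * w⁻¹)) → False := by
    intro y w a hya hy4 hF hc
    have := h.eq_one_of_central hF hc (by rwa [Equiv.Perm.card_support_conj])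
    rw [conj_eq_one_iff] at this
    exact hya (by rw [this]; rfl)
  by_cases hfix : ∀ f ∈ F, ∀ C ∈ 𝔅, f '' C = C
  · -- `F` fixes every block
    by_cases hb5 : B.ncard ≤ 4
    · obtain ⟨a, ha⟩ := hBnt.nonempty
      obtain ⟨f, hf, hfa⟩ := hmoved a
      exact hfa (h.fix_of_card_le (fun f hf p hp => (hfix f hf B hB0).le ⟨p, hp, rfl⟩) hb5 f hf a ha)
    · obtain ⟨a, ha, b, hb, c, hc, d, hd, hab, hcd, hac, had, hbc, hbd⟩ :=
        exists_four (s := B.toFinite.toFinset) (by
          rw [← Set.ncard_eq_toFinset_card]; omega)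
      simp only [Set.Finite.mem_toFinset] at ha hb hc hd
      obtain ⟨hyA, hy2, hy4, hya, hyfix⟩ := double_swap_spec hab hcd hac had hbc hbd
      set y := swap a b * swap c d
      have hyC : ∀ C ∈ 𝔅, C ≠ B → ∀ p ∈ C, y p = p := fun C hC hne p hp =>
        hyfix p (fun e => hne (hblock C hC B hB0 p hp (e ▸ ha)))
          (fun e => hne (hblock C hC B hB0 p hp (e ▸ hb)))
          (fun e => hne (hblock C hC B hB0 p hp (e ▸ hc)))
          (fun e => hne (hblock C hC B hB0 p hp (e ▸ hd)))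
      obtain ⟨w, hw, hwH⟩ := hconjW y hyA hy2 (fun C hC => himg y C fun p hp => by
        by_cases hne : C = B
        · subst hne
          by_contra hy
          have h1 : y (y p) = p := by rw [← Equiv.Perm.mul_apply, hy2]; rfl
          have h2 : y (y p) = y p := hyfix _ (fun e => hy (e ▸ ha)) (fun e => hy (e ▸ hb))
            (fun e => hy (e ▸ hc)) (fun e => hy (e ▸ hd))
          rw [h1] at h2
          exact hy (h2 ▸ hp)
        · rwa [hyC C hC hne p hp])
      obtain ⟨g, hg⟩ : ∃ C ∈ 𝔅, C ≠ B := by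
        by_contra hall
        push Not at hall
        apply hBu
        rw [Set.eq_univ_iff_forall]
        intro p
        obtain ⟨k, hk⟩ := MulAction.exists_smul_eq ↥H a p
        have := hall _ (hmap _ k.2 B hB0)
        rw [← this]
        exact ⟨a, ha, hk⟩
      obtain ⟨hxF, hxc⟩ := h.mem_center_of_fix hwH (U := w '' g)
        (fun f hf p hp => (hfix f hf _ ((hw g).1 hg.1)).le ⟨p, hp, rfl⟩)
        (by
          obtain ⟨q, hq⟩ : (w '' g).Nonempty :=
            Set.nonempty_of_ncard_ne_zero (by have := hcard _ ((hw g).1 hg.1); omega)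
          obtain ⟨f, hf, hfq⟩ := hmoved q
          exact ⟨f, hf, q, hq, hfq⟩)
        (by
          rintro _ ⟨p, hp, rfl⟩
          show w (y (w⁻¹ (w p))) = w p
          rw [Equiv.Perm.inv_def, Equiv.symm_apply_apply, hyC g hg.1 hg.2 p hp])
      exact hfinal y w a hya hy4 hxF hxc
  · -- `F` moves a block
    push Not at hfix
    obtain ⟨f₀, hf₀, C₀, hC₀, hne₀⟩ := hfix
    obtain ⟨a, ha⟩ := Set.nonempty_of_ncard_ne_zero (s := C₀) (by have := hcard _ hC₀; omega)
    obtain ⟨b, hb, hab⟩ := Set.exists_ne_of_one_lt_ncard (hcard _ hC₀) a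
    set C₁ := f₀ '' C₀
    have hC₁ : C₁ ∈ 𝔅 := hmap f₀ (h.le hf₀) C₀ hC₀
    obtain ⟨c, hc⟩ := Set.nonempty_of_ncard_ne_zero (s := C₁) (by have := hcard _ hC₁; omega)
    obtain ⟨d, hd, hcd⟩ := Set.exists_ne_of_one_lt_ncard (hcard _ hC₁) c
    have hout : ∀ p ∈ C₀, ∀ q ∈ C₁, p ≠ q := fun p hp q hq e =>
      hne₀ (hblock C₁ hC₁ C₀ hC₀ q hq (e ▸ hp))
    obtain ⟨hyA, hy2, hy4, hya, hyfix⟩ := double_swap_spec hab.symm hcd.symm (hout a ha c hc)
      (hout a ha d hd) (hout b hb c hc) (hout b hb d hd)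
    set y := swap a b * swap c d with hy
    have hyCp : ∀ C ∈ 𝔅, ∀ p ∈ C, y p ∈ C := by
      intro C hC p hp
      by_cases hpa : p = a
      · subst hpa
        rw [hy, Equiv.Perm.mul_apply, swap_apply_of_ne_of_ne (hout p ha c hc) (hout p ha d hd),
          swap_apply_left, hblock C hC C₀ hC₀ p hp ha]
        exact hb
      by_cases hpb : p = b
      · subst hpb
        rw [hy, Equiv.Perm.mul_apply, swap_apply_of_ne_of_ne (hout p hb c hc) (hout p hb d hd),
          swap_apply_right, hblock C hC C₀ hC₀ p hp hb]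
        exact ha
      by_cases hpc : p = c
      · subst hpc
        rw [hy, Equiv.Perm.mul_apply, swap_apply_left,
          swap_apply_of_ne_of_ne (hout a ha d hd).symm (hout b hb d hd).symm,
          hblock C hC C₁ hC₁ p hp hc]
        exact hd
      by_cases hpd : p = d
      · subst hpd
        rw [hy, Equiv.Perm.mul_apply, swap_apply_right,
          swap_apply_of_ne_of_ne (hout a ha c hc).symm (hout b hb c hc).symm,
          hblock C hC C₁ hC₁ p hp hd]
        exact hc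
      rwa [hyfix p hpa hpb hpc hpd]
    obtain ⟨w, hw, hwH⟩ := hconjW y hyA hy2 fun C hC => himg y C (hyCp C hC)
    let K : Subgroup ↥F :=
      { carrier := {f | ∀ C ∈ 𝔅, (f : Perm α) '' C = C}
        one_mem' := fun C _ => by simp
        mul_mem' := fun {f g} hf hg C hC => by
          rw [Subgroup.coe_mul, Equiv.Perm.coe_mul, Set.image_comp, hg C hC, hf C hC]
        inv_mem' := fun {f} hf C hC => by
          conv_lhs => rw [← hf C hC]
          rw [← Set.image_comp, ← Equiv.Perm.coe_mul, Subgroup.coe_inv, inv_mul_cancel,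
            Equiv.Perm.coe_one, Set.image_id] }
    haveI : K.Normal := ⟨fun n hn g C hC => by
      rw [Subgroup.coe_mul, Subgroup.coe_mul, Subgroup.coe_inv, Equiv.Perm.coe_mul, Equiv.Perm.coe_mul, Set.image_comp,
        Set.image_comp, hn _ (hmap _ (h.le (inv_mem g.2)) C hC), ← Set.image_comp,
        ← Equiv.Perm.coe_mul, mul_inv_cancel, Equiv.Perm.coe_one, Set.image_id]⟩
    set x := w * y * w⁻¹ with hx
    have hxC : ∀ C ∈ 𝔅, x '' C = C := by
      intro C hC
      have hC' : (w⁻¹ : Perm α) '' C ∈ 𝔅 := by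
        rw [hw, ← Set.image_comp, ← Equiv.Perm.coe_mul, mul_inv_cancel, Equiv.Perm.coe_one,
          Set.image_id]
        exact hC
      rw [hx, Equiv.Perm.coe_mul, Equiv.Perm.coe_mul, Set.image_comp, Set.image_comp,
        himg y _ (hyCp _ hC'), ← Set.image_comp, ← Equiv.Perm.coe_mul, mul_inv_cancel,
        Equiv.Perm.coe_one, Set.image_id]
    have hxi : ∀ C ∈ 𝔅, (x⁻¹ : Perm α) '' C = C := fun C hC => by
      conv_lhs => rw [← hxC C hC]
      rw [← Set.image_comp, ← Equiv.Perm.coe_mul, inv_mul_cancel, Equiv.Perm.coe_one, Set.image_id]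
    obtain ⟨hxF, hxc⟩ := h.mem_center hwH K (fun e => hne₀ ((e ▸ Subgroup.mem_top _ : (⟨f₀, hf₀⟩ : ↥F) ∈ K) C₀ hC₀))
      (fun f C hC => by
        show (x * (f : Perm α) * x⁻¹ * (f : Perm α)⁻¹) '' C = C
        have hfi : ((f : Perm α)⁻¹ : Perm α) '' C ∈ 𝔅 := hmap _ (h.le (inv_mem f.2)) C hC
        rw [Equiv.Perm.coe_mul, Equiv.Perm.coe_mul, Equiv.Perm.coe_mul, Set.image_comp,
          Set.image_comp, Set.image_comp, hxi _ hfi, ← Set.image_comp (f : Perm α),
          ← Equiv.Perm.coe_mul, mul_inv_cancel, Equiv.Perm.coe_one, Set.image_id, hxC C hC])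
    exact hfinal y w a hya hy4 hxF hxc

omit h in
theorem isThreeCycle_of_pairs {a a' b b' c c' d d' : α} (h1 : a ≠ a') (h2 : b ≠ b') (h3 : a ≠ b)
    (h4 : a ≠ b') (h5 : a' ≠ b) (h6 : a' ≠ b') (k1 : c ≠ c') (k2 : d ≠ d') (k3 : c ≠ d)
    (k4 : c ≠ d') (k5 : c' ≠ d) (k6 : c' ≠ d') (hc : c = a) (m1 : c' ≠ a') (m2 : c' ≠ b)
    (m3 : c' ≠ b') (m4 : d ≠ a') (m5 : d ≠ b) (m6 : d ≠ b') (m7 : d' ≠ a') (m8 : d' ≠ b)
    (m9 : d' ≠ b') :
    ((swap c c' * swap d d') * (swap a a' * swap b b') * (swap c c' * swap d d')⁻¹ *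
      (swap a a' * swap b b')⁻¹).IsThreeCycle := by
  subst hc
  obtain ⟨-, -, -, hy, hyf⟩ := double_swap_spec k1 k2 k3 k4 k5 k6
  obtain ⟨-, -, -, hx, hxf⟩ := double_swap_spec h1 h2 h3 h4 h5 h6
  refine CfsgLib.OrderDegrees.isThreeCycle_commutator_of_moved_inter _ _ c hy hx fun p hp hp' => ?_
  by_contra hpc
  by_cases e1 : p = c'
  · exact hp' (hxf p hpc (e1 ▸ m1) (e1 ▸ m2) (e1 ▸ m3))
  by_cases e2 : p = d
  · exact hp' (hxf p hpc (e2 ▸ m4) (e2 ▸ m5) (e2 ▸ m6))
  by_cases e3 : p = d'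
  · exact hp' (hxf p hpc (e3 ▸ m7) (e3 ▸ m8) (e3 ▸ m9))
  exact hp (hyf p hpc e1 e2 e3)

/-- `H` contains the products of two transpositions from some pairing. -/
theorem exists_pairing {k : ℕ} (hk : 2 * k ≤ Fintype.card α) :
    ∃ e : Fin k × Fin 2 ↪ α, ∀ i j, i ≠ j →
      swap (e (i, 0)) (e (i, 1)) * swap (e (j, 0)) (e (j, 1)) ∈ H := by
  obtain ⟨e⟩ : Nonempty (Fin k × Fin 2 ↪ α) :=
    Function.Embedding.nonempty_of_card_le (by simpa [mul_comm] using hk)
  set s : Fin k → Perm α := fun i => swap (e (i, 0)) (e (i, 1))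
  have hcomm : ∀ i j, Commute (s i) (s j) := by
    intro i j
    rcases eq_or_ne i j with rfl | hij
    · exact Commute.refl _
    · refine (Equiv.Perm.disjoint_iff_disjoint_support.2 ?_).commute
      rw [Equiv.Perm.support_swap (e.injective.ne (by simp)),
        Equiv.Perm.support_swap (e.injective.ne (by simp))]
      simp [hij, hij.symm]
  set T : Set (Perm α) := {x | ∃ i j, i ≠ j ∧ x = s i * s j}
  set D := Subgroup.closure T
  have hT : ∀ x ∈ T, ∀ y ∈ T, x * y = y * x := by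
    rintro _ ⟨i, j, -, rfl⟩ _ ⟨i', j', -, rfl⟩
    exact (((hcomm i i').mul_left (hcomm j i')).mul_right ((hcomm i j').mul_left (hcomm j j'))).eq
  have hDc : D ≤ Subgroup.centralizer (D : Set (Perm α)) := by
    have h1 : D ≤ Subgroup.centralizer T := Subgroup.closure_le _ |>.2 fun x hx =>
      Subgroup.mem_centralizer_iff.2 fun y hy => hT y hy x hx
    rwa [← Subgroup.centralizer_closure] at h1
  have hD2 : ∀ x ∈ D, x * x = 1 := by
    intro x hx
    induction hx using Subgroup.closure_induction with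
    | mem x hx =>
      obtain ⟨i, j, -, rfl⟩ := hx
      rw [(hcomm i j).symm.mul_mul_mul_comm, swap_mul_self, swap_mul_self, one_mul]
    | one => rw [one_mul]
    | mul x y hx hy ihx ihy =>
      rw [(show Commute y x from (hDc hy x hx).symm).mul_mul_mul_comm, ihx, ihy, one_mul]
    | inv x _ ih => rw [← mul_inv_rev, ih, inv_one]
  have hDA : D ≤ alternatingGroup α := by
    rw [Subgroup.closure_le]
    rintro _ ⟨i, j, -, rfl⟩
    simp [s, Equiv.Perm.mem_alternatingGroup, Equiv.Perm.sign_swap, e.injective.ne_iff]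
  have hDp : IsPGroup 2 ↥D := fun x => ⟨1, Subtype.ext (by
    show (x : Perm α) ^ (2 ^ 1) = 1
    rw [pow_one, sq, hD2 x x.2])⟩
  obtain ⟨w, -, hw⟩ := h.exists_conj_mem (le_refl (alternatingGroup α)) inf_le_right hDA hDp
  refine ⟨e.trans w.toEmbedding, fun i j hij => ?_⟩
  have := hw _ (Subgroup.subset_closure ⟨i, j, hij, rfl⟩)
  convert this using 1
  simp only [Function.Embedding.trans_apply, Equiv.coe_toEmbedding, Equiv.swap_apply_apply, s]
  group

omit h in
theorem exists_index {k : ℕ} (e : Fin k × Fin 2 ↪ α) (I : Fin k) (s : Finset α)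
    (hs : s.card + 1 < k) : ∃ J, J ≠ I ∧ e (J, 0) ∉ s ∧ e (J, 1) ∉ s := by
  classical
  by_contra hne
  push Not at hne
  have : ∀ J : Fin k, J = I ∨ ∃ r, e (J, r) ∈ s := by
    intro J
    by_cases hJ : J = I
    · exact Or.inl hJ
    · by_cases h0 : e (J, 0) ∈ s
      · exact Or.inr ⟨0, h0⟩
      · exact Or.inr ⟨1, hne J hJ h0⟩
  choose r hr using fun J : {J : Fin k // J ≠ I} => (this J).resolve_left J.2
  have hinj : Function.Injective fun J : {J : Fin k // J ≠ I} => (⟨e (J, r J), hr J⟩ : s) := fun J J' e' =>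
    Subtype.ext (congrArg Prod.fst (e.injective (congrArg Subtype.val e')))
  have h1 := Fintype.card_le_of_injective _ hinj
  rw [Fintype.card_coe, Fintype.card_subtype_compl, Fintype.card_fin, Fintype.card_subtype_eq] at h1
  omega

/-- A primitive such group of degree at least nine contains the alternating group. -/
theorem alternatingGroup_le [IsPreprimitive ↥H α] (h9 : 9 ≤ Fintype.card α) :
    alternatingGroup α ≤ H := by
  obtain ⟨k, hk⟩ := Nat.even_or_odd' (Fintype.card α)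
  obtain ⟨e, he⟩ := h.exists_pairing (k := k) (by omega)
  have hx : ∀ i j r r', i ≠ j →
      swap (e (i, r)) (e (i, r + 1)) * swap (e (j, r')) (e (j, r' + 1)) ∈ H := by
    intro i j r r' hij
    fin_cases r <;> fin_cases r' <;> simp [Equiv.swap_comm (e (i, 1)), Equiv.swap_comm (e (j, 1)), he i j hij]
  have hy : ∀ g ∈ H, ∀ I J r r', I ≠ J →
      swap (g (e (I, r))) (g (e (I, r + 1))) * swap (g (e (J, r'))) (g (e (J, r' + 1))) ∈ H := by
    intro g hg I J r r' hIJ
    have := mul_mem (mul_mem hg (hx I J r r' hIJ)) (inv_mem hg)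
    convert this using 1
    rw [Equiv.swap_apply_apply, Equiv.swap_apply_apply]
    group
  have hne : ∀ {i j : Fin k}, i ≠ j → ∀ r r', e (i, r) ≠ e (j, r') := fun hij r r' e' =>
    hij (congrArg Prod.fst (e.injective e'))
  have hne2 : ∀ i r, e (i, r) ≠ e (i, r + 1) := fun i r e' => by
    have h' : r = r + 1 := congrArg Prod.snd (e.injective e')
    clear e'
    revert r; decide
  -- a three-cycle from two of them meeting in one point
  have finish : ∀ g ∈ H, ∀ i j I J r t, i ≠ j → I ≠ J → g (e (I, t)) = e (i, r) →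
      (∀ p ∈ [g (e (I, t + 1)), g (e (J, 0)), g (e (J, 1))],
        p ≠ e (i, r + 1) ∧ p ≠ e (j, 0) ∧ p ≠ e (j, 1)) → alternatingGroup α ≤ H := by
    intro g hg i j I J r t hij hIJ heq hp
    obtain ⟨m1, m2, m3⟩ := hp _ List.mem_cons_self
    obtain ⟨m4, m5, m6⟩ := hp _ (List.mem_cons_of_mem _ List.mem_cons_self)
    obtain ⟨m7, m8, m9⟩ := hp _ (List.mem_cons_of_mem _ (List.mem_cons_of_mem _ List.mem_cons_self))
    refine alternatingGroup_le_of_isPreprimitive_of_isThreeCycle_mem inferInstance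
      (isThreeCycle_of_pairs (hne2 i r) (hne2 j 0) (hne hij r 0) (hne hij r 1) (hne hij (r + 1) 0)
        (hne hij (r + 1) 1) (g.injective.ne (hne2 I t)) (g.injective.ne (hne2 J 0))
        (g.injective.ne (hne hIJ t 0)) (g.injective.ne (hne hIJ t 1))
        (g.injective.ne (hne hIJ (t + 1) 0)) (g.injective.ne (hne hIJ (t + 1) 1))
        heq m1 m2 m3 m4 m5 m6 m7 m8 m9) ?_
    have hy' := hy g hg I J t 0 hIJ
    have hx' := hx i j r 0 hij
    simp only [zero_add] at hy' hx'
    exact mul_mem (mul_mem (mul_mem hy' hx') (inv_mem hy')) (inv_mem hx')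
  rcases hk with hk | hk
  · -- even degree: some conjugate of a pair meets two pairs
    have hsurj : ∀ p, ∃ q, e q = p := by
      have := (Fintype.bijective_iff_injective_and_card e).2 ⟨e.injective, by simp; omega⟩
      exact this.2
    have h0 : 0 < k := by omega
    obtain ⟨g, hg, I, i, r, t, heq, hcross⟩ : ∃ g ∈ H, ∃ I i r t,
        g (e (I, t)) = e (i, r) ∧ g (e (I, t + 1)) ≠ e (i, r + 1) := by
      by_contra hall
      push Not at hall
      set B : Set α := {e (⟨0, h0⟩, 0), e (⟨0, h0⟩, 1)} with hB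
      have hpair : ∀ g ∈ H, ∃ i, g '' B = {e (i, 0), e (i, 1)} := by
        intro g hg
        obtain ⟨⟨i, r⟩, hi⟩ := hsurj (g (e (⟨0, h0⟩, 0)))
        have h2 := hall g hg ⟨0, h0⟩ i r 0 hi.symm
        simp only [zero_add] at h2
        refine ⟨i, ?_⟩
        rw [hB, Set.image_pair, ← hi, h2]
        fin_cases r
        · rfl
        · exact Set.pair_comm _ _
      have hblock : IsBlock ↥H B := by
        intro g₁ g₂ hne'
        obtain ⟨i₁, h₁⟩ := hpair _ g₁.2
        obtain ⟨i₂, h₂⟩ := hpair _ g₂.2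
        change (g₁ : Perm α) '' B ≠ (g₂ : Perm α) '' B at hne'
        show Disjoint ((g₁ : Perm α) '' B) ((g₂ : Perm α) '' B)
        rw [h₁, h₂] at hne' ⊢
        have hi : i₁ ≠ i₂ := fun e' => hne' (by rw [e'])
        simp [hne hi, hne hi.symm, Set.disjoint_left]
      rcases IsPreprimitive.isTrivialBlock_of_isBlock hblock with h' | h'
      · exact hne2 _ 0 (h' (show e (⟨0, h0⟩, 0) ∈ B by simp [hB]) (show e (⟨0, h0⟩, 0 + 1) ∈ B by simp [hB]))
      · have h'' := congrArg Set.ncard h'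
        rw [hB, Set.ncard_pair (show e (⟨0, h0⟩, 0) ≠ e (⟨0, h0⟩, 1) from hne2 ⟨0, h0⟩ 0), Set.ncard_univ, Nat.card_eq_fintype_card] at h''
        omega
    obtain ⟨⟨i', r'⟩, hi'⟩ := hsurj (g (e (I, t + 1)))
    have hii : i' ≠ i := by
      rintro rfl
      rcases (show ∀ x y : Fin 2, x = y ∨ x = y + 1 by decide) r' r with rfl | rfl
      · exact hne2 I t (g.injective (heq.trans hi'))
      · exact hcross hi'.symm
    obtain ⟨J, hJ, hJ0, hJ1⟩ := exists_index (e.trans g.toEmbedding) I {e (i, r + 1)} (by simp; omega)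
    simp only [Finset.mem_singleton, Function.Embedding.trans_apply, Equiv.coe_toEmbedding] at hJ0 hJ1
    obtain ⟨j, hj, hj0, hj1⟩ := exists_index e i {g (e (I, t + 1)), g (e (J, 0)), g (e (J, 1))}
      (by have := Finset.card_le_three (a := g (e (I, t + 1))) (b := g (e (J, 0))) (c := g (e (J, 1))); omega)
    simp only [Finset.mem_insert, Finset.mem_singleton, not_or] at hj0 hj1
    refine finish g hg i j I J r t hj.symm hJ.symm heq fun p hp => ?_
    simp only [List.mem_cons, List.not_mem_nil, or_false] at hp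
    rcases hp with rfl | rfl | rfl
    exacts [⟨hcross, Ne.symm hj0.1, Ne.symm hj1.1⟩, ⟨hJ0, Ne.symm hj0.2.1, Ne.symm hj1.2.1⟩,
      ⟨hJ1, Ne.symm hj0.2.2, Ne.symm hj1.2.2⟩]
  · -- odd degree: some conjugate of a pair contains the remaining point
    have h0 : 0 < k := by omega
    obtain ⟨o, ho⟩ : ∃ o, ∀ q, e q ≠ o := by
      by_contra hall
      push Not at hall
      have := Fintype.card_le_of_surjective e hall
      simp at this
      omega
    have huniq : ∀ p, (∀ q, e q ≠ p) → p = o := by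
      intro p hp
      by_contra hpo
      have hle : Fintype.card (Fin k × Fin 2) + 2 ≤ Fintype.card α := by
        have hd : Disjoint (Finset.univ.map e) ({p, o} : Finset α) := by
          rw [Finset.disjoint_left]
          intro z hz hz'
          obtain ⟨q, -, rfl⟩ := Finset.mem_map.1 hz
          simp only [Finset.mem_insert, Finset.mem_singleton] at hz'
          exact hz'.elim (hp q) (ho q)
        have h1 := (Finset.card_union_of_disjoint hd).symm.trans_le (Finset.card_le_univ _)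
        rwa [Finset.card_map, Finset.card_pair hpo, Finset.card_univ] at h1
      simp at hle
      omega
    obtain ⟨⟨g, hg⟩, hgo⟩ := MulAction.exists_smul_eq ↥H (e (⟨0, h0⟩, 1)) o
    change g (e (⟨0, h0⟩, 1)) = o at hgo
    obtain ⟨⟨i, r⟩, hi⟩ : ∃ q, e q = g (e (⟨0, h0⟩, 0)) := by
      by_contra hall
      push Not at hall
      exact hne2 ⟨0, h0⟩ 0 (g.injective ((huniq _ hall).trans hgo.symm))
    obtain ⟨J, hJ, hJ0, hJ1⟩ := exists_index (e.trans g.toEmbedding) ⟨0, h0⟩ {e (i, r + 1)} (by simp; omega)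
    simp only [Finset.mem_singleton, Function.Embedding.trans_apply, Equiv.coe_toEmbedding] at hJ0 hJ1
    obtain ⟨j, hj, hj0, hj1⟩ := exists_index e i {g (e (J, 0)), g (e (J, 1))}
      (by have := Finset.card_le_two (a := g (e (J, 0))) (b := g (e (J, 1))); omega)
    simp only [Finset.mem_insert, Finset.mem_singleton, not_or] at hj0 hj1
    refine finish g hg i j ⟨0, h0⟩ J r 0 hj.symm hJ.symm hi.symm fun p hp => ?_
    simp only [zero_add, List.mem_cons, List.not_mem_nil, or_false] at hp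
    rcases hp with rfl | rfl | rfl
    exacts [⟨fun e' => ho _ (e'.symm.trans hgo), fun e' => ho _ (e'.symm.trans hgo),
        fun e' => ho _ (e'.symm.trans hgo)⟩, ⟨hJ0, Ne.symm hj0.1, Ne.symm hj1.1⟩,
      ⟨hJ1, Ne.symm hj0.2, Ne.symm hj1.2⟩]

/-- `F` consists of even permutations. -/
theorem le_alternatingGroup : F ≤ alternatingGroup α := fun f hf =>
  Equiv.Perm.mem_alternatingGroup.2
    (eq_one_of_perfect mul_comm h.perfect (Equiv.Perm.sign.comp F.subtype) ⟨f, hf⟩)

/-- In the primitive case `F` has trivial centre. -/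
theorem center_eq_one [IsPreprimitive ↥H α] [Nonempty α] :
    ∀ z ∈ F, (∀ f ∈ F, z * f = f * z) → z = 1 := by
  intro z hz hzc
  by_contra hz1
  let Z : Subgroup ↥H :=
    { carrier := {x | (x : Perm α) ∈ F ∧ ∀ f ∈ F, (x : Perm α) * f = f * x}
      one_mem' := ⟨one_mem _, fun f _ => by simp⟩
      mul_mem' := fun {x y} hx hy => ⟨mul_mem hx.1 hy.1, fun f hf => by
        rw [Subgroup.coe_mul, mul_assoc, hy.2 f hf, ← mul_assoc, hx.2 f hf, mul_assoc]⟩
      inv_mem' := fun {x} hx => ⟨inv_mem hx.1, fun f hf => by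
        have := hx.2 f hf
        rw [Subgroup.coe_inv, eq_mul_inv_iff_mul_eq, mul_assoc, ← this, inv_mul_cancel_left]⟩ }
  haveI : Z.Normal := ⟨fun x hx g => ⟨h.norm g g.2 x hx.1, fun f hf => by
    have h1 := hx.2 _ (h.norm (g : Perm α)⁻¹ (inv_mem g.2) f hf)
    rw [inv_inv] at h1
    calc (g : Perm α) * x * (g : Perm α)⁻¹ * f =
          g * (x * ((g : Perm α)⁻¹ * f * g)) * (g : Perm α)⁻¹ := by group
      _ = g * (((g : Perm α)⁻¹ * f * g) * x) * (g : Perm α)⁻¹ := by rw [h1]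
      _ = f * (g * x * (g : Perm α)⁻¹) := by group⟩⟩
  haveI : IsPretransitive ↥Z α := CfsgLib.PermGroups.isPretransitive_of_normal_of_preprimitive Z fun e => by
    have : (⟨z, h.le hz⟩ : ↥H) ∈ Z := ⟨hz, hzc⟩
    rw [e, Subgroup.mem_bot] at this
    exact hz1 (congrArg Subtype.val this)
  obtain ⟨a⟩ := ‹Nonempty α›
  have hall : ∀ f ∈ F, ∀ f' ∈ F, f * f' = f' * f := by
    intro f hf f' hf'
    obtain ⟨⟨⟨x, hxH⟩, hx⟩, hxa⟩ := MulAction.exists_smul_eq ↥Z a (f a)
    change x a = f a at hxa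
    have : f = x := by
      ext b
      obtain ⟨⟨⟨w, hwH⟩, hw⟩, hwa⟩ := MulAction.exists_smul_eq ↥Z a b
      change w a = b at hwa
      rw [← hwa]
      calc f (w a) = w (f a) := by
            rw [← Equiv.Perm.mul_apply, ← hw.2 f hf, Equiv.Perm.mul_apply]
        _ = w (x a) := by rw [hxa]
        _ = x (w a) := by rw [← Equiv.Perm.mul_apply, hw.2 x hx.1, Equiv.Perm.mul_apply]
    rw [this]
    exact hx.2 f' hf'
  exact h.ne_bot ((Subgroup.eq_bot_iff_forall _).2 fun f hf => congrArg Subtype.val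
    (eq_one_of_perfect (fun a b => Subtype.ext (hall a a.2 b b.2)) h.perfect (MonoidHom.id ↥F) ⟨f, hf⟩))

end Setting

/-- Transitive groups of degree at least eight: `F` is the alternating group. -/
theorem eq_alternatingGroup {m : ℕ} {H F : Subgroup (Perm (Fin m))} (h : Setting H F)
    [IsPretransitive ↥H (Fin m)] (h8 : 8 ≤ m) : F = alternatingGroup (Fin m) := by
  classical
  haveI : IsPreprimitive ↥H (Fin m) := h.isPreprimitive (by simp; omega)
  haveI : Nonempty (Fin m) := ⟨⟨0, by omega⟩⟩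
  have hFA := h.le_alternatingGroup
  suffices hAH : alternatingGroup (Fin m) ≤ H by
    haveI : IsSimpleGroup ↥(alternatingGroup (Fin m)) := alternatingGroup.isSimpleGroup (by simp; omega)
    have hn : (F.subgroupOf (alternatingGroup (Fin m))).Normal :=
      ⟨fun f hf g => h.norm g (hAH g.2) f hf⟩
    rcases hn.eq_bot_or_eq_top with e | e
    · rw [Subgroup.subgroupOf_eq_bot, disjoint_iff, inf_eq_left.2 hFA] at e
      exact absurd e h.ne_bot
    · exact le_antisymm hFA (Subgroup.subgroupOf_eq_top.1 e)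
  rcases (show m = 8 ∨ 9 ≤ m by omega) with rfl | h9
  swap
  · exact h.alternatingGroup_le (by simpa using h9)
  -- degree eight
  set K := H ⊓ alternatingGroup (Fin 8) with hK
  have hFK : F ≤ K := le_inf h.le hFA
  -- a normal subgroup of `K` is trivial or contains `F`
  have hcontains : ∀ N : Subgroup ↥K, N.Normal → N = ⊥ ∨ F.subgroupOf K ≤ N := by
    intro N hN
    let M : Subgroup ↥F := N.comap (Subgroup.inclusion hFK)
    haveI : M.Normal := hN.comap _
    rcases CfsgLib.Cores.normal_eq_top_or_le_center h.qs M with hM | hM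
    · exact Or.inr fun x hx => (hM ▸ Subgroup.mem_top _ : (⟨(x : Perm (Fin 8)), hx⟩ : ↥F) ∈ M)
    · left
      have hM1 : ∀ x : ↥K, x ∈ N → (x : Perm (Fin 8)) ∈ F → x = 1 := fun x hx hxF =>
        Subtype.ext (h.center_eq_one _ hxF fun f hf =>
          (congrArg Subtype.val (Subgroup.mem_center_iff.1 (hM (show (⟨x, hxF⟩ : ↥F) ∈ M from hx)) ⟨f, hf⟩)).symm)
      rw [Subgroup.eq_bot_iff_forall]
      intro x hx
      refine hM1 x hx (h.cent _ x.2.1 fun f hf => ?_)
      have hc : x * ⟨f, hFK hf⟩ * x⁻¹ * (⟨f, hFK hf⟩ : ↥K)⁻¹ ∈ N := by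
        have := N.mul_mem hx (hN.conj_mem _ (N.inv_mem hx) ⟨f, hFK hf⟩)
        simpa [mul_assoc] using this
      have hcF : ((x * ⟨f, hFK hf⟩ * x⁻¹ * (⟨f, hFK hf⟩ : ↥K)⁻¹ : ↥K) : Perm (Fin 8)) ∈ F :=
        mul_mem (h.norm _ x.2.1 f hf) (inv_mem hf)
      have := congrArg Subtype.val (hM1 _ hc hcF)
      simpa [mul_inv_eq_one, mul_inv_eq_iff_eq_mul] using this
  have h2F : 2 ∣ Nat.card ↥F := by
    haveI : IsPretransitive ↥(F.subgroupOf H) (Fin 8) :=
      haveI : (F.subgroupOf H).Normal := ⟨fun f hf g => h.norm g g.2 f hf⟩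
      CfsgLib.PermGroups.isPretransitive_of_normal_of_preprimitive _ fun e => h.ne_bot (by
        rwa [Subgroup.subgroupOf_eq_bot, disjoint_iff, inf_eq_left.2 h.le] at e)
    have h1 := MulAction.index_stabilizer_of_transitive ↥(F.subgroupOf H) (0 : Fin 8)
    rw [Nat.card_fin] at h1
    rw [← Nat.card_congr (Subgroup.subgroupOfEquivOfLe h.le).toEquiv]
    exact dvd_trans ⟨4, by norm_num⟩ (h1 ▸ Subgroup.index_dvd_card _)
  have hOodd : pPrimeCore 2 ↥K = ⊥ := by
    refine le_bot_iff.1 (sSup_le fun N ⟨hN, hNc⟩ => ?_)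
    refine ((hcontains N hN).resolve_right fun hle => ?_).le
    exact absurd (Nat.Coprime.eq_one_of_dvd
      ((Nat.Coprime.coprime_dvd_left (Subgroup.card_dvd_of_le hle) hNc).symm)
      (by rwa [Nat.card_congr (Subgroup.subgroupOfEquivOfLe hFK).toEquiv])) (by norm_num)
  have hO2 : pCore 2 ↥K = ⊥ := by
    refine le_bot_iff.1 (sSup_le fun N ⟨hN, hNp⟩ => ?_)
    refine ((hcontains N hN).resolve_right fun hle => ?_).le
    haveI : Fact (Nat.Prime 2) := ⟨Nat.prime_two⟩
    have hFp : IsPGroup 2 ↥F := (hNp.to_le hle).of_equiv (Subgroup.subgroupOfEquivOfLe hFK)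
    haveI := hFp.isNilpotent
    exact h.ne_bot ((Subgroup.eq_bot_iff_forall _).2 fun f hf => congrArg Subtype.val
      (eq_one_of_perfect_solvable h.perfect (MonoidHom.id ↥F) ⟨f, hf⟩))
  obtain ⟨P, hP⟩ := h.sylow
  have hPK : (P : Subgroup ↥(alternatingGroup (Fin 8))).map (alternatingGroup (Fin 8)).subtype ≤ K :=
    le_inf hP (Subgroup.map_subtype_le _)
  haveI : Fact (Nat.Prime 2) := ⟨Nat.prime_two⟩
  have hA : Nat.card ↥(alternatingGroup (Fin 8)) = 20160 := by
    rw [nat_card_alternatingGroup]; simp [Nat.factorial]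
  have h64 : 64 ∣ Nat.card ↥K := by
    refine dvd_trans ?_ (Subgroup.card_dvd_of_le hPK)
    rw [Subgroup.card_map_of_injective (Subgroup.subtype_injective _)]
    exact P.pow_dvd_card_of_pow_dvd_card (n := 6) (by rw [hA]; norm_num)
  -- transport to `GL(4,2)`
  let j : ↥(alternatingGroup (Fin 8)) ≃* GL (Fin 4) (ZMod 2) := CfsgLib.InvChar.GLFourTwo.equiv.symm
  set L := (K.subgroupOf (alternatingGroup (Fin 8))).map j.toMonoidHom with hL
  let e : ↥K ≃* ↥L := (Subgroup.subgroupOfEquivOfLe (inf_le_right : K ≤ _)).symm.trans (Subgroup.equivMapOfInjective _ _ j.injective)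
  have hcore : pPrimeCore 2 ↥L = ⊥ ∧ pCore 2 ↥L = ⊥ := by
    constructor
    · refine le_bot_iff.1 (sSup_le fun N ⟨hN, hNc⟩ => ?_)
      have h1 : N.comap e.toMonoidHom ≤ ⊥ := hOodd ▸ le_sSup ⟨hN.comap _, by
        rwa [Nat.card_congr (Equiv.subtypeEquiv e.toEquiv (fun _ => Iff.rfl) :
          ↥(N.comap e.toMonoidHom) ≃ ↥N)]⟩
      intro x hx
      have : e.symm x ∈ N.comap e.toMonoidHom := by simpa using hx
      simpa using h1 this
    · refine le_bot_iff.1 (sSup_le fun N ⟨hN, hNp⟩ => ?_)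
      have h1 : N.comap e.toMonoidHom ≤ ⊥ := hO2 ▸ le_sSup
        ⟨hN.comap _, hNp.comap_of_injective e.toMonoidHom e.injective⟩
      intro x hx
      have : e.symm x ∈ N.comap e.toMonoidHom := by simpa using hx
      simpa using h1 this
  have hK1 : 1 < Nat.card ↥K := by have := Nat.le_of_dvd Nat.card_pos h64; omega
  have hLne : L ≠ ⊥ := fun hb => by
    rw [Nat.card_congr e.toEquiv, hb, Subgroup.card_bot] at hK1; omega
  have hcardK : Nat.card ↥K = 20160 := by
    rw [Nat.card_congr e.toEquiv] at h64 ⊢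
    rcases Cfsg.Agent.S2553.result L hLne hcore.1 hcore.2 with ⟨n, hn5, hn8, ⟨i⟩⟩ | ⟨⟨i⟩⟩ | ⟨⟨i⟩⟩ | ⟨⟨i⟩⟩
    · haveI : Nontrivial (Fin n) := Fin.nontrivial_iff_two_le.2 (by omega)
      rw [Nat.card_congr i.toEquiv, nat_card_alternatingGroup, Nat.card_fin] at h64 ⊢
      revert h64; interval_cases n <;> simp [Nat.factorial]
    · rw [Nat.card_congr i.toEquiv, Nat.card_perm, Nat.card_fin] at h64
      norm_num [Nat.factorial] at h64
    · rw [Nat.card_congr i.toEquiv, Nat.card_perm, Nat.card_fin] at h64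
      norm_num [Nat.factorial] at h64
    · rw [Nat.card_congr i.toEquiv, Matrix.card_GL_field] at h64
      norm_num [Fin.prod_univ_three] at h64
  exact (Subgroup.eq_of_le_of_card_ge (inf_le_right : K ≤ _) (by rw [hA, hcardK])).ge.trans inf_le_left

namespace Setting

variable {α : Type*} [Fintype α] [DecidableEq α] {H F : Subgroup (Perm α)} (h : Setting H F)
include h

/-- Some orbit of `H` contains at least eight points. -/
theorem exists_eight (h8 : 8 ≤ Fintype.card α) :
    ∃ T : Finset α, T.card = 8 ∧ ∀ a ∈ T, ∀ b ∈ T, ∃ g ∈ H, g a = b := by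
  obtain ⟨ε⟩ : Nonempty (Multiplicative (ZMod 2 × ZMod 2 × ZMod 2) ↪ α) :=
    Function.Embedding.nonempty_of_card_le (by simpa using h8)
  let ψ : Multiplicative (ZMod 2 × ZMod 2 × ZMod 2) →* Perm α :=
    (Equiv.Perm.viaEmbeddingHom ε).comp (MulAction.toPermHom _ _)
  have hsign : ∀ v : Multiplicative (ZMod 2 × ZMod 2 × ZMod 2),
      Equiv.Perm.sign (MulAction.toPermHom _ (Multiplicative (ZMod 2 × ZMod 2 × ZMod 2)) v) = 1 := by
    decide +kernel
  have hψA : ψ.range ≤ alternatingGroup α := by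
    rintro _ ⟨v, rfl⟩
    rw [Equiv.Perm.mem_alternatingGroup]
    refine Eq.trans ?_ (hsign v)
    exact @Equiv.Perm.sign_extendDomain _ _ _ _ _ _ _ _ (fun _ => Classical.propDecidable _) _
  have hp : IsPGroup 2 ↥ψ.range := by
    rintro ⟨_, v, rfl⟩
    refine ⟨1, Subtype.ext ?_⟩
    show ψ v ^ (2 ^ 1) = 1
    rw [← map_pow, show v ^ (2 ^ 1) = 1 by revert v; decide, map_one]
  obtain ⟨w, -, hw⟩ := h.exists_conj_mem (le_refl (alternatingGroup α)) inf_le_right hψA hp
  refine ⟨Finset.univ.map (ε.trans w.toEmbedding), by simp, fun a ha b hb => ?_⟩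
  obtain ⟨u, -, rfl⟩ := Finset.mem_map.1 ha
  obtain ⟨v, -, rfl⟩ := Finset.mem_map.1 hb
  refine ⟨_, hw _ ⟨v * u⁻¹, rfl⟩, ?_⟩
  show w (ψ (v * u⁻¹) (w.symm (w (ε u)))) = w (ε v)
  rw [Equiv.symm_apply_apply]
  show w ((MulAction.toPermHom _ _ (v * u⁻¹)).viaEmbedding ε (ε u)) = _
  rw [Equiv.Perm.viaEmbedding_apply, MulAction.toPermHom_apply, MulAction.toPerm_apply, smul_eq_mul,
    inv_mul_cancel_right]

end Setting

/-- `F` is an alternating group of degree at most three less. -/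
theorem exists_alternatingGroup {n : ℕ} {H F : Subgroup (Perm (Fin n))} (h : Setting H F) (hn : 8 ≤ n) :
    ∃ m, (m = n - 3 ∨ m = n - 2 ∨ m = n - 1 ∨ m = n) ∧
      Nonempty (↥F ≃* ↥(alternatingGroup (Fin m))) := by
  classical
  obtain ⟨f₀, hf₀, a, ha⟩ : ∃ f ∈ F, ∃ a, f a ≠ a := by
    by_contra hall
    push Not at hall
    exact h.ne_bot ((Subgroup.eq_bot_iff_forall _).2 fun f hf => Equiv.ext fun b => hall f hf b)
  set Δ : Finset (Fin n) := Finset.univ.filter fun b => ∃ g ∈ H, g a = b with hΔdef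
  have hmemΔ : ∀ b, b ∈ Δ ↔ ∃ g ∈ H, g a = b := fun b => by simp [hΔdef]
  have haΔ : a ∈ Δ := (hmemΔ a).2 ⟨1, one_mem _, rfl⟩
  have hiff : ∀ g ∈ H, ∀ b, g b ∈ Δ ↔ b ∈ Δ := by
    intro g hg b
    simp only [hmemΔ]
    constructor
    · rintro ⟨k, hk, hkb⟩
      exact ⟨g⁻¹ * k, mul_mem (inv_mem hg) hk, by rw [Equiv.Perm.mul_apply, hkb]; exact g.symm_apply_apply b⟩
    · rintro ⟨k, hk, rfl⟩
      exact ⟨g * k, mul_mem hg hk, rfl⟩
  have hne : ∃ f ∈ F, ∃ b ∈ Δ, f b ≠ b := ⟨f₀, hf₀, a, haΔ, ha⟩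
  have hcompl := h.card_compl_le (fun g hg b hb => (hiff g hg b).2 hb) hne
  have hfix : ∀ f ∈ F, ∀ b, b ∉ Δ → f b = b := fun f hf b hb =>
    h.fix_of_card_le (s := ((Δᶜ : Finset (Fin n)) : Set (Fin n)))
      (fun g hg c hc => by simpa [hiff g (h.le hg) c] using hc)
      (by rw [Set.ncard_coe_finset]; omega) f hf b (by simpa using hb)
  have hcardc := Δ.card_compl
  rw [Fintype.card_fin] at hcardc
  have hΔn : Δ.card ≤ n := by simpa using Δ.card_le_univ
  set m := Δ.card with hm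
  have h8 : 8 ≤ m := by
    obtain ⟨T, hT, hTt⟩ := h.exists_eight (by simpa using hn)
    by_cases hTΔ : ∃ c ∈ T, c ∈ Δ
    · obtain ⟨c, hc, hcΔ⟩ := hTΔ
      rw [← hT]
      refine Finset.card_le_card fun d hd => ?_
      obtain ⟨g, hg, rfl⟩ := hTt c hc d hd
      exact (hiff g hg c).2 hcΔ
    · push Not at hTΔ
      have := Finset.card_le_card (s := T) (t := Δᶜ) fun d hd => Finset.mem_compl.2 (hTΔ d hd)
      omega
  refine ⟨m, by omega, ?_⟩
  let ε : {x // x ∈ Δ} ≃ Fin m := Δ.equivFin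
  let W : Subgroup (Perm (Fin n)) :=
    { carrier := {g | ∀ b, g b ∈ Δ ↔ b ∈ Δ}
      one_mem' := fun b => Iff.rfl
      mul_mem' := fun {g k} hg hk b => (hg (k b)).trans (hk b)
      inv_mem' := fun {g} hg b => by
        have := hg (g⁻¹ b)
        rw [show g (g⁻¹ b) = b from g.apply_symm_apply b] at this
        exact this.symm }
  let ρ : ↥W →* Perm (Fin m) := (Equiv.permCongrHom ε).toMonoidHom.comp
    { toFun := fun g => (g : Perm (Fin n)).subtypePerm g.2
      map_one' := by ext; rfl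
      map_mul' := fun g k => by ext; rfl }
  have hρ : ∀ (g : ↥W) (x : Fin m), ((ε.symm (ρ g x)) : Fin n) = (g : Perm (Fin n)) (ε.symm x) := fun g x => by
    simp [ρ, Equiv.permCongrHom, Equiv.permCongr_apply]
  have hHW : H ≤ W := fun g hg => hiff g hg
  let ρH : ↥H →* Perm (Fin m) := ρ.comp (Subgroup.inclusion hHW)
  have hinj : Function.Injective ρH := by
    rw [injective_iff_map_eq_one]
    intro g hg
    have hgΔ : ∀ b ∈ Δ, (g : Perm (Fin n)) b = b := fun b hb => by
      have := hρ (Subgroup.inclusion hHW g) (ε ⟨b, hb⟩)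
      rw [show ρ (Subgroup.inclusion hHW g) = 1 from hg] at this
      simpa using this.symm
    obtain ⟨hgF, -⟩ := h.mem_center_of_fix g.2 (U := (Δ : Set (Fin n)))
      (fun f hf b hb => (hiff f (h.le hf) b).2 hb) hne hgΔ
    exact Subtype.ext (Equiv.ext fun b => if hb : b ∈ Δ then hgΔ b hb else hfix _ hgF b hb)
  set F₀ : Subgroup ↥H := F.subgroupOf H with hF₀
  let eF : ↥F ≃* ↥(F₀.map ρH) :=
    (Subgroup.subgroupOfEquivOfLe h.le).symm.trans (Subgroup.equivMapOfInjective _ _ hinj)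
  have hset : Setting ρH.range (F₀.map ρH) := by
    refine ⟨Subgroup.map_le_range _ _, ?_, (CfsgLib.Cores.isQuasisimple_congr eF).1 h.qs, ?_, ?_⟩
    · rintro _ ⟨g, rfl⟩ _ ⟨f, hf, rfl⟩
      exact ⟨g * f * g⁻¹, h.norm g g.2 f hf, by simp⟩
    · rintro _ ⟨g, rfl⟩ hc
      refine ⟨g, h.cent g g.2 fun f hf => ?_, rfl⟩
      have := hc _ ⟨⟨f, h.le hf⟩, hf, rfl⟩
      rw [← map_mul, ← map_mul] at this
      exact congrArg Subtype.val (hinj this)
    · haveI : Fact (Nat.Prime 2) := ⟨Nat.prime_two⟩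
      let ι : Perm (Fin m) →* Perm (Fin n) :=
        (Equiv.Perm.ofSubtype (p := fun x => x ∈ Δ)).comp (Equiv.permCongrHom ε.symm).toMonoidHom
      have hιW : ∀ p, ι p ∈ W := fun p b => by
        by_cases hb : b ∈ Δ
        · simp only [hb, iff_true, ι, MonoidHom.comp_apply]
          rw [Equiv.Perm.ofSubtype_apply_of_mem _ hb]
          exact Subtype.prop _
        · simp only [hb, iff_false, ι, MonoidHom.comp_apply]
          rwa [Equiv.Perm.ofSubtype_apply_of_not_mem _ hb]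
      have hρι : ∀ p, ρ ⟨ι p, hιW p⟩ = p := fun p => by
        refine Equiv.ext fun x => ε.symm.injective (Subtype.ext ?_)
        rw [hρ]
        show Equiv.Perm.ofSubtype _ ((ε.symm x : {x // x ∈ Δ}) : Fin n) = _
        rw [Equiv.Perm.ofSubtype_apply_coe]
        simp [Equiv.permCongrHom, Equiv.permCongr_apply]
      have hsignι : ∀ p, Equiv.Perm.sign (ι p) = Equiv.Perm.sign p := fun p => by
        show Equiv.Perm.sign (Equiv.Perm.ofSubtype _) = _
        rw [Equiv.Perm.sign_ofSubtype]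
        exact Equiv.Perm.sign_permCongr _ _
      obtain ⟨P₀⟩ : Nonempty (Sylow 2 ↥(alternatingGroup (Fin m))) := inferInstance
      let D := (P₀ : Subgroup ↥(alternatingGroup (Fin m))).map (ι.comp (alternatingGroup (Fin m)).subtype)
      obtain ⟨w, hw, hwD⟩ := h.exists_conj_mem (W := W ⊓ alternatingGroup (Fin n)) inf_le_right
        (inf_le_inf_right _ hHW) (D := D) (by
          rintro _ ⟨p, -, rfl⟩
          exact ⟨hιW _, Equiv.Perm.mem_alternatingGroup.2 ((hsignι p).trans p.2)⟩) (P₀.2.map _)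
      set c : Perm (Fin m) := ρ ⟨w, hw.1⟩ with hc
      have hin : ∀ p ∈ (P₀ : Subgroup ↥(alternatingGroup (Fin m))), c * p * c⁻¹ ∈ ρH.range := by
        intro p hp
        refine ⟨⟨_, hwD _ ⟨p, hp, rfl⟩⟩, ?_⟩
        rw [hc, ← hρι p, ← map_inv, ← map_mul, ← map_mul]
        rfl
      let κ : ↥(alternatingGroup (Fin m)) →* ↥(alternatingGroup (Fin m)) :=
        { toFun := fun p => ⟨c * p * c⁻¹, (inferInstance : (alternatingGroup (Fin m)).Normal).conj_mem _ p.2 c⟩
          map_one' := by ext; simp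
          map_mul' := fun p q => Subtype.ext (by simp only [Subgroup.coe_mul]; group) }
      have hκ : Function.Injective κ := fun p q e =>
        Subtype.ext (mul_left_cancel (mul_right_cancel (congrArg Subtype.val e)))
      refine ⟨Sylow.ofCard ((P₀ : Subgroup _).map κ) ?_, ?_⟩
      · rw [Subgroup.card_map_of_injective hκ, P₀.card_eq_multiplicity]
      · rintro _ ⟨_, ⟨p, hp, rfl⟩, rfl⟩
        exact hin p hp
  haveI : IsPretransitive ↥ρH.range (Fin m) := by
    refine (MulAction.isPretransitive_iff_base (ε ⟨a, haΔ⟩)).2 fun x => ?_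
    obtain ⟨g, hg, hga⟩ := (hmemΔ _).1 (ε.symm x).2
    refine ⟨⟨_, ⟨g, hg⟩, rfl⟩, ε.symm.injective (Subtype.ext ?_)⟩
    show ((ε.symm (ρ (Subgroup.inclusion hHW ⟨g, hg⟩) (ε ⟨a, haΔ⟩))) : Fin n) = _
    rw [hρ]
    simpa using hga
  exact ⟨eF.trans (MulEquiv.subgroupCongr (eq_alternatingGroup hset h8))⟩

end CfsgLib.LargeSubgroups.AltSylow
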