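import Cfsg.Agent.Lib.LargeSubgroups.FrakM

/-!
The asymmetric case: `O_p(M)` is weakly closed in `G`.
-/

set_option autoImplicit false

namespace CfsgLib.LargeSubgroups

open Subgroup CfsgLib.FFModules
open scoped commutatorElement

local notation "MC[" g "]" => Subgroup.map (MulEquiv.toMonoidHom (MulAut.conj g))
local notation "YY[" p "," M "]" => Cfsg.largestPReducedOf p M
local notation "OM[" p "," T "]" => Cfsg.omegaOne p (T ⊓ Subgroup.centralizer (SetLike.coe T))

variable {G : Type*} [Group G] {p : ℕ}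

/-- Two conjugates of an asymmetric subgroup normalising each other commute. -/
theorem le_centralizer_of_asymmetric {A : Subgroup G} (hA : ¬ Cfsg.IsSymmetricIn A) (a b : G)
    (h1 : MC[a] A ≤ normalizer ((MC[b] A : Subgroup G) : Set G))
    (h2 : MC[b] A ≤ normalizer ((MC[a] A : Subgroup G) : Set G)) :
    MC[a] A ≤ centralizer ((MC[b] A : Subgroup G) : Set G) := by
  rw [← commutator_eq_bot_iff_le_centralizer]
  have hab : MC[a] (MC[a⁻¹ * b] A) = MC[b] A := by rw [← map_conj_mul, mul_inv_cancel_left]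
  have hle : ⁅MC[a] A, MC[b] A⁆ ≤ MC[a] A ⊓ MC[b] A := by
    rw [le_inf_iff, commutator_le, commutator_le]
    constructor
    · intro x hx y hy
      rw [commutatorElement_def, show x * y * x⁻¹ * y⁻¹ = x * (y * x⁻¹ * y⁻¹) by group]
      exact mul_mem hx ((Subgroup.mem_normalizer_iff.1 (h2 hy) _).1 (inv_mem hx))
    · intro x hx y hy
      rw [commutatorElement_def]
      exact mul_mem ((Subgroup.mem_normalizer_iff.1 (h1 hx) y).1 hy) (inv_mem hy)
  rw [← hab, ← map_commutator] at hle ⊢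
  rw [← map_inf _ _ _ (MulAut.conj a).injective] at hle
  rw [Subgroup.map_eq_bot_iff_of_injective _ (MulAut.conj a).injective]
  by_contra hne
  exact hA ⟨a⁻¹ * b, hne, (map_le_map_iff_of_injective (MulAut.conj a).injective).1 hle⟩

variable [Finite G] [Fact p.Prime] {M : Subgroup G} {S : Sylow p G}

/-- `Ω₁(Z(T^g)) = Y^g`, `Y^g ≤ T^g` for `T = O_p(M)`, `Y = Y_M`. -/
theorem omegaCenter_conj_eq (hSM : (S : Subgroup G) ≤ M) (hM : Cfsg.IsInFrakM p M) (g : G) :
    OM[p, MC[g] (Cfsg.pCoreOf p M)] = MC[g] (YY[p,M]) := by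
  rw [largestPReducedOf_eq hSM hM, map_conj_omegaCenter_eq]

/-- A `p`-subgroup of `C(Y^g)` normalising `T^g` lies in `T^g`. -/
theorem le_conj_pCoreOf (hSM : (S : Subgroup G) ≤ M) (hM : Cfsg.IsInFrakM p M) (g : G)
    {P : Subgroup G} (hP : IsPGroup p P)
    (hPC : P ≤ centralizer ((MC[g] (YY[p,M]) : Subgroup G) : Set G))
    (hn : P ≤ normalizer ((MC[g] (Cfsg.pCoreOf p M) : Subgroup G) : Set G)) :
    P ≤ MC[g] (Cfsg.pCoreOf p M) := by
  have h := le_pCoreOf_of_le_centralizer hSM hM (P := MC[g⁻¹] P) (hP.map _) ?_ (Or.inl ?_)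
  · have := map_mono (f := (MulAut.conj g).toMonoidHom) h
    rwa [← map_conj_mul, mul_inv_cancel, map_conj_one] at this
  · rintro _ ⟨x, hx, rfl⟩ y hy
    have := hPC hx _ (conj_mem_map (g := g) hy)
    show y * (g⁻¹ * x * g⁻¹⁻¹) = g⁻¹ * x * g⁻¹⁻¹ * y
    calc y * (g⁻¹ * x * g⁻¹⁻¹) = g⁻¹ * ((g * y * g⁻¹) * x) * g := by group
      _ = g⁻¹ * (x * (g * y * g⁻¹)) * g := by rw [this]
      _ = g⁻¹ * x * g⁻¹⁻¹ * y := by group
  · refine (map_conj_le_normalizer hn g⁻¹).trans ?_
    rw [map_conj_inv_map]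

/-- A path of mutually normalising conjugates of `T`. -/
def IsConjPath (T : Subgroup G) (n : ℕ) (f : ℕ → Subgroup G) : Prop :=
  (∀ i ≤ n, ∃ g : G, f i = MC[g] T) ∧
    ∀ i < n, f i ≤ normalizer (f (i + 1) : Set G) ∧ f (i + 1) ≤ normalizer (f i : Set G)

theorem IsConjPath.omega_le (hSM : (S : Subgroup G) ≤ M) (hM : Cfsg.IsInFrakM p M)
    (hasym : ¬ Cfsg.IsSymmetricIn (YY[p,M])) :
    ∀ {n : ℕ} {f : ℕ → Subgroup G}, IsConjPath (Cfsg.pCoreOf p M) n f →
      OM[p, (f 0)] ≤ f n := by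
  intro n
  induction n with
  | zero => exact fun {f} _ => (omegaOne_le _).trans inf_le_left
  | succ n ih =>
    intro f hf
    have h1 : OM[p, (f 0)] ≤ f n :=
      ih ⟨fun i hi => hf.1 i (by omega), fun i hi => hf.2 i (by omega)⟩
    have h2 : OM[p, (f (n + 1))] ≤ f 1 := by
      have := ih (f := fun i => f (n + 1 - i))
        ⟨fun i _ => hf.1 (n + 1 - i) (by omega), fun i hi => by
          obtain ⟨ha, hb⟩ := hf.2 (n - i) (by omega)
          rw [show n - i + 1 = n + 1 - i by omega] at ha hb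
          refine ⟨?_, ?_⟩
          · show f (n + 1 - i) ≤ normalizer (f (n + 1 - (i + 1)) : Set G)
            rw [show n + 1 - (i + 1) = n - i by omega]; exact hb
          · show f (n + 1 - (i + 1)) ≤ normalizer (f (n + 1 - i) : Set G)
            rw [show n + 1 - (i + 1) = n - i by omega]; exact ha⟩
      simpa using this
    have hN1 : OM[p, (f 0)] ≤ normalizer (f (n + 1) : Set G) := h1.trans (hf.2 n (by omega)).1
    have hN2 : OM[p, (f (n + 1))] ≤ normalizer (f 0 : Set G) := h2.trans (hf.2 0 (by omega)).2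
    obtain ⟨a, ha⟩ := hf.1 0 (by omega)
    obtain ⟨b, hb⟩ := hf.1 (n + 1) le_rfl
    rw [hb] at hN1 hN2 ⊢
    rw [ha] at hN1 hN2 ⊢
    have hA := omegaCenter_conj_eq hSM hM a
    have hB := omegaCenter_conj_eq hSM hM b
    have h1' := hN1.trans (normalizer_le_normalizer_omegaCenter (p := p) _)
    have h2' := hN2.trans (normalizer_le_normalizer_omegaCenter (p := p) _)
    rw [hA] at hN1 ⊢
    rw [hA, hB] at h1' h2'
    exact le_conj_pCoreOf hSM hM b
      ((isPGroup_of_elemAb (reducedIn_largestPReducedOf M).elemAb).map _)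
      (le_centralizer_of_asymmetric hasym a b h1' h2') hN1

/-- In the asymmetric case `O_p(M)` is weakly closed in `S` with respect to `G`. -/
theorem isWeaklyClosed_pCoreOf (hpar : Cfsg.IsOfParabolicCharacteristic p G)
    (hSM : (S : Subgroup G) ≤ M) (hM : Cfsg.IsInFrakM p M)
    (hasym : ¬ Cfsg.IsSymmetricIn (YY[p,M])) :
    Cfsg.IsWeaklyClosed (Cfsg.pCoreOf p M) (S : Subgroup G) := by
  set T := Cfsg.pCoreOf p M with hT
  have hTS : T ≤ (S : Subgroup G) := (pCoreOf_eq_inf hSM hM).le.trans inf_le_left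
  have hSN : (S : Subgroup G) ≤ normalizer (T : Set G) := hSM.trans (le_normalizer_pCoreOf M)
  refine ⟨hTS, fun g hg => ?_⟩
  by_contra hne
  -- a second conjugate of `T` such that the two normalise each other
  obtain ⟨x, hxne, hx1, hx2⟩ : ∃ x, MC[x] T ≠ T ∧ MC[x] T ≤ normalizer (T : Set G) ∧
      T ≤ normalizer ((MC[x] T : Subgroup G) : Set G) := by
    by_cases hS' : (S : Subgroup G) ≤ normalizer ((MC[g] T : Subgroup G) : Set G)
    · exact ⟨g, hne, hg.trans hSN, hTS.trans hS'⟩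
    · obtain ⟨w, -, hw1, hw2, hw3⟩ := exists_normalizing_conj S.2 hg hS'
      refine ⟨g⁻¹ * (w * g), fun e => hw1 ?_, ?_, ?_⟩
      · have := congrArg (MC[g]) e
        rw [← map_conj_mul, mul_inv_cancel_left, map_conj_mul] at this
        exact this
      · rw [map_conj_mul, map_conj_mul]
        refine (map_conj_le_normalizer hw2 g⁻¹).trans ?_
        rw [map_conj_inv_map]
      · rw [map_conj_mul, map_conj_mul]
        refine le_trans ?_ (map_conj_le_normalizer hw3 g⁻¹)
        rw [map_conj_inv_map]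
  set 𝒞 : Set (Subgroup G) := {a | ∃ n f, IsConjPath T n f ∧ f 0 = T ∧ f n = a}
  set W := sSup ((fun a => OM[p, a]) '' 𝒞)
  have hWT : W ≤ T := by
    refine sSup_le ?_
    rintro _ ⟨a, ⟨n, f, hf, h0, rfl⟩, rfl⟩
    have := IsConjPath.omega_le hSM hM hasym (n := n) (f := fun i => f (n - i))
      ⟨fun i _ => hf.1 (n - i) (by omega), fun i hi => by
        obtain ⟨ha, hb⟩ := hf.2 (n - (i + 1)) (by omega)
        rw [show n - (i + 1) + 1 = n - i by omega] at ha hb
        exact ⟨hb, ha⟩⟩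
    simp only [Nat.sub_zero, Nat.sub_self] at this
    rw [h0] at this
    exact this
  have hYW : YY[p,M] ≤ W := by
    rw [largestPReducedOf_eq hSM hM]
    exact le_sSup ⟨T, ⟨0, fun _ => T, ⟨fun _ _ => ⟨1, (map_conj_one T).symm⟩,
      fun i hi => absurd hi (by omega)⟩, rfl, rfl⟩, rfl⟩
  have hW1 : W ≠ ⊥ := fun e => largestPReducedOf_ne_bot hSM hM (le_bot_iff.1 (hYW.trans e.le))
  have hinv : ∀ z : G, (∀ a ∈ 𝒞, MC[z] a ∈ 𝒞) → z ∈ normalizer (W : Set G) := by
    intro z hz
    refine mem_normalizer_of_map_conj_le (map_le_iff_le_comap.2 (sSup_le ?_))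
    rintro _ ⟨a, ha, rfl⟩
    rw [← map_le_iff_le_comap]
    exact (map_conj_omegaCenter_eq (p := p) a z).le.trans (le_sSup ⟨_, hz a ha, rfl⟩)
  have hconj : ∀ (z : G) {n : ℕ} {f : ℕ → Subgroup G}, IsConjPath T n f →
      IsConjPath T n (fun i => MC[z] (f i)) := by
    refine fun z n f hf => ⟨fun i hi => ?_, fun i hi => ⟨?_, ?_⟩⟩
    · obtain ⟨a, ha⟩ := hf.1 i hi
      exact ⟨z * a, by show MC[z] (f i) = _; rw [map_conj_mul, ha]⟩
    · exact map_conj_le_normalizer (hf.2 i hi).1 z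
    · exact map_conj_le_normalizer (hf.2 i hi).2 z
  have hMW : M ≤ normalizer (W : Set G) := fun m hm => hinv m fun a ha => by
    obtain ⟨n, f, hf, h0, rfl⟩ := ha
    refine ⟨n, _, hconj m hf, ?_, rfl⟩
    show MC[m] (f 0) = T
    rw [h0, map_conj_eq_self (le_normalizer_pCoreOf M hm)]
  have hxW : x ∈ normalizer (W : Set G) := hinv x fun a ha => by
    obtain ⟨n, f, hf, h0, rfl⟩ := ha
    have hf' := hconj x hf
    refine ⟨n + 1, fun i => if i = 0 then T else MC[x] (f (i - 1)),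
      ⟨fun i hi => ?_, fun i hi => ?_⟩, rfl, by simp⟩
    · by_cases h : i = 0
      · exact ⟨1, by simp only [if_pos h]; rw [map_conj_one]⟩
      · simpa [h] using hf'.1 (i - 1) (by omega)
    · by_cases h : i = 0
      · subst h
        simp only [Nat.zero_add, if_true, if_neg (by norm_num : ¬ (1 : ℕ) = 0), Nat.sub_self]
        rw [h0]
        exact ⟨hx2, hx1⟩
      · have := hf'.2 (i - 1) (by omega)
        rw [show i - 1 + 1 = i by omega] at this
        simpa [h] using this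
  have hxD := le_dag hpar hSM hM hMW ((isPGroup_pCoreOf M).to_le hWT) hW1 le_rfl hxW
  exact hxne (map_conj_pCoreOf_eq hSM hM hxD hx1)

theorem normalizer_le_normalizer_pCoreOf_of_wc
    (h : Cfsg.IsWeaklyClosed (Cfsg.pCoreOf p M) (S : Subgroup G)) {L : Subgroup G}
    (hL : IsPGroup p L) (hTL : Cfsg.pCoreOf p M ≤ L) :
    normalizer (L : Set G) ≤ normalizer (Cfsg.pCoreOf p M : Set G) := fun n hn =>
  mem_normalizer_of_map_conj_eq (wc_in_pGroup h hL hTL
    ((map_mono hTL).trans (map_conj_eq_self hn).le))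

/-- An overgroup of `O_p(M)` meets `N(O_p(M))` in a parabolic subgroup. -/
theorem coprime_relIndex_normalizer_of_wc
    (h : Cfsg.IsWeaklyClosed (Cfsg.pCoreOf p M) (S : Subgroup G)) {L : Subgroup G}
    (hTL : Cfsg.pCoreOf p M ≤ L) :
    ∃ P : Sylow p L, Cfsg.pCoreOf p M ≤ (P : Subgroup L).map L.subtype ∧
      (P : Subgroup L).map L.subtype ≤ normalizer (Cfsg.pCoreOf p M : Set G) := by
  obtain ⟨P, hP⟩ := ((isPGroup_subgroupOf hTL).2 (isPGroup_pCoreOf M)).exists_le_sylow
  have hTP : Cfsg.pCoreOf p M ≤ (P : Subgroup L).map L.subtype :=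
    fun t ht => ⟨⟨t, hTL ht⟩, hP ht, rfl⟩
  exact ⟨P, hTP, wc_le_normalizer h (P.2.map _) hTP⟩

end CfsgLib.LargeSubgroups
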