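import Cfsg.Agent.Lib.LargeSubgroups.Basic

/-!
Normal closures inside a subgroup, conjugation of `O_p`, and the nilpotency trick used for
`p`-closedness.
-/

set_option autoImplicit false

namespace CfsgLib.LargeSubgroups

open Subgroup CfsgLib.FFModules
open scoped commutatorElement

local notation "MC[" g "]" => Subgroup.map (MulEquiv.toMonoidHom (MulAut.conj g))

variable {G : Type*} [Group G] {p : ℕ}

/-- The normal closure of `A` in `H`, in the ambient group. -/
abbrev closureIn (A H : Subgroup G) : Subgroup G :=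
  (normalClosure ((A.subgroupOf H : Subgroup H) : Set H)).map H.subtype

theorem le_closureIn {A H : Subgroup G} (h : A ≤ H) : A ≤ closureIn A H := fun a ha =>
  ⟨⟨a, h ha⟩, subset_normalClosure ha, rfl⟩

theorem closureIn_le (A H : Subgroup G) : closureIn A H ≤ H := map_subtype_le _

theorem le_normalizer_closureIn (A H : Subgroup G) :
    H ≤ normalizer (closureIn A H : Set G) := by
  have h : (closureIn A H).subgroupOf H = normalClosure ((A.subgroupOf H : Subgroup H) : Set H) :=
    comap_map_eq_self_of_injective H.subtype_injective _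
  rw [← normal_subgroupOf_iff_le_normalizer (closureIn_le A H), h]
  infer_instance

theorem closureIn_le_of {A H N : Subgroup G} (hAN : A ≤ N) (hHN : H ≤ normalizer (N : Set G)) :
    closureIn A H ≤ N := by
  rw [closureIn, map_le_iff_le_comap]
  have : (N.comap H.subtype).Normal := by
    refine ⟨fun x hx h => ?_⟩
    exact (Subgroup.mem_normalizer_iff.1 (hHN h.2) x).1 hx
  exact normalClosure_le_normal fun x hx => hAN hx

theorem closureIn_eq {A H K : Subgroup G} (hAH : A ≤ H) (hAK : A ≤ K)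
    (hHK : H ≤ normalizer (K : Set G))
    (hmin : ∀ N : Subgroup G, A ≤ N → H ≤ normalizer (N : Set G) → K ≤ N) :
    closureIn A H = K :=
  le_antisymm (closureIn_le_of hAK hHK)
    (hmin _ (le_closureIn hAH) (le_normalizer_closureIn A H))

section
variable [Finite G]

theorem map_conj_pCoreOf (L : Subgroup G) (c : G) :
    MC[c] (Cfsg.pCoreOf p L) = Cfsg.pCoreOf p (MC[c] L) := by
  have key : ∀ (L : Subgroup G) (c : G), MC[c] (Cfsg.pCoreOf p L) ≤ Cfsg.pCoreOf p (MC[c] L) :=
    fun L c => le_pCoreOf (map_mono (pCoreOf_le L))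
      (map_conj_le_normalizer (le_normalizer_pCoreOf L) c) ((isPGroup_pCoreOf L).map _)
  refine le_antisymm (key L c) ?_
  have := map_mono (f := (MulAut.conj c).toMonoidHom) (key (MC[c] L) c⁻¹)
  rw [map_conj_inv_map, ← map_conj_mul, mul_inv_cancel, map_conj_one] at this
  exact this

theorem charP_map_conj {L : Subgroup G}
    (h : L ⊓ centralizer (Cfsg.pCoreOf p L : Set G) ≤ Cfsg.pCoreOf p L) (c : G) :
    MC[c] L ⊓ centralizer (Cfsg.pCoreOf p (MC[c] L) : Set G) ≤ Cfsg.pCoreOf p (MC[c] L) := by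
  rw [← map_conj_pCoreOf]
  rintro x ⟨hxL, hxC⟩
  refine mem_map_conj_iff.2 (h ⟨mem_map_conj_iff.1 hxL, fun y hy => ?_⟩)
  have := hxC _ (conj_mem_map (g := c) hy)
  calc y * (c⁻¹ * x * c) = c⁻¹ * ((c * y * c⁻¹) * x) * c := by group
    _ = c⁻¹ * (x * (c * y * c⁻¹)) * c := by rw [this]
    _ = (c⁻¹ * x * c) * y := by group

/-- If every `p'`-element of `N` is central modulo the `p`-group `B`, every `p`-subgroup of `N`
lies in `O_p(N)`. -/
theorem le_pCoreOf_of_coprime_central [Fact p.Prime] {N B : Subgroup G} (hBN : B ≤ N)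
    (hNB : N ≤ normalizer (B : Set G)) (hB : IsPGroup p B)
    (hcomm : ∀ x ∈ N, (orderOf x).Coprime p → ∀ y ∈ N, x * y * x⁻¹ * y⁻¹ ∈ B)
    {P : Subgroup G} (hP : IsPGroup p P) (hPN : P ≤ N) : P ≤ Cfsg.pCoreOf p N := by
  obtain ⟨Q, hQ⟩ := ((isPGroup_subgroupOf (sup_le hPN hBN)).2
    (IsPGroup.to_sup_of_normal_right' hP hB (hPN.trans hNB))).exists_le_sylow
  obtain ⟨hQN, hQp, hQi⟩ := sylow_map_props N Q
  set P₁ := (Q : Subgroup N).map N.subtype
  have hPB : P ⊔ B ≤ P₁ := fun x hx => ⟨⟨x, sup_le hPN hBN hx⟩, hQ hx, rfl⟩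
  have hR : (Cfsg.pResidual p N).map N.subtype ≤ normalizer (P₁ : Set G) := by
    refine pResidualMap_le_iff.2 fun x hx hxc => mem_normalizer_of_map_conj_le ?_
    rintro _ ⟨y, hy, rfl⟩
    have h := mul_mem ((le_sup_right.trans hPB) (hcomm x hx hxc y (hQN hy))) hy
    show x * y * x⁻¹ ∈ P₁
    simpa using h
  have hN := le_sup_of_coprime_relIndex (p := p) (pResidualMap_le N) hQN
    (le_normalizer.trans (pResidualMap_le_normalizer N)) hQi
    (fun x hx => exists_pPow_mem_pResidualMap hx)
  exact (le_sup_left.trans hPB).trans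
    (le_pCoreOf hQN (hN.trans (sup_le hR le_normalizer)) hQp)

end

end CfsgLib.LargeSubgroups
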