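import Cfsg.Agent.Lib.LargeSubgroups.Asym
import Cfsg.Agent.Lib.LargeSubgroups.Closure

/-!
Members of `ℌ_G(O_p(M))` and the choice of such members.
-/

set_option autoImplicit false

namespace CfsgLib.LargeSubgroups

open Subgroup CfsgLib.FFModules
open scoped commutatorElement

local notation "MC[" g "]" => Subgroup.map (MulEquiv.toMonoidHom (MulAut.conj g))
local notation "YY[" p "," M "]" => Cfsg.largestPReducedOf p M
local notation "TT[" p "," M "]" => Cfsg.pCoreOf p M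

variable {G : Type*} [Group G] [Finite G] {p : ℕ} [Fact p.Prime] {M H : Subgroup G}

theorem coprime_relIndex_pCoreOf_centralizer {S : Sylow p G} (hSM : (S : Subgroup G) ≤ M)
    (hM : Cfsg.IsInFrakM p M) :
    (TT[p,M].relIndex (centralizer (YY[p,M] : Set G))).Coprime p := by
  have hSN := hSM.trans (largestPReducedOf_le_normalizer (p := p) M)
  have h := coprime_relIndex_inf_centralizer hSN (V := YY[p,M]) le_rfl
    (coprime_of_sylow_relIndex S hSN)
  rwa [← pCoreOf_eq_inf hSM hM, inf_eq_right.2 (centralizer_le_normalizer' _)] at h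

theorem charP_of_frakH (hH : Cfsg.IsInFrakH p M H) :
    H ⊓ centralizer (Cfsg.pCoreOf p H : Set G) ≤ Cfsg.pCoreOf p H :=
  charP_subgroup_iff.1 hH.1

theorem largestPReducedOf_le_of_frakH (hH : Cfsg.IsInFrakH p M H) : YY[p,M] ≤ H :=
  (largestPReducedOf_le_pCoreOf M).trans hH.2.1

/-- Minimality forces `H = ⟨T^H⟩`. -/
theorem closureIn_eq_self {T Y : Subgroup G} (hTH : T ≤ H) (hY : ¬ Y ≤ Cfsg.pCoreOf p H)
    (hmin : ∀ P : Subgroup G, T ≤ P → P < H → Y ≤ Cfsg.pCoreOf p P) : closureIn T H = H := by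
  refine le_antisymm (closureIn_le T H) ?_
  by_contra hne
  exact hY ((hmin _ (le_closureIn hTH) (lt_of_le_not_ge (closureIn_le T H) hne)).trans
    (pCoreOf_le_pCoreOf (closureIn_le T H) (le_normalizer_closureIn T H)))

theorem closureIn_pCoreOf_eq (hH : Cfsg.IsInFrakH p M H) : closureIn TT[p,M] H = H :=
  closureIn_eq_self hH.2.1 hH.2.2.1 hH.2.2.2

/-- If `H = ⟨T^H⟩` then `H = O^p(H) T`. -/
theorem pResidualMap_sup_eq {T : Subgroup G} (hTH : T ≤ H) (h : closureIn T H = H) :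
    (Cfsg.pResidual p H).map H.subtype ⊔ T = H := by
  refine le_antisymm (sup_le (pResidualMap_le H) hTH) ?_
  set R := Cfsg.pResidual p H with hR
  have : R.Normal := pResidual_normal
  have hq : IsPGroup p (H ⧸ R) := isPGroup_quotient_pResidual
  haveI : Group.IsNilpotent (H ⧸ R) := hq.isNilpotent
  set X := (R.map H.subtype ⊔ T).subgroupOf H with hX
  rw [← subgroupOf_eq_top]
  by_contra hne
  have hRX : R ≤ X := fun x hx => mem_sup_left (mem_map_of_mem _ hx)
  have hne' : X.map (QuotientGroup.mk' R) ≠ ⊤ := fun e => hne (by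
    rw [← comap_top (QuotientGroup.mk' R), ← e, comap_map_eq, QuotientGroup.ker_mk',
      sup_eq_left.2 hRX])
  obtain ⟨N, hN, hle⟩ := (eq_top_or_exists_le_coatom (X.map (QuotientGroup.mk' R))).resolve_left hne'
  haveI : N.Normal := NormalizerCondition.normal_of_coatom N Group.normalizerCondition_of_isNilpotent hN
  refine hN.1 (top_le_iff.1 fun q _ => ?_)
  obtain ⟨x, rfl⟩ := QuotientGroup.mk'_surjective R q
  have hcl : closureIn T H ≤ (N.comap (QuotientGroup.mk' R)).map H.subtype := by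
    refine map_mono (normalClosure_le_normal fun t ht => ?_)
    exact hle (mem_map_of_mem _ (show t ∈ X from mem_sup_right ht))
  rw [h] at hcl
  obtain ⟨y, hy, hyx⟩ := hcl x.2
  rwa [Subtype.ext hyx] at hy

/-- A `p`-group normalised by `T` normalises `T` when `T` is weakly closed. -/
theorem le_normalizer_of_wc {S : Sylow p G}
    (h : Cfsg.IsWeaklyClosed TT[p,M] (S : Subgroup G)) {U : Subgroup G} (hU : IsPGroup p U)
    (hn : TT[p,M] ≤ normalizer (U : Set G)) : U ≤ normalizer (TT[p,M] : Set G) :=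
  le_sup_right.trans (wc_le_normalizer h
    (IsPGroup.to_sup_of_normal_right' (isPGroup_pCoreOf M) hU hn) le_sup_left)

theorem pCoreOf_le_normalizer_of_wc {S : Sylow p G}
    (h : Cfsg.IsWeaklyClosed TT[p,M] (S : Subgroup G)) {L : Subgroup G} (hTL : TT[p,M] ≤ L) :
    Cfsg.pCoreOf p L ≤ normalizer (TT[p,M] : Set G) :=
  le_normalizer_of_wc h (isPGroup_pCoreOf L) (hTL.trans (le_normalizer_pCoreOf L))

/-- Characteristic `p` is inherited by a minimal overgroup of `T` inside a group of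
characteristic `p`. -/
theorem charP_of_closureIn_eq {S : Sylow p G}
    (h : Cfsg.IsWeaklyClosed TT[p,M] (S : Subgroup G)) {L : Subgroup G} (hTH : TT[p,M] ≤ H)
    (hHL : H ≤ L) (hL : L ⊓ centralizer (Cfsg.pCoreOf p L : Set G) ≤ Cfsg.pCoreOf p L)
    (hgen : closureIn TT[p,M] H = H) :
    H ⊓ centralizer (Cfsg.pCoreOf p H : Set G) ≤ Cfsg.pCoreOf p H := by
  set U := Cfsg.pCoreOf p L with hU
  have hHU : H ≤ normalizer (U : Set G) := hHL.trans (le_normalizer_pCoreOf L)
  have hHN : H ≤ normalizer ((U ⊓ H : Subgroup G) : Set G) := le_normalizer_inf_of hHU le_normalizer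
  have hUH : U ⊓ H ≤ Cfsg.pCoreOf p H :=
    le_pCoreOf inf_le_right hHN (isPGroup_pCoreOf L).to_inf_left
  -- the elements of `H` acting trivially on `U / (U ∩ H)`
  let Z : Subgroup G :=
    { carrier := {g | g ∈ H ∧ ∀ u ∈ U, u * g * u⁻¹ * g⁻¹ ∈ U ⊓ H}
      one_mem' := ⟨one_mem _, fun u _ => by simp⟩
      mul_mem' := by
        rintro a b ⟨ha, ha'⟩ ⟨hb, hb'⟩
        refine ⟨mul_mem ha hb, fun u hu => ?_⟩
        have e : u * (a * b) * u⁻¹ * (a * b)⁻¹ =
            (u * a * u⁻¹ * a⁻¹) * (a * (u * b * u⁻¹ * b⁻¹) * a⁻¹) := by group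
        rw [e]
        exact mul_mem (ha' u hu) ((Subgroup.mem_normalizer_iff.1 (hHN ha) _).1 (hb' u hu))
      inv_mem' := by
        rintro a ⟨ha, ha'⟩
        refine ⟨inv_mem ha, fun u hu => ?_⟩
        have := (Subgroup.mem_normalizer_iff.1 (hHN (inv_mem ha)) _).1 (inv_mem (ha' u hu))
        simpa [mul_assoc] using this }
  have hHZ : H ≤ Z := by
    refine hgen.ge.trans (closureIn_le_of (fun t ht => ⟨hTH ht, fun u hu => ⟨?_, ?_⟩⟩) ?_)
    · rw [show u * t * u⁻¹ * t⁻¹ = u * (t * u⁻¹ * t⁻¹) by group]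
      exact mul_mem hu ((Subgroup.mem_normalizer_iff.1 (hHU (hTH ht)) _).1 (inv_mem hu))
    · exact H.mul_mem (hTH ((Subgroup.mem_normalizer_iff.1
        (pCoreOf_le_normalizer_of_wc h (hTH.trans hHL) hu) t).1 ht)) (H.inv_mem (hTH ht))
    · refine le_normalizer_of_conj_le fun x hx => ?_
      rintro _ ⟨g, ⟨hg, hg'⟩, rfl⟩
      refine ⟨mul_mem (mul_mem hx hg) (inv_mem hx), fun u hu => ?_⟩
      show u * (x * g * x⁻¹) * u⁻¹ * (x * g * x⁻¹)⁻¹ ∈ _
      have hv : x⁻¹ * u * x ∈ U := by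
        simpa using (Subgroup.mem_normalizer_iff.1 (hHU (inv_mem hx)) u).1 hu
      have := (Subgroup.mem_normalizer_iff.1 (hHN hx) _).1 (hg' _ hv)
      rw [show u * (x * g * x⁻¹) * u⁻¹ * (x * g * x⁻¹)⁻¹ =
        x * ((x⁻¹ * u * x) * g * (x⁻¹ * u * x)⁻¹ * g⁻¹) * x⁻¹ by group]
      exact this
  refine le_pCoreOf inf_le_left (le_normalizer_inf_of le_normalizer
    ((le_normalizer_pCoreOf H).trans (normalizer_le_normalizer_centralizer _)))
    (isPGroup_of_coprime_eq_one _ fun d hd hdc => ?_)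
  refine eq_one_of_coprime_of_mem (isPGroup_pCoreOf L) (hL ⟨hHL hd.1, fun u hu => ?_⟩) hdc
  have hc := (hHZ hd.1).2 u⁻¹ (inv_mem hu)
  have e : u⁻¹ * d * u⁻¹⁻¹ * d⁻¹ = u⁻¹ * (d * u * d⁻¹) := by group
  rw [e] at hc
  exact (commute_of_commutator_mem (isPGroup_pCoreOf L) hdc hc.1 (hd.2 _ (hUH hc)).symm).symm.eq

end CfsgLib.LargeSubgroups
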