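import Cfsg.Agent.Lib.LargeSubgroups.FactorAction
import Cfsg.Agent.Lib.LargeSubgroups.FrakH
import Cfsg.Agent.Lib.Subnormal.BaerSuzuki
import Cfsg.Agent.Lib.ThompsonJ.Replacement

/-!
The asymmetric `L`-lemma.
-/

set_option autoImplicit false

namespace CfsgLib.LargeSubgroups

open Subgroup CfsgLib.FFModules
open scoped commutatorElement

local notation "MC[" g "]" => Subgroup.map (MulEquiv.toMonoidHom (MulAut.conj g))
local notation "YY[" p "," M "]" => Cfsg.largestPReducedOf p M
local notation "TT[" p "," M "]" => Cfsg.pCoreOf p M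
local notation "RES[" p "," L "]" => Subgroup.map (Subgroup.subtype L) (Cfsg.pResidual p L)

variable {G : Type*} [Group G] [Finite G] {p : ℕ} [Fact p.Prime] {S : Sylow p G}
  {M H L V W : Subgroup G}

/-- The elements of `H` lying in `F V W` for every noncentral factor `V/W`. -/
def factorKer (p : ℕ) (H : Subgroup G) (F : Subgroup G → Subgroup G → Subgroup G) : Subgroup G :=
  H ⊓ ⨅ (V : Subgroup G) (W : Subgroup G) (_ : IsNCFactor p H V W), F V W

omit [Finite G] [Fact p.Prime] in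
theorem mem_factorKer {F : Subgroup G → Subgroup G → Subgroup G} {x : G} :
    x ∈ factorKer p H F ↔ x ∈ H ∧ ∀ V W, IsNCFactor p H V W → x ∈ F V W := by
  simp only [factorKer, Subgroup.mem_inf, Subgroup.mem_iInf]

theorem factorKer_le_normalizer {F : Subgroup G → Subgroup G → Subgroup G} {g : G} (hg : g ∈ H)
    (h : ∀ V W, IsNCFactor p H V W → MC[g] (F V W) ≤ F V W) :
    g ∈ normalizer (factorKer p H F : Set G) := by
  refine mem_normalizer_of_map_conj_le ?_
  rintro _ ⟨x, hx, rfl⟩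
  obtain ⟨hxH, hx'⟩ := mem_factorKer.1 hx
  exact mem_factorKer.2 ⟨(map_conj_eq_self (le_normalizer hg)).le (mem_map_of_mem _ hxH),
    fun V W hF => h V W hF (mem_map_of_mem _ (hx' V W hF))⟩

section setting

variable (hSM : (S : Subgroup G) ≤ M) (hM : Cfsg.IsInFrakM p M)
  (hwc : Cfsg.IsWeaklyClosed TT[p,M] (S : Subgroup G)) (hH : Cfsg.IsInFrakH p M H)

include hSM hM hwc hH

theorem core_le_normalizer_Y : Cfsg.pCoreOf p H ≤ normalizer (YY[p,M] : Set G) :=
  (pCoreOf_le_normalizer_of_wc hwc hH.2.1).trans (normalizer_pCoreOf_le_normalizer hSM hM)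

theorem factor_le_fix (hF : IsNCFactor p H V W) :
    ⁅V, YY[p,M]⁆ ⊔ W ≤ fixMod V W YY[p,M] ∧ ⁅V, YY[p,M]⁆ ⊔ W ≤ fixMod V W TT[p,M] ∧
      ⁅V, TT[p,M]⁆ ⊔ W ≤ fixMod V W YY[p,M] := by
  have hVH : V ≤ H := hF.le_core.trans (pCoreOf_le H)
  have hAH := largestPReducedOf_le_of_frakH hH
  have hTH := hH.2.1
  have hWV : W ≤ V := hF.lt.le
  have hAT : YY[p,M] ≤ TT[p,M] := largestPReducedOf_le_pCoreOf M
  have hWB : ∀ B ≤ H, W ≤ fixMod V W B := fun B hB =>
    le_fixMod hWV le_normalizer (le_normalizer_iff_commutator_le_left.1 (hB.trans hF.normW))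
  have hVB : ∀ B ≤ H, ⁅V, B⁆ ≤ V := fun B hB =>
    le_normalizer_iff_commutator_le_left.1 (hB.trans hF.normV)
  have hVA : ⁅V, YY[p,M]⁆ ≤ YY[p,M] := by
    rw [commutator_comm]
    exact le_normalizer_iff_commutator_le_left.1 (hF.le_core.trans (core_le_normalizer_Y hSM hM hwc hH))
  have hVT : ⁅V, TT[p,M]⁆ ≤ TT[p,M] := by
    rw [commutator_comm]
    exact le_normalizer_iff_commutator_le_left.1
      (hF.le_core.trans (pCoreOf_le_normalizer_of_wc hwc hH.2.1))
  have hTA := pCoreOf_le_centralizer hSM hM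
  refine ⟨sup_le (le_fixMod (hVB _ hAH) ((hVB _ hAH).trans (hVH.trans hF.normW))
      ((commutator_mono hVA le_rfl).trans ?_)) (hWB _ hAH),
    sup_le (le_fixMod (hVB _ hAH) ((hVB _ hAH).trans (hVH.trans hF.normW))
      ((commutator_mono hVA le_rfl).trans ?_)) (hWB _ hTH),
    sup_le (le_fixMod (hVB _ hTH) ((hVB _ hTH).trans (hVH.trans hF.normW))
      ((commutator_mono hVT le_rfl).trans ?_)) (hWB _ hAH)⟩
  · rw [commutator_eq_bot_iff_le_centralizer.2 (hAT.trans hTA)]
    exact bot_le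
  · rw [commutator_comm, commutator_eq_bot_iff_le_centralizer.2 hTA]
    exact bot_le
  · rw [commutator_eq_bot_iff_le_centralizer.2 hTA]
    exact bot_le

/-- The splitting of a noncentral factor by `Y` and a conjugate generating `H` with `O_p(M)`. -/
theorem factor_split (hF : IsNCFactor p H V W) {l : G} (hl : l ∈ H)
    (hgen : MC[l] YY[p,M] ⊔ TT[p,M] = H) :
    (⁅V, YY[p,M]⁆ ⊔ W) ⊔ fixMod V W (MC[l] YY[p,M]) = V ∧
      (⁅V, YY[p,M]⁆ ⊔ W) ⊓ fixMod V W (MC[l] YY[p,M]) ≤ W ∧
      (⁅V, MC[l] YY[p,M]⁆ ⊔ W) ⊓ fixMod V W YY[p,M] ≤ W := by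
  obtain ⟨hIA, hIT, hTA⟩ := factor_le_fix hSM hM hwc hH hF
  set A := YY[p,M] with hA
  set B := MC[l] A with hB
  set T := TT[p,M] with hT
  set I := ⁅V, A⁆ ⊔ W with hI
  set J := ⁅V, B⁆ ⊔ W with hJ
  set cA := fixMod V W A with hcA
  set cB := fixMod V W B with hcB
  have hVH : V ≤ H := hF.le_core.trans (pCoreOf_le H)
  have hAH : A ≤ H := largestPReducedOf_le_of_frakH hH
  have hBH : B ≤ H := (map_mono hAH).trans (map_conj_eq_self (le_normalizer hl)).le
  have hWV : W ≤ V := hF.lt.le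
  have hVl := map_conj_eq_self (hF.normV hl)
  have hWl := map_conj_eq_self (hF.normW hl)
  have hJI : J = MC[l] I := by rw [hI, hJ, Subgroup.map_sup, map_commutator, hVl, hWl]
  have hcBA : cB = MC[l] cA := (map_conj_fixMod V W A (hF.normV hl) (hF.normW hl)).symm
  have hVn : ∀ C : Subgroup G, V ≤ normalizer ((⁅V, C⁆ ⊔ W : Subgroup G) : Set G) := fun C =>
    le_normalizer_sup_of' (normalizer_commutator_ge_left V C) (hVH.trans hF.normW)
  have hJV : J ≤ V := sup_le (le_normalizer_iff_commutator_le_left.1 (hBH.trans hF.normV)) hWV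
  have hIV : I ≤ V := sup_le (le_normalizer_iff_commutator_le_left.1 (hAH.trans hF.normV)) hWV
  -- upper bound
  have hup : J ⊔ cA = V := by
    refine le_antisymm (sup_le hJV (fixMod_le _ _ _)) ?_
    have hVH' : ⁅V, H⁆ ⊔ W = V := by
      rcases hF.minimal (⁅V, H⁆ ⊔ W)
        (le_normalizer_sup_of' (normalizer_commutator_ge_right V H) hF.normW) le_sup_right
        (sup_le (le_normalizer_iff_commutator_le_left.1 hF.normV) hWV) with h | h
      · exact absurd (le_sup_left.trans h.le) hF.noncentral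
      · exact h
    have hBX : ⁅B, V⁆ ≤ J ⊔ cA := by
      rw [commutator_comm]; exact le_sup_left.trans le_sup_left
    have hTX : ⁅T, V⁆ ≤ J ⊔ cA := by
      rw [commutator_comm]; exact (le_sup_left.trans hTA).trans le_sup_right
    have hXV : J ⊔ cA ≤ V := sup_le hJV (fixMod_le _ _ _)
    calc V = ⁅V, H⁆ ⊔ W := hVH'.symm
      _ ≤ J ⊔ cA := sup_le (by
        rw [commutator_comm, ← hgen]
        exact commutator_sup_le (le_normalizer_of_commutator_le hXV hBX)
          (le_normalizer_of_commutator_le hXV hTX) hBX hTX) (le_sup_right.trans le_sup_left)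
  -- lower bound
  have hfixH : fixMod V W H ≤ W := by
    have hW : W ≤ fixMod V W H :=
      le_fixMod hWV le_normalizer (le_normalizer_iff_commutator_le_left.1 hF.normW)
    have hn : H ≤ normalizer (fixMod V W H : Set G) := fun h hh => mem_normalizer_of_map_conj_le (by
      rw [map_conj_fixMod V W H (hF.normV hh) (hF.normW hh), map_conj_eq_self (le_normalizer hh)])
    rcases hF.minimal _ hn hW (fixMod_le _ _ _) with h | h
    · exact h.le
    · exact absurd (h ▸ commutator_fixMod_le V W H) hF.noncentral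
  have hdown : I ⊓ cB ≤ W := by
    calc I ⊓ cB ≤ cB ⊓ fixMod V W T := le_inf inf_le_right (inf_le_left.trans hIT)
      _ ≤ fixMod V W (B ⊔ T) := inf_fixMod_le (hBH.trans hF.normW) (hH.2.1.trans hF.normW)
      _ ≤ W := by rw [hgen]; exact hfixH
  have hIcB : I ⊓ cB = W := le_antisymm hdown (le_inf le_sup_right
    (le_fixMod hWV le_normalizer (le_normalizer_iff_commutator_le_left.1 (hBH.trans hF.normW))))
  have hWJ : W ≤ J ⊓ cA := le_inf le_sup_right (le_sup_right.trans hIA)
  -- counting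
  have h1 := CfsgLib.ThompsonJ.card_sup_mul_card_inf cA J ((fixMod_le _ _ _).trans (hVn B))
  have h2 := CfsgLib.ThompsonJ.card_sup_mul_card_inf cB I ((fixMod_le _ _ _).trans (hVn A))
  rw [sup_comm, hup, inf_comm] at h1
  rw [sup_comm, inf_comm, hIcB] at h2
  have hcards : Nat.card cA * Nat.card J = Nat.card cB * Nat.card I := by
    rw [hJI, hcBA, card_map_conj, card_map_conj]
  have hw : Nat.card W ≤ Nat.card ↥(J ⊓ cA) := Nat.le_of_dvd Nat.card_pos (card_dvd_of_le hWJ)
  have hle : I ⊔ cB ≤ V := sup_le hIV (fixMod_le _ _ _)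
  have hs : I ⊔ cB = V := by
    refine eq_of_le_of_card_ge hle (le_of_mul_le_mul_right ?_ (Nat.card_pos : 0 < Nat.card W))
    rw [h2, ← hcards, ← h1]
    exact Nat.mul_le_mul_left _ hw
  refine ⟨hs, hdown, ?_⟩
  rw [hs] at h2
  have h3 : Nat.card V * Nat.card ↥(J ⊓ cA) = Nat.card V * Nat.card W := by
    rw [h1, h2, hcards]
  exact (eq_of_le_of_card_ge hWJ (Nat.eq_of_mul_eq_mul_left Nat.card_pos h3).le).ge

/-- A noncentral factor is not centralised by `Y`. -/
theorem factor_active (hF : IsNCFactor p H V W) {l : G} (hl : l ∈ H)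
    (hgen : MC[l] YY[p,M] ⊔ TT[p,M] = H) : ¬ ⁅V, YY[p,M]⁆ ≤ W := by
  intro hA
  obtain ⟨hs, -, -⟩ := factor_split hSM hM hwc hH hF hl hgen
  set B := MC[l] YY[p,M] with hB
  set T := TT[p,M] with hT
  have hVH : V ≤ H := hF.le_core.trans (pCoreOf_le H)
  have hTH : T ≤ H := hH.2.1
  have hVB : ⁅V, B⁆ ≤ W := by
    have h := map_mono (f := (MulAut.conj l).toMonoidHom) hA
    rwa [map_commutator, map_conj_eq_self (hF.normV hl), map_conj_eq_self (hF.normW hl)] at h
  set U := V ⊔ T with hU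
  have hUp : IsPGroup p U := IsPGroup.to_sup_of_normal_left'
    ((isPGroup_pCoreOf H).to_le hF.le_core) (isPGroup_pCoreOf M) (hTH.trans hF.normV)
  haveI : Group.IsNilpotent U := hUp.isNilpotent
  refine hF.lt.not_ge (le_of_le_commutator_sup (U := U) le_sup_left (hF.lt.le.trans le_sup_left)
    ((sup_le hVH hTH).trans hF.normW) ?_)
  have hVH' : V ≤ ⁅V, H⁆ ⊔ W := by
    rcases hF.minimal (⁅V, H⁆ ⊔ W)
      (le_normalizer_sup_of' (normalizer_commutator_ge_right V H) hF.normW) le_sup_right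
      (sup_le (le_normalizer_iff_commutator_le_left.1 hF.normV) hF.lt.le) with h | h
    · exact absurd (le_sup_left.trans h.le) hF.noncentral
    · exact h.ge
  refine hVH'.trans (sup_le ?_ le_sup_right)
  have hX : ∀ C, ⁅C, V⁆ ≤ ⁅V, U⁆ ⊔ W → C ≤ H →
      C ≤ normalizer ((⁅V, U⁆ ⊔ W : Subgroup G) : Set G) := fun C h hC =>
    le_normalizer_of_commutator_le (sup_le (le_normalizer_iff_commutator_le_left.1
      ((sup_le hVH hTH).trans hF.normV)) hF.lt.le) h
  have hBH : B ≤ H := (map_mono (largestPReducedOf_le_of_frakH hH)).trans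
    (map_conj_eq_self (le_normalizer hl)).le
  have h1 : ⁅B, V⁆ ≤ ⁅V, U⁆ ⊔ W := by rw [commutator_comm]; exact hVB.trans le_sup_right
  have h2 : ⁅T, V⁆ ≤ ⁅V, U⁆ ⊔ W := by
    rw [commutator_comm]; exact (commutator_mono le_rfl le_sup_right).trans le_sup_left
  rw [commutator_comm V H, ← hgen]
  exact commutator_sup_le (hX B h1 hBH) (hX T h2 hTH) h1 h2

variable (hLH : L ≤ H) (hAL : YY[p,M] ≤ L) (hYO : ¬ YY[p,M] ≤ Cfsg.pCoreOf p L)
  (hmin : ∀ L' : Subgroup G, L' ≤ L → YY[p,M] ≤ L' → ¬ YY[p,M] ≤ Cfsg.pCoreOf p L' → L' = L)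

include hLH hAL hYO hmin

theorem sup_conj_pCore_eq {h : G} (hh : h ∈ L) (hK : YY[p,M] ⊔ MC[h] YY[p,M] = L) :
    MC[h] YY[p,M] ⊔ TT[p,M] = H := by
  have hle : MC[h] YY[p,M] ⊔ TT[p,M] ≤ H := sup_le
    ((map_mono hAL).trans ((map_conj_eq_self (le_normalizer hh)).le.trans hLH)) hH.2.1
  by_contra hne
  have h1 := hH.2.2.2 _ le_sup_right (lt_of_le_of_ne hle hne)
  have hLP : L ≤ MC[h] YY[p,M] ⊔ TT[p,M] := hK.ge.trans
    (sup_le ((largestPReducedOf_le_pCoreOf M).trans le_sup_right) le_sup_left)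
  exact hYO ((le_inf hAL h1).trans (le_pCoreOf inf_le_left
    (le_normalizer_inf_of le_normalizer (hLP.trans (le_normalizer_pCoreOf _)))
    (isPGroup_pCoreOf _).to_inf_right))

theorem exists_generating_conj : ∃ l ∈ L, YY[p,M] ⊔ MC[l] YY[p,M] = L := by
  set A := YY[p,M] with hA
  by_contra hne
  push Not at hne
  refine hYO ?_
  rw [← map_subgroupOf_eq_of_le hAL]
  refine map_mono (CfsgLib.Subnormal.le_pCore_of_forall_sup_conj fun x => ?_)
  have hAp : IsPGroup p A := isPGroup_of_elemAb (reducedIn_largestPReducedOf M).elemAb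
  set K := A ⊔ MC[(x : G)] A with hK
  have hKL : K ≤ L := sup_le hAL ((map_mono hAL).trans (map_conj_eq_self (le_normalizer x.2)).le)
  have hAO : A ≤ Cfsg.pCoreOf p K := by
    by_contra h
    exact hne x x.2 (hmin K hKL le_sup_left h)
  have hKp : IsPGroup p K := by
    refine IsPGroup.to_le (IsPGroup.to_sup_of_normal_right' (hAp.map (MulAut.conj (x : G)).toMonoidHom)
      (isPGroup_pCoreOf K) (le_sup_right.trans (le_normalizer_pCoreOf K))) ?_
    exact sup_le (hAO.trans le_sup_right) le_sup_left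
  have he : (A.subgroupOf L ⊔ (A.subgroupOf L).map (MulAut.conj x).toMonoidHom).map L.subtype = K := by
    rw [Subgroup.map_sup, Subgroup.map_map, map_subgroupOf_eq_of_le hAL]
    have : L.subtype.comp (MulAut.conj x).toMonoidHom =
        (MulAut.conj (x : G)).toMonoidHom.comp L.subtype := by ext y; rfl
    rw [this, ← Subgroup.map_map, map_subgroupOf_eq_of_le hAL]
  rw [← he] at hKp
  exact hKp.of_equiv (Subgroup.equivMapOfInjective _ L.subtype L.subtype_injective).symm

/-- An element of `L` stabilising all the fixed point spaces of `Y` normalises `O_p(M)`. -/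
theorem mem_normalizer_of_stabilize {e : G} (he : e ∈ L)
    (hst : ∀ V W : Subgroup G, IsNCFactor p H V W → e ∈ normalizer (fixMod V W YY[p,M] : Set G)) :
    e ∈ normalizer (TT[p,M] : Set G) := by
  obtain ⟨l, hl, hK⟩ := exists_generating_conj hSM hM hwc hH hLH hAL hYO hmin
  have hgen := sup_conj_pCore_eq hSM hM hwc hH hLH hAL hYO hmin hl hK
  set A := YY[p,M] with hA
  set T := TT[p,M] with hT
  set B := MC[l] A with hB
  have heH : e ∈ H := hLH he
  have hAH : A ≤ H := hAL.trans hLH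
  have hBH : B ≤ H := le_sup_right.trans (hK.le.trans hLH)
  have hTA : T ≤ normalizer (A : Set G) :=
    (pCoreOf_le_centralizer hSM hM).trans (centralizer_le_normalizer' _)
  -- the kernels
  let stab : Subgroup G → Subgroup G → Subgroup G := fun X Y =>
    fixMod (normalizer (X : Set G) ⊓ normalizer (Y : Set G)) X Y
  have hsn : ∀ X Y : Subgroup G, ∀ g ∈ normalizer (X : Set G), g ∈ normalizer (Y : Set G) →
      MC[g] (stab X Y) = stab X Y := fun X Y g hX hY => by
    show MC[g] (fixMod _ _ _) = _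
    rw [map_conj_fixMod (normalizer (X : Set G) ⊓ normalizer (Y : Set G)) X Y
      (le_normalizer ⟨hX, hY⟩) hX, map_conj_eq_self hY]
  let I : Subgroup G → Subgroup G → Subgroup G := fun V W => ⁅V, A⁆ ⊔ W
  let C : Subgroup G → Subgroup G → Subgroup G := fun V W => fixMod V W A
  let K₂ : Subgroup G := factorKer p H fun V W => stab W (I V W) ⊓ stab (C V W) V
  let K₃ : Subgroup G := factorKer p H fun V W => stab (I V W) (C V W)
  have hgood : ∀ g ∈ H, (∀ V W, IsNCFactor p H V W →
      g ∈ normalizer (C V W : Set G) ∧ g ∈ normalizer (I V W : Set G)) →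
      g ∈ normalizer (K₂ : Set G) ∧ g ∈ normalizer (K₃ : Set G) := fun g hg h =>
    ⟨factorKer_le_normalizer hg fun V W hF => by
      rw [map_inf _ _ _ (MulAut.conj g).injective, hsn _ _ g (hF.normW hg) (h V W hF).2,
        hsn _ _ g (h V W hF).1 (hF.normV hg)],
     factorKer_le_normalizer hg fun V W hF => (hsn _ _ g (h V W hF).2 (h V W hF).1).le⟩
  have hTgood : ∀ t ∈ T, ∀ V W, IsNCFactor p H V W →
      t ∈ normalizer (C V W : Set G) ∧ t ∈ normalizer (I V W : Set G) := by
    intro t ht V W hF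
    have htH := hH.2.1 ht
    refine ⟨mem_normalizer_of_map_conj_le ?_, mem_normalizer_of_map_conj_le ?_⟩
    · show MC[t] (fixMod V W A) ≤ _
      rw [map_conj_fixMod V W A (hF.normV htH) (hF.normW htH), map_conj_eq_self (hTA ht)]
    · show MC[t] (⁅V, A⁆ ⊔ W) ≤ _
      rw [Subgroup.map_sup, map_commutator, map_conj_eq_self (hF.normV htH),
        map_conj_eq_self (hF.normW htH), map_conj_eq_self (hTA ht)]
  have hTK₂ : T ≤ K₂ := by
    intro t ht
    refine mem_factorKer.2 ⟨hH.2.1 ht, fun V W hF => ?_⟩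
    obtain ⟨-, hIT, hTC⟩ := factor_le_fix hSM hM hwc hH hF
    obtain ⟨h1, h2⟩ := hTgood t ht V W hF
    refine ⟨⟨⟨hF.normW (hH.2.1 ht), h2⟩, hF.normW (hH.2.1 ht), fun i hi => ?_⟩,
      ⟨⟨h1, hF.normV (hH.2.1 ht)⟩, h1, fun v hv => ?_⟩⟩
    · simpa [mul_assoc] using W.inv_mem ((hIT hi).2.2 t ht)
    · have h3 := (C V W).inv_mem
        ((le_sup_left.trans hTC) (commutator_mem_commutator hv ht))
      simpa [commutatorElement_def, mul_assoc] using h3
  have hegood : ∀ V W, IsNCFactor p H V W →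
      e ∈ normalizer (C V W : Set G) ∧ e ∈ normalizer (I V W : Set G) ∧ e ∈ stab (I V W) (C V W) := by
    intro V W hF
    obtain ⟨hs, -, hJC⟩ := factor_split hSM hM hwc hH hF (hLH hl) hgen
    obtain ⟨hIA, -, -⟩ := factor_le_fix hSM hM hwc hH hF
    set J := ⁅V, B⁆ ⊔ W with hJ
    have hVH : V ≤ H := hF.le_core.trans (pCoreOf_le H)
    have hWV : W ≤ V := hF.lt.le
    -- `[V,L]W = IJ`
    have hX : ⁅V, L⁆ ⊔ W = I V W ⊔ J := by
      refine le_antisymm (sup_le ?_ (le_sup_right.trans le_sup_right))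
        (sup_le (sup_le_sup_right (commutator_mono le_rfl hAL) W)
          (sup_le_sup_right (commutator_mono le_rfl (le_sup_right.trans hK.le)) W))
      have hXV : I V W ⊔ J ≤ V := sup_le (sup_le (le_normalizer_iff_commutator_le_left.1
        (hAH.trans hF.normV)) hWV) (sup_le (le_normalizer_iff_commutator_le_left.1
        (hBH.trans hF.normV)) hWV)
      have h1 : ⁅A, V⁆ ≤ I V W ⊔ J := by
        rw [commutator_comm]; exact le_sup_left.trans le_sup_left
      have h2 : ⁅B, V⁆ ≤ I V W ⊔ J := by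
        rw [commutator_comm]; exact le_sup_left.trans le_sup_right
      rw [commutator_comm, ← hK]
      exact commutator_sup_le (le_normalizer_of_commutator_le hXV h1)
        (le_normalizer_of_commutator_le hXV h2) h1 h2
    have heX : e ∈ normalizer ((⁅V, L⁆ ⊔ W : Subgroup G) : Set G) :=
      le_normalizer_sup_of' (normalizer_commutator_ge_right V L) (hLH.trans hF.normW) he
    have heC := hst V W hF
    -- `C ∩ [V,L]W = I`
    have hCI : C V W ⊓ (I V W ⊔ J) = I V W := by
      refine le_antisymm (fun x hx => ?_) (le_inf hIA le_sup_left)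
      have hn : J ≤ normalizer (I V W : Set G) :=
        (sup_le (le_normalizer_iff_commutator_le_left.1 (hBH.trans hF.normV)) hWV).trans
          (le_normalizer_sup_of' (normalizer_commutator_ge_left V A) (hVH.trans hF.normW))
      have hx2 : x ∈ ((J ⊔ I V W : Subgroup G) : Set G) := by rw [sup_comm]; exact hx.2
      rw [coe_mul_of_left_le_normalizer_right J _ hn] at hx2
      obtain ⟨j, hj, i, hi, rfl⟩ := hx2
      have hjC : j ∈ fixMod V W A := by
        simpa using (fixMod V W A).mul_mem hx.1 ((fixMod V W A).inv_mem (hIA hi))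
      exact (I V W).mul_mem (mem_sup_right (hJC ⟨hj, hjC⟩)) hi
    have heI : e ∈ normalizer (I V W : Set G) := mem_normalizer_of_map_conj_le (by
      rw [← hCI, map_inf _ _ _ (MulAut.conj e).injective, map_conj_eq_self heC, ← hX,
        map_conj_eq_self heX])
    refine ⟨heC, heI, ⟨heI, heC⟩, heI, fun x hx => ?_⟩
    have hn : fixMod V W B ≤ normalizer (I V W : Set G) := (fixMod_le _ _ _).trans
      (le_normalizer_sup_of' (normalizer_commutator_ge_left V A) (hVH.trans hF.normW))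
    have hx2 : x ∈ ((fixMod V W B ⊔ (⁅V, A⁆ ⊔ W) : Subgroup G) : Set G) := by
      rw [sup_comm, hs]; exact hx.1
    rw [coe_mul_of_left_le_normalizer_right _ _ hn] at hx2
    obtain ⟨b, hb, i, hi, rfl⟩ := hx2
    have hbA : b ∈ fixMod V W A := by
      simpa using (fixMod V W A).mul_mem hx ((fixMod V W A).inv_mem (hIA hi))
    have hbL : b ∈ fixMod V W L := by
      rw [← hK]
      exact inf_fixMod_le (hAH.trans hF.normW) (hBH.trans hF.normW) ⟨hbA, hb⟩
    have h1 : e * b * e⁻¹ * b⁻¹ ∈ I V W := by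
      have := W.inv_mem (hbL.2.2 e he)
      exact le_sup_right (b := W) (by simpa [mul_assoc] using this)
    have h2 : e * i * e⁻¹ * i⁻¹ ∈ I V W :=
      (I V W).mul_mem ((Subgroup.mem_normalizer_iff.1 heI i).1 hi) ((I V W).inv_mem hi)
    rw [show e * (b * i) * e⁻¹ * (b * i)⁻¹ =
      (e * b * e⁻¹ * b⁻¹) * (b * (e * i * e⁻¹ * i⁻¹) * b⁻¹) by group]
    exact (I V W).mul_mem h1 ((Subgroup.mem_normalizer_iff.1 (hn hb) _).1 h2)
  have heK₃ : e ∈ K₃ := mem_factorKer.2 ⟨heH, fun V W hF => (hegood V W hF).2.2⟩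
  obtain ⟨heK₂n, -⟩ := hgood e heH fun V W hF => ⟨(hegood V W hF).1, (hegood V W hF).2.1⟩
  set K₄ := K₂ ⊓ K₃ with hK₄
  have hTn : T ≤ normalizer (K₄ : Set G) := fun t ht => by
    obtain ⟨h1, h2⟩ := hgood t (hH.2.1 ht) (hTgood t ht)
    exact le_normalizer_inf_of (L := normalizer (K₂ : Set G) ⊓ normalizer (K₃ : Set G))
      inf_le_left inf_le_right ⟨h1, h2⟩
  have hK₄p : IsPGroup p K₄ := by
    refine isPGroup_of_coprime_eq_one fun x hx hcop => ?_
    obtain ⟨hxH, hx2⟩ := mem_factorKer.1 hx.1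
    have hx3 := (mem_factorKer.1 hx.2).2
    refine eq_one_of_stabilize (charP_of_frakH hH) hxH hcop fun V W hF hW => ?_
    obtain ⟨hIA, -, -⟩ := factor_le_fix hSM hM hwc hH hF
    have hp1 := (isPGroup_pCoreOf H).to_le hF.le_core
    have h1 := commute_of_step hcop (hp1.to_le hF.lt.le) hW (hx2 V W hF).1.2.2
    have h2 := commute_of_step hcop (hp1.to_le (hIA.trans (fixMod_le _ _ _))) h1 (hx3 V W hF).2.2
    exact commute_of_step hcop (hp1.to_le (fixMod_le _ _ _)) h2 (hx2 V W hF).2.2.2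
  have hmap : MC[e] T ≤ T ⊔ K₄ := by
    rintro _ ⟨t, ht, rfl⟩
    have htK₃ := (hgood t (hH.2.1 ht) (hTgood t ht)).2
    have h1 : e * t * e⁻¹ * t⁻¹ ∈ K₄ := by
      refine ⟨K₂.mul_mem ((Subgroup.mem_normalizer_iff.1 heK₂n t).1 (hTK₂ ht))
        (K₂.inv_mem (hTK₂ ht)), ?_⟩
      rw [show e * t * e⁻¹ * t⁻¹ = e * (t * e⁻¹ * t⁻¹) by group]
      exact K₃.mul_mem heK₃ ((Subgroup.mem_normalizer_iff.1 htK₃ _).1 (K₃.inv_mem heK₃))
    have h2 := (T ⊔ K₄).mul_mem (mem_sup_right (S := T) h1) (mem_sup_left ht)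
    simpa using h2
  exact mem_normalizer_of_map_conj_eq (wc_in_pGroup hwc
    (IsPGroup.to_sup_of_normal_right' (isPGroup_pCoreOf M) hK₄p hTn) le_sup_left hmap)

/-- A conjugate of `Y` in `L` commuting with `Y` equals `Y`. -/
theorem mem_normalizer_of_commuting_conj {u : G} (hu : u ∈ L)
    (hc : MC[u] YY[p,M] ≤ centralizer (YY[p,M] : Set G)) :
    u ∈ normalizer (YY[p,M] : Set G) := by
  obtain ⟨l, hl, hK⟩ := exists_generating_conj hSM hM hwc hH hLH hAL hYO hmin
  have hgen := sup_conj_pCore_eq hSM hM hwc hH hLH hAL hYO hmin hl hK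
  have hAu : MC[u] YY[p,M] ≤ L := (map_mono hAL).trans (map_conj_eq_self (le_normalizer hu)).le
  have huT : MC[u] YY[p,M] ≤ TT[p,M] := by
    refine le_pCoreOf_of_le_centralizer hSM hM
      ((isPGroup_of_elemAb (reducedIn_largestPReducedOf M).elemAb).map _) hc (Or.inl fun b hb => ?_)
    refine mem_normalizer_of_stabilize hSM hM hwc hH hLH hAL hYO hmin (hAu hb) fun V W hF => ?_
    refine mem_normalizer_of_map_conj_le ?_
    rw [map_conj_fixMod V W _ (hF.normV (hLH (hAu hb))) (hF.normW (hLH (hAu hb))),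
      map_conj_eq_self (centralizer_le_normalizer' _ (hc hb))]
  refine normalizer_pCoreOf_le_normalizer hSM hM
    (mem_normalizer_of_stabilize hSM hM hwc hH hLH hAL hYO hmin hu fun V W hF => ?_)
  obtain ⟨hs, -, -⟩ := factor_split hSM hM hwc hH hF (hLH hl) hgen
  obtain ⟨hIA, -, hTC⟩ := factor_le_fix hSM hM hwc hH hF
  set A := YY[p,M] with hA
  set B := MC[l] A with hB
  have huH := hLH hu
  have hVH : V ≤ H := hF.le_core.trans (pCoreOf_le H)
  refine mem_normalizer_of_map_conj_le ?_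
  have hn : fixMod V W B ≤ normalizer ((⁅V, A⁆ ⊔ W : Subgroup G) : Set G) :=
    (fixMod_le _ _ _).trans
      (le_normalizer_sup_of' (normalizer_commutator_ge_left V A) (hVH.trans hF.normW))
  rintro _ ⟨x, hx, rfl⟩
  have hx2 : x ∈ ((fixMod V W B ⊔ (⁅V, A⁆ ⊔ W) : Subgroup G) : Set G) := by
    rw [sup_comm, hs]; exact hx.1
  rw [coe_mul_of_left_le_normalizer_right _ _ hn] at hx2
  obtain ⟨b, hb, i, hi, rfl⟩ := hx2
  have hbA : b ∈ fixMod V W A := by
    simpa using (fixMod V W A).mul_mem hx ((fixMod V W A).inv_mem (hIA hi))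
  have hbL : b ∈ fixMod V W L := by
    rw [← hK]
    exact inf_fixMod_le ((hAL.trans hLH).trans hF.normW)
      ((le_sup_right.trans (hK.le.trans hLH)).trans hF.normW) ⟨hbA, hb⟩
  rw [map_mul]
  refine (fixMod V W A).mul_mem ?_ ?_
  · refine fixMod_anti hAL ?_
    have h1 := map_conj_fixMod V W L (hF.normV huH) (hF.normW huH)
    rw [map_conj_eq_self (le_normalizer hu)] at h1
    exact h1.le (mem_map_of_mem _ hbL)
  · have h1 : MC[u] (⁅V, A⁆ ⊔ W) ≤ ⁅V, TT[p,M]⁆ ⊔ W := by
      rw [Subgroup.map_sup, map_commutator, map_conj_eq_self (hF.normV huH),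
        map_conj_eq_self (hF.normW huH)]
      exact sup_le_sup_right (commutator_mono le_rfl huT) W
    exact hTC (h1 (mem_map_of_mem _ hi))

variable (hasym : ¬ Cfsg.IsSymmetricIn YY[p,M])

include hasym

theorem mem_normalizer_of_mutual {u : G} (hu : u ∈ L)
    (h1 : MC[u] YY[p,M] ≤ normalizer (YY[p,M] : Set G))
    (h2 : YY[p,M] ≤ normalizer ((MC[u] YY[p,M] : Subgroup G) : Set G)) :
    u ∈ normalizer (YY[p,M] : Set G) := by
  refine mem_normalizer_of_commuting_conj hSM hM hwc hH hLH hAL hYO hmin hu ?_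
  have h := le_centralizer_of_asymmetric hasym u 1 (by rwa [map_conj_one]) (by rwa [map_conj_one])
  rwa [map_conj_one] at h

/-- `N_L(Y)` contains every proper subgroup of `L` containing `Y`. -/
theorem le_normalizer_of_lt {X : Subgroup G} (hAX : YY[p,M] ≤ X) (hXL : X < L) :
    X ≤ normalizer (YY[p,M] : Set G) := by
  set A := YY[p,M] with hA
  set U := Cfsg.pCoreOf p X with hU
  have hAU : A ≤ U := by
    by_contra h
    exact hXL.ne (hmin X hXL.le hAX h)
  have hUn : U ≤ normalizer (A : Set G) := by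
    by_contra h
    obtain ⟨w, hw, hne, h1, h2⟩ := exists_normalizing_conj (isPGroup_pCoreOf X) hAU h
    exact hne (map_conj_eq_self (mem_normalizer_of_mutual hSM hM hwc hH hLH hAL hYO hmin hasym
      (hXL.le (pCoreOf_le X hw)) h1 h2))
  intro x hx
  have hconj : ∀ y ∈ X, MC[y] A ≤ normalizer (A : Set G) := fun y hy =>
    ((map_mono hAU).trans (map_conj_eq_self (le_normalizer_pCoreOf X hy)).le).trans hUn
  refine mem_normalizer_of_mutual hSM hM hwc hH hLH hAL hYO hmin hasym (hXL.le hx) (hconj x hx) ?_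
  have h := map_conj_le_normalizer (hconj x⁻¹ (X.inv_mem hx)) x
  rwa [← map_conj_mul, mul_inv_cancel, map_conj_one] at h

theorem sup_conj_eq {h : G} (hh : h ∈ L) (hn : h ∉ normalizer (YY[p,M] : Set G)) :
    YY[p,M] ⊔ MC[h] YY[p,M] = L := by
  set A := YY[p,M] with hA
  have hconj : ∀ y ∈ L, A ⊔ MC[y] A ≠ L → MC[y] A ≤ normalizer (A : Set G) := fun y hy hne =>
    le_sup_right.trans (le_normalizer_of_lt hSM hM hwc hH hLH hAL hYO hmin hasym le_sup_left
      (lt_of_le_of_ne (sup_le hAL ((map_mono hAL).trans (map_conj_eq_self (le_normalizer hy)).le)) hne))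
  by_contra hne
  refine hn (mem_normalizer_of_mutual hSM hM hwc hH hLH hAL hYO hmin hasym hh (hconj h hh hne) ?_)
  have hne' : A ⊔ MC[h⁻¹] A ≠ L := fun e => hne (by
    have h1 := congrArg MC[h] e
    rw [Subgroup.map_sup, ← map_conj_mul, mul_inv_cancel, map_conj_one,
      map_conj_eq_self (le_normalizer hh), sup_comm] at h1
    exact h1)
  have h1 := map_conj_le_normalizer (hconj h⁻¹ (L.inv_mem hh) hne') h
  rwa [← map_conj_mul, mul_inv_cancel, map_conj_one] at h1

/-- The asymmetric `L`-lemma. -/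
theorem asymmetric_l_lemma :
    (L ⊔ TT[p,M] = H ∧ ∀ h ∈ L, h ∉ normalizer (YY[p,M] : Set G) →
        MC[h] YY[p,M] ⊔ TT[p,M] = H) ∧
    (Cfsg.IsMinimalOver (YY[p,M].subgroupOf L) ∧
      centralizer (Cfsg.pCore p L : Set L) ≤ Cfsg.pCore p L ∧
      L ⊓ normalizer (YY[p,M] : Set G) < L ∧
      ∀ X : Subgroup G, YY[p,M] ≤ X → X < L → X ≤ L ⊓ normalizer (YY[p,M] : Set G)) ∧
    (∀ V W : Subgroup G, IsNCFactor p H V W → ¬ ⁅V, RES[p,L]⁆ ≤ W) ∧
    closureIn (Cfsg.pCoreOf p L ⊓ YY[p,M]) L ≤ Cfsg.pCoreOf p H := by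
  obtain ⟨l, hl, hK⟩ := exists_generating_conj hSM hM hwc hH hLH hAL hYO hmin
  have hgen := sup_conj_pCore_eq hSM hM hwc hH hLH hAL hYO hmin hl hK
  set A := YY[p,M] with hA
  set B := MC[l] A with hB
  have hNlt : L ⊓ normalizer (A : Set G) < L := by
    refine lt_of_le_of_ne inf_le_left fun e => hYO (le_pCoreOf hAL (e.ge.trans inf_le_right) ?_)
    exact isPGroup_of_elemAb (reducedIn_largestPReducedOf M).elemAb
  have hmax := fun X (h1 : A ≤ X) (h2 : X < L) =>
    le_inf h2.le (le_normalizer_of_lt hSM hM hwc hH hLH hAL hYO hmin hasym h1 h2)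
  have hclos : closureIn A L = L := by
    refine le_antisymm (closureIn_le A L) ?_
    by_contra hne
    have hlt := lt_of_le_not_ge (closureIn_le A L) hne
    have hAO : A ≤ Cfsg.pCoreOf p (closureIn A L) := by
      by_contra h
      exact hlt.ne (hmin _ hlt.le (le_closureIn hAL) h)
    exact hYO (hAO.trans (le_pCoreOf ((pCoreOf_le _).trans hlt.le)
      ((le_normalizer_closureIn A L).trans (normalizer_le_normalizer_pCoreOf _))
      (isPGroup_pCoreOf _)))
  have hAH : A ≤ H := hAL.trans hLH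
  have hBH : B ≤ H := le_sup_right.trans (hK.le.trans hLH)
  have hgenH : L ⊔ TT[p,M] = H :=
    le_antisymm (sup_le hLH hH.2.1) (hgen.ge.trans (sup_le_sup_right (le_sup_right.trans hK.le) _))
  refine ⟨⟨hgenH, fun h hh hn => sup_conj_pCore_eq hSM hM hwc hH hLH hAL hYO hmin hh
    (sup_conj_eq hSM hM hwc hH hLH hAL hYO hmin hasym hh hn)⟩, ⟨?_, ?_, hNlt, hmax⟩, ?_, ?_⟩
  · -- minimal over
    refine ⟨Subgroup.map_injective L.subtype_injective
      (hclos.trans (by rw [← MonoidHom.range_eq_map, range_subtype])), ?_⟩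
    have htop : (L ⊓ normalizer (A : Set G)).subgroupOf L ≠ ⊤ := fun e =>
      hNlt.not_ge (subgroupOf_eq_top.1 e)
    refine ⟨(L ⊓ normalizer (A : Set G)).subgroupOf L, ⟨⟨htop, fun X hX => ?_⟩, fun a ha => ?_⟩,
      fun M' hM' => ?_⟩
    · by_contra hne
      have h1 := hmax (X.map L.subtype) (fun a ha => ⟨⟨a, hAL ha⟩, hX.le ⟨hAL ha, le_normalizer ha⟩, rfl⟩)
        (lt_of_le_of_ne (map_subtype_le X) fun e => hne (Subgroup.map_injective L.subtype_injective
          (e.trans (by rw [← MonoidHom.range_eq_map, range_subtype]))))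
      exact hX.not_ge fun x hx => h1 (mem_map_of_mem L.subtype hx)
    · exact ⟨a.2, le_normalizer ha⟩
    · obtain ⟨hco, hAM⟩ := hM'
      have h1 : M' ≤ (L ⊓ normalizer (A : Set G)).subgroupOf L := fun x hx =>
        hmax (M'.map L.subtype) (fun a ha => ⟨⟨a, hAL ha⟩, hAM ha, rfl⟩)
          (lt_of_le_of_ne (map_subtype_le M') fun e => hco.1 (Subgroup.map_injective L.subtype_injective
            (e.trans (by rw [← MonoidHom.range_eq_map, range_subtype])))) (mem_map_of_mem L.subtype hx)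
      exact ((hco.le_iff.1 h1).resolve_left htop).symm
  · -- characteristic p
    refine charP_subgroup_iff.2 ?_
    set O := Cfsg.pCoreOf p H with hO
    set U := L ⊓ O with hU
    have hUn : L ≤ normalizer (U : Set G) :=
      le_normalizer_inf_of le_normalizer (hLH.trans (le_normalizer_pCoreOf H))
    have hUO : U ≤ Cfsg.pCoreOf p L :=
      le_pCoreOf inf_le_left hUn (isPGroup_pCoreOf H).to_inf_right
    have hAO : ⁅A, O⁆ ≤ U := le_inf
      ((le_normalizer_iff_commutator_le_left.1 (core_le_normalizer_Y hSM hM hwc hH)).trans hAL) (by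
        rw [commutator_comm]
        exact le_normalizer_iff_commutator_le_left.1 (hAH.trans (le_normalizer_pCoreOf H)))
    have hBO : ⁅B, O⁆ ≤ U := by
      have h := map_mono (f := (MulAut.conj l).toMonoidHom) hAO
      rwa [map_commutator, map_conj_eq_self (le_normalizer_pCoreOf H (hLH hl)),
        map_conj_eq_self (hUn hl)] at h
    have hLO : ⁅L, O⁆ ≤ U := by
      rw [← hK]
      exact commutator_sup_le (hAL.trans hUn) ((le_sup_right.trans hK.le).trans hUn) hAO hBO
    refine le_pCoreOf inf_le_left (le_normalizer_inf_of le_normalizer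
      ((le_normalizer_pCoreOf L).trans (FFModules.normalizer_le_normalizer_centralizer _))) ?_
    refine isPGroup_of_coprime_eq_one fun x hx hcop => ?_
    have h1 : ∀ v ∈ O, Commute x v :=
      commute_of_step hcop (isPGroup_pCoreOf H).to_inf_right (fun w hw => (hx.2 w (hUO hw)).symm)
        fun v hv => hLO (commutator_mem_commutator hx.1 hv)
    exact eq_one_of_stabilize (charP_of_frakH hH) (hLH hx.1) hcop
      fun V W hF _ v hv => h1 v (hF.le_core hv)
  · -- noncentral factors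
    intro V W hF hres
    obtain ⟨-, hdown, -⟩ := factor_split hSM hM hwc hH hF (hLH hl) hgen
    obtain ⟨hIA, -, -⟩ := factor_le_fix hSM hM hwc hH hF
    have hVH : V ≤ H := hF.le_core.trans (pCoreOf_le H)
    refine factor_active hSM hM hwc hH hF (hLH hl) hgen (le_sup_left.trans ((le_inf le_rfl ?_).trans hdown))
    calc ⁅V, A⁆ ⊔ W ≤ fixMod V W RES[p,L] ⊓ fixMod V W A :=
          le_inf ((hIA.trans (fixMod_le _ _ _)).trans (le_fixMod le_rfl (hVH.trans hF.normW) hres)) hIA
      _ ≤ fixMod V W (RES[p,L] ⊔ A) :=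
          inf_fixMod_le (((pResidualMap_le L).trans hLH).trans hF.normW) (hAH.trans hF.normW)
      _ ≤ fixMod V W B := fixMod_anti (by
          rw [pResidualMap_sup_eq hAL hclos]; exact le_sup_right.trans hK.le)
  · -- the normal closure
    set O := Cfsg.pCoreOf p L with hO
    have hAp : IsPGroup p A := isPGroup_of_elemAb (reducedIn_largestPReducedOf M).elemAb
    have hOA : O ≤ normalizer (A : Set G) := by
      have hsp : IsPGroup p ↥(A ⊔ O) := IsPGroup.to_sup_of_normal_right' hAp (isPGroup_pCoreOf L)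
        (hAL.trans (le_normalizer_pCoreOf L))
      refine le_sup_right.trans ((hmax _ le_sup_left (lt_of_le_of_ne (sup_le hAL (pCoreOf_le L))
        fun e => hYO ?_)).trans inf_le_right)
      rw [e] at hsp
      exact hAL.trans (le_pCoreOf le_rfl le_normalizer hsp)
    have hOB : O ≤ normalizer (B : Set G) := by
      have h := map_conj_le_normalizer hOA l
      rwa [map_conj_eq_self (le_normalizer_pCoreOf L hl)] at h
    let Kf : Subgroup G := factorKer p H fun V W =>
      fixMod (normalizer (W : Set G) ⊓ normalizer (V : Set G)) W V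
    have hKn : H ≤ normalizer (Kf : Set G) := fun g hg => factorKer_le_normalizer hg fun V W hF => by
      rw [map_conj_fixMod (normalizer (W : Set G) ⊓ normalizer (V : Set G)) W V
        (le_normalizer ⟨hF.normW hg, hF.normV hg⟩) (hF.normW hg), map_conj_eq_self (hF.normV hg)]
    have hKp : IsPGroup p Kf := by
      refine isPGroup_of_coprime_eq_one fun x hx hcop => ?_
      obtain ⟨hxH, hx'⟩ := mem_factorKer.1 hx
      exact eq_one_of_stabilize (charP_of_frakH hH) hxH hcop fun V W hF hW =>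
        commute_of_step hcop ((isPGroup_pCoreOf H).to_le (hF.lt.le.trans hF.le_core)) hW (hx' V W hF).2.2
    refine closureIn_le_of (le_trans ?_ (le_pCoreOf (N := Kf) (fun _ h => (mem_factorKer.1 h).1) hKn hKp))
      (hLH.trans (le_normalizer_pCoreOf H))
    rintro d ⟨hdO, hdA⟩
    refine mem_factorKer.2 ⟨hAH hdA, fun V W hF => ?_⟩
    obtain ⟨hs, hdown, -⟩ := factor_split hSM hM hwc hH hF (hLH hl) hgen
    obtain ⟨hIA, -, -⟩ := factor_le_fix hSM hM hwc hH hF
    have hdH := hAH hdA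
    have hVH : V ≤ H := hF.le_core.trans (pCoreOf_le H)
    have hVfix : V ≤ fixMod V W (zpowers d) := by
      calc V = (⁅V, A⁆ ⊔ W) ⊔ fixMod V W B := hs.symm
        _ ≤ _ := sup_le (hIA.trans (fixMod_anti (zpowers_le.2 hdA)))
            (le_fixMod (fixMod_le _ _ _) (fixMod_le_normalizer _ _ _) (le_trans (le_inf ?_ ?_) hdown))
      · exact (commutator_mono (fixMod_le _ _ _) (zpowers_le.2 hdA)).trans le_sup_left
      · refine le_normalizer_iff_commutator_le_left.1 (zpowers_le.2 ?_)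
        refine mem_normalizer_of_map_conj_le ?_
        rw [map_conj_fixMod V W B (hF.normV hdH) (hF.normW hdH), map_conj_eq_self (hOB hdO)]
    refine ⟨⟨hF.normW hdH, hF.normV hdH⟩, hF.normW hdH, fun v hv => ?_⟩
    simpa [mul_assoc] using W.inv_mem ((hVfix hv).2.2 d (mem_zpowers d))

end setting

end CfsgLib.LargeSubgroups
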