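import Cfsg.Agent.Lib.TwoGroups.Aut
import Cfsg.Agent.Lib.TwoGroups.SylowLocal
import Cfsg.Agent.Lib.PGroups.SLTwoThree
import Cfsg.Agent.Lib.Cores.Fitting
import Cfsg.Agent.Lib.Balance.Local
import Cfsg.Agent.Lib.Quasithin.CharP

/-!
Solvable groups with trivial core and dihedral or semidihedral Sylow 2-subgroups with normal centre.
-/

set_option autoImplicit false

namespace CfsgLib.LargeSubgroups

open Subgroup CfsgLib.TwoGroups

/-- The common properties of dihedral and semidihedral 2-groups of order at least 8. -/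
def IsDihLike (T : Type*) [Group T] : Prop :=
  ∃ (N : ℕ) (x : T), 2 ≤ N ∧ orderOf x = 2 ^ N ∧ Nat.card T = 2 * orderOf x ∧
    ∀ y : T, y ∉ zpowers x → y ^ 4 = 1 ∧ ∀ t ∈ zpowers x, t ^ 4 = 1 → y * t * y⁻¹ = t⁻¹

theorem isDihLike_of_equiv {S T : Type*} [Group S] [Group T] (e : S ≃* T) (h : IsDihLike T) :
    IsDihLike S := by
  obtain ⟨N, x, hN, hx, hc, hy⟩ := h
  refine ⟨N, e.symm x, hN, by rw [e.symm.orderOf_eq, hx],
    by rw [e.symm.orderOf_eq, ← hc, Nat.card_congr e.toEquiv], fun y hy' => ?_⟩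
  have hy'' : e y ∉ zpowers x := fun hh => hy' (by
    obtain ⟨i, hi⟩ := mem_zpowers_iff.1 hh
    exact mem_zpowers_iff.2 ⟨i, e.injective (by rw [map_zpow, e.apply_symm_apply, hi])⟩)
  refine ⟨e.injective (by rw [map_pow, (hy _ hy'').1, map_one]), fun t ht ht4 => e.injective ?_⟩
  have ht' : e t ∈ zpowers x := by
    obtain ⟨i, hi⟩ := mem_zpowers_iff.1 ht
    exact mem_zpowers_iff.2 ⟨i, by rw [← hi, map_zpow, e.apply_symm_apply]⟩
  rw [map_mul, map_mul, map_inv, map_inv,
    (hy _ hy'').2 (e t) ht' (by rw [← map_pow, ht4, map_one])]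

theorem isDihLike_dihedral {N : ℕ} (hN : 2 ≤ N) : IsDihLike (DihedralGroup (2 ^ N)) := by
  refine ⟨N, DihedralGroup.r 1, hN, DihedralGroup.orderOf_r_one,
    by rw [DihedralGroup.nat_card, DihedralGroup.orderOf_r_one], ?_⟩
  rintro (i | i) hy
  · exact absurd (mem_zpowers_iff.2 ⟨(i.val : ℤ), by
      rw [zpow_natCast, DihedralGroup.r_one_pow, ZMod.natCast_zmod_val]⟩) hy
  · refine ⟨?_, fun t ht _ => ?_⟩
    · rw [pow_succ, pow_succ, pow_two, DihedralGroup.sr_mul_self, one_mul, DihedralGroup.sr_mul_self]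
    · obtain ⟨n, rfl⟩ := mem_zpowers_iff.1 ht
      rw [DihedralGroup.r_one_zpow, DihedralGroup.inv_sr, DihedralGroup.sr_mul_r,
        DihedralGroup.sr_mul_sr, DihedralGroup.inv_r]
      congr 1
      abel

theorem isDihLike_quasiDihedral {S : Type*} [Group S] (hS : Cfsg.IsQuasiDihedral S) :
    IsDihLike S := by
  obtain ⟨k, x, y, h⟩ := exists_sdGen hS
  have := h.finite
  refine ⟨k + 3, x, by omega, h.orderOf_x, h.card_eq_two_mul, fun g hg => ?_⟩
  rcases h.cases g with ⟨a, rfl⟩ | ⟨a, rfl⟩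
  · exact absurd (zpow_mem_zpowers x a) hg
  refine ⟨h.pow_four_outside a, fun t ht ht4 => ?_⟩
  obtain ⟨b, rfl⟩ := mem_zpowers_iff.1 ht
  have hd : (2 : ℤ) ^ (k + 3) ∣ b * 4 := by
    rw [← h.zpow_eq_one, zpow_mul]
    simpa using ht4
  obtain ⟨c, hc⟩ := hd
  have e1 : y * x ^ b = x ^ (((2 : ℤ) ^ (k + 2) - 1) * b) * y := h.mul_zpow b
  calc x ^ a * y * x ^ b * (x ^ a * y)⁻¹
      = x ^ a * (y * x ^ b) * y⁻¹ * (x ^ a)⁻¹ := by group
    _ = x ^ (((2 : ℤ) ^ (k + 2) - 1) * b) := by rw [e1]; group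
    _ = (x ^ b)⁻¹ := by
      rw [← zpow_neg, h.zpow_eq]
      refine ⟨-(c * 2 ^ k), ?_⟩
      linear_combination -(2 : ℤ) ^ k * hc

variable {G : Type*} [Group G] [Finite G]

theorem exists_normal_sl_two_three (hsol : Group.IsSolvable G) (hO : Cfsg.oddCore G = ⊥)
    (T : Sylow 2 G) (hT : IsDihLike (T : Subgroup G)) (hne : (T : Subgroup G) ≠ ⊤)
    (hZ : ((T : Subgroup G) ⊓ centralizer ((T : Subgroup G) : Set G)).Normal) :
    ∃ U : Subgroup G, U.Normal ∧ Nonempty (U ≃* Matrix.SpecialLinearGroup (Fin 2) (ZMod 3)) := by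
  haveI := hsol
  haveI : Fact (Nat.Prime 2) := ⟨Nat.prime_two⟩
  obtain ⟨N, xT, hN, hxo, hTc, hout'⟩ := hT
  set x : G := (xT : G) with hxdef
  have hxo' : orderOf x = 2 ^ N := by rw [hxdef, Subgroup.orderOf_coe, hxo]
  have hXT : zpowers x ≤ (T : Subgroup G) := zpowers_le.2 xT.2
  have hout : ∀ y ∈ (T : Subgroup G), y ∉ zpowers x →
      y ^ 4 = 1 ∧ ∀ t ∈ zpowers x, t ^ 4 = 1 → y * t * y⁻¹ = t⁻¹ := by
    intro y hy hyx
    have hyx' : (⟨y, hy⟩ : (T : Subgroup G)) ∉ zpowers xT := fun hh => hyx (by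
      obtain ⟨i, hi⟩ := mem_zpowers_iff.1 hh
      exact mem_zpowers_iff.2 ⟨i, by simpa using congrArg Subtype.val hi⟩)
    obtain ⟨h1, h2⟩ := hout' _ hyx'
    refine ⟨congrArg Subtype.val h1, fun t ht ht4 => ?_⟩
    obtain ⟨i, rfl⟩ := mem_zpowers_iff.1 ht
    exact congrArg Subtype.val (h2 (xT ^ i) (zpow_mem_zpowers xT i)
      (Subtype.ext (by simpa using ht4)))
  have hTX : ∀ H : Subgroup G, H ≤ (T : Subgroup G) → ¬ H ≤ zpowers x →
      Nat.card H = 2 * Nat.card ↥(H ⊓ zpowers x) := by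
    intro H hHT hHX
    have hi : (zpowers x).relIndex (T : Subgroup G) = 2 := by
      have h := relIndex_mul_relIndex ⊥ (zpowers x) (T : Subgroup G) bot_le hXT
      rw [relIndex_bot_left, relIndex_bot_left, Nat.card_zpowers, hTc, hxdef,
        Subgroup.orderOf_coe, mul_comm 2] at h
      exact Nat.eq_of_mul_eq_mul_left (orderOf_pos xT) h
    haveI hn : ((zpowers x).subgroupOf (T : Subgroup G)).Normal :=
      normal_of_index_eq_two hi
    have hdvd : (zpowers x).relIndex H ∣ 2 := by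
      have h3 : (zpowers x).relIndex H ∣ (zpowers x).relIndex (T : Subgroup G) := by
        rw [← relIndex_subgroupOf (H := zpowers x) hHT]
        exact Subgroup.relIndex_dvd_index_of_normal _ _
      rwa [hi] at h3
    have hne1 : (zpowers x).relIndex H ≠ 1 := fun e => hHX (relIndex_eq_one.1 e)
    have h2 : (zpowers x).relIndex H = 2 :=
      ((Nat.dvd_prime Nat.prime_two).1 hdvd).resolve_left hne1
    have h := relIndex_mul_relIndex ⊥ (H ⊓ zpowers x) H bot_le inf_le_left
    rw [relIndex_bot_left, relIndex_bot_left, inf_relIndex_left, h2, mul_comm] at h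
    exact h.symm
  -- the central involution
  have hxpos : 0 < N := by omega
  set z := x ^ 2 ^ (N - 1) with hz
  set t4 := x ^ 2 ^ (N - 2) with ht4def
  have hzo : orderOf z = 2 := by
    rw [hz, orderOf_pow, hxo', Nat.gcd_eq_right (pow_dvd_pow 2 (Nat.sub_le N 1)),
      Nat.pow_div (Nat.sub_le N 1) two_pos, show N - (N - 1) = 1 by omega, pow_one]
  have ht4o : orderOf t4 = 4 := by
    rw [ht4def, orderOf_pow, hxo', Nat.gcd_eq_right (pow_dvd_pow 2 (Nat.sub_le N 2)),
      Nat.pow_div (Nat.sub_le N 2) two_pos, show N - (N - 2) = 2 by omega]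
    norm_num
  have hzX : z ∈ zpowers x := pow_mem (mem_zpowers x) _
  have hinvX : ∀ w ∈ zpowers x, w * w = 1 → w = 1 ∨ w = z := by
    intro w hw hw2
    by_cases hw1 : w = 1
    · exact Or.inl hw1
    right
    have hwo : orderOf w = 2 := orderOf_eq_prime (by rw [pow_two]; exact hw2) hw1
    have hXc : IsCyclic (zpowers x) := inferInstance
    obtain ⟨i, rfl⟩ := mem_zpowers_iff.1 hw
    have hd : (orderOf x : ℤ) ∣ i * 2 := by
      rw [orderOf_dvd_iff_zpow_eq_one, zpow_mul, zpow_two]; exact hw2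
    obtain ⟨c, hc⟩ := hd
    have hN1 : (orderOf x : ℤ) = 2 ^ (N - 1) * 2 := by
      rw [hxo', ← pow_succ, show N - 1 + 1 = N by omega]; push_cast; rfl
    have hi : i = 2 ^ (N - 1) * c := by
      rw [hN1] at hc; linarith
    rcases Int.even_or_odd c with ⟨d, rfl⟩ | ⟨d, rfl⟩
    · refine absurd ?_ hw1
      rw [hi, show (2 : ℤ) ^ (N - 1) * (d + d) = (orderOf x : ℤ) * d by rw [hN1]; ring, zpow_mul,
        zpow_natCast, pow_orderOf_eq_one, one_zpow]
    · rw [hi, show (2 : ℤ) ^ (N - 1) * (2 * d + 1) = (orderOf x : ℤ) * d + ((2 ^ (N - 1) : ℕ) : ℤ) by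
          rw [hN1]; push_cast; ring, zpow_add, zpow_mul, zpow_natCast, zpow_natCast, pow_orderOf_eq_one,
        one_zpow, one_mul]
  set Z := (T : Subgroup G) ⊓ centralizer ((T : Subgroup G) : Set G) with hZdef
  haveI := hZ
  have hZX : Z ≤ zpowers x := by
    intro c hc
    by_contra hcx
    have h1 := (hout c hc.1 hcx).2 t4 (pow_mem (mem_zpowers x) _)
      (by rw [← ht4o, pow_orderOf_eq_one])
    rw [← mem_centralizer_iff.1 hc.2 t4 (hXT (pow_mem (mem_zpowers x) _)), mul_inv_cancel_right] at h1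
    have h2 : t4 ^ 2 = 1 := by rw [pow_two]; nth_rw 1 [h1]; exact inv_mul_cancel t4
    have := orderOf_le_of_pow_eq_one two_pos h2
    omega
  have hTp : IsPGroup 2 (T : Subgroup G) := T.2
  have hTne : (T : Subgroup G) ≠ ⊥ := fun e => by
    have := hXT hzX
    rw [e, mem_bot] at this
    rw [this, orderOf_one] at hzo
    omega
  have hzZ : z ∈ Z := by
    haveI : Nontrivial (T : Subgroup G) := (nontrivial_iff_ne_bot _).2 hTne
    haveI := hTp.center_nontrivial
    obtain ⟨⟨⟨c, hcT⟩, hc⟩, hc'⟩ := exists_prime_orderOf_dvd_card' 2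
      (((hTp.to_subgroup (center _)).card_eq_or_dvd).resolve_left Finite.one_lt_card.ne')
    rw [← Subgroup.orderOf_coe, ← Subgroup.orderOf_coe] at hc'
    change orderOf c = 2 at hc'
    have hcZ : c ∈ Z := ⟨hcT, fun t ht => congrArg Subtype.val (mem_center_iff.1 hc ⟨t, ht⟩)⟩
    rcases hinvX c (hZX hcZ) (by rw [← pow_two, ← hc', pow_orderOf_eq_one]) with e | e
    · rw [e, orderOf_one] at hc'; omega
    · exact e ▸ hcZ
  have hzc : ∀ g : G, g * z * g⁻¹ = z := by
    intro g
    have hg : g * z * g⁻¹ ∈ Z := hZ.conj_mem z hzZ g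
    have hz2 : z * z = 1 := by rw [← pow_two, ← hzo, pow_orderOf_eq_one]
    rcases hinvX _ (hZX hg) (by
      calc g * z * g⁻¹ * (g * z * g⁻¹) = g * (z * z) * g⁻¹ := by group
        _ = 1 := by rw [hz2]; group) with e | e
    · rw [conj_eq_one_iff] at e
      rw [e, orderOf_one] at hzo
      omega
    · exact e
  -- the 2-core
  set P := Cfsg.pCore 2 G with hP
  have hPp : IsPGroup 2 P := CfsgLib.Cores.isPGroup_pCore 2 G
  have hCP : centralizer (P : Set G) ≤ P := by
    have h := CfsgLib.Cores.centralizer_fittingSubgroup_le (G := G)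
    rwa [CfsgLib.Balance.fittingSubgroup_eq_pCore hO] at h
  have hPT : P ≤ (T : Subgroup G) := le_sup_right.trans
    (T.3 (IsPGroup.to_sup_of_normal_right T.2 hPp) le_sup_left).le
  have hzP : z ∈ P := CfsgLib.Cores.le_pCore
    (hTp.to_le (inf_le_left : Z ≤ (T : Subgroup G))) hzZ
  obtain ⟨w, hwo, hw1⟩ : ∃ w : G, Odd (orderOf w) ∧ w ≠ 1 := by
    by_contra hall
    push Not at hall
    refine hne ?_
    have hG : IsPGroup 2 (⊤ : Subgroup G) :=
      CfsgLib.Quasithin.isPGroup_of_forall_coprime_eq_one fun g _ hg =>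
        hall g (Nat.coprime_two_right.1 hg)
    exact (T.3 hG le_top).symm
  have hwP : w ∉ centralizer (P : Set G) := fun hh => by
    obtain ⟨k, hk⟩ := hPp ⟨w, hCP hh⟩
    exact hw1 (eq_one_of_pow_odd hwo (pow_orderOf_eq_one w) (congrArg Subtype.val hk))
  set α : MulAut P := MulAut.conjNormal w with hα
  have hαo : Odd (orderOf α) := hwo.of_dvd_nat (orderOf_map_dvd _ w)
  have hαne : α ≠ 1 := fun e => hwP (mem_centralizer_iff.2 fun p hp => by
    have h1 := congrArg Subtype.val (DFunLike.congr_fun e ⟨p, hp⟩)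
    rw [hα, MulAut.conjNormal_apply, MulAut.one_apply] at h1
    exact (mul_inv_eq_iff_eq_mul.1 h1).symm)
  have hnot : ¬ IsPGroup 2 (MulAut P) := fun hh => by
    obtain ⟨k, hk⟩ := hh α
    exact hαne (eq_one_of_pow_odd hαo (pow_orderOf_eq_one α) hk)
  -- the cyclic part of `P`
  have hPX : ¬ P ≤ zpowers x := fun hle => by
    haveI := Subgroup.isCyclic_of_le hle
    exact hnot (isPGroup_mulAut_of_isCyclic hPp)
  haveI : IsCyclic ↥(P ⊓ zpowers x) := Subgroup.isCyclic_of_le inf_le_right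
  obtain ⟨⟨u, huP, huX⟩, hu⟩ := IsCyclic.exists_generator (α := ↥(P ⊓ zpowers x))
  obtain ⟨j, hj⟩ := IsPGroup.iff_card.1 (hPp.to_le (inf_le_left : P ⊓ zpowers x ≤ P))
  have huo : orderOf u = 2 ^ j := by
    rw [← hj, ← orderOf_eq_card_of_forall_mem_zpowers hu]
    exact Subgroup.orderOf_coe (⟨u, huP, huX⟩ : ↥(P ⊓ zpowers x))
  set uP : P := ⟨u, huP⟩ with huPdef
  have huPo : orderOf uP = 2 ^ j := by rw [huPdef, Subgroup.orderOf_mk, huo]
  have hPc : Nat.card P = 2 ^ (j + 1) := by rw [hTX P hPT hPX, hj]; ring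
  have hmemu : ∀ g : P, (g : G) ∈ zpowers x → g ∈ zpowers uP := by
    intro g hg
    obtain ⟨i, hi⟩ := mem_zpowers_iff.1 (hu ⟨g, g.2, hg⟩)
    exact mem_zpowers_iff.2 ⟨i, Subtype.ext (by simpa [huPdef] using congrArg Subtype.val hi)⟩
  have hPout : ∀ g : P, g ∉ zpowers uP →
      g ^ 4 = 1 ∧ ∀ t ∈ zpowers uP, t ^ 4 = 1 → g * t * g⁻¹ = t⁻¹ := by
    intro g hg
    obtain ⟨h1, h2⟩ := hout g (hPT g.2) fun hh => hg (hmemu g hh)
    refine ⟨Subtype.ext (by simpa using h1), fun t ht ht4 => Subtype.ext ?_⟩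
    obtain ⟨i, rfl⟩ := mem_zpowers_iff.1 ht
    have := h2 (u ^ i) (Subgroup.zpow_mem _ huX i) (by simpa using congrArg Subtype.val ht4)
    simpa [huPdef] using this
  have hj2 : j = 2 := by
    rcases lt_trichotomy j 2 with hlt | heq | hgt
    · exfalso
      -- `w` would centralise `P`
      refine hwP (mem_centralizer_iff.2 fun g hg => ?_)
      have hzin : z ∈ P ⊓ zpowers x := ⟨hzP, hzX⟩
      have hle : Nat.card ↥(P ⊓ zpowers x) ≤ Nat.card (zpowers z) := by
        rw [hj, Nat.card_zpowers, hzo]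
        calc 2 ^ j ≤ 2 ^ 1 := Nat.pow_le_pow_right two_pos (by omega)
          _ = 2 := pow_one 2
      have hzz : zpowers z = P ⊓ zpowers x := eq_of_le_of_card_ge (zpowers_le.2 hzin) hle
      have hP4 : Nat.card P = 4 := by
        rw [hTX P hPT hPX, ← hzz, Nat.card_zpowers, hzo]
      have hfix : ∀ v : G, v ∈ zpowers z → w * v * w⁻¹ = v := by
        intro v hv
        obtain ⟨i, rfl⟩ := mem_zpowers_iff.1 hv
        rw [← conj_zpow, hzc]
      set Y : Subgroup P := (zpowers z).subgroupOf P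
      have hYi : Y.index = 2 := by
        have h := Y.index_mul_card
        rw [hP4, Nat.card_congr (subgroupOfEquivOfLe (zpowers_le.2 hzP)).toEquiv,
          Nat.card_zpowers, hzo] at h
        omega
      by_cases hgz : g ∈ zpowers z
      · exact (mul_inv_eq_iff_eq_mul.1 (hfix g hgz)).symm
      have hgY : (⟨g, hg⟩ : P) ∉ Y := hgz
      have hαY : ∀ v : P, v ∈ Y → α v = v := fun v hv => Subtype.ext (by
        rw [hα, MulAut.conjNormal_apply]; exact hfix v hv)
      have hαg : α ⟨g, hg⟩ * (⟨g, hg⟩ : P)⁻¹ ∈ Y := by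
        by_cases hh : α ⟨g, hg⟩ ∈ Y
        · exact absurd (by rw [← α.injective (hαY _ hh)]; exact hh) hgY
        · exact (Subgroup.mul_mem_iff_of_index_two hYi).2 (iff_of_false hh
            (fun h' => hgY (inv_mem_iff.1 h')))
      obtain ⟨i, hi⟩ : ∃ v : P, v ∈ Y ∧ α ⟨g, hg⟩ = v * ⟨g, hg⟩ :=
        ⟨_, hαg, by rw [inv_mul_cancel_right]⟩
      have h2 : (α ^ 2 ^ 1) ⟨g, hg⟩ = ⟨g, hg⟩ := by
        rw [pow_one, pow_two, MulAut.mul_apply, hi.2, map_mul, hαY _ hi.1, hi.2, ← mul_assoc]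
        have : i * i = 1 := by
          have hv := hi.1
          obtain ⟨m, hm⟩ := mem_zpowers_iff.1 (show (i : G) ∈ zpowers z from hv)
          refine Subtype.ext ?_
          rw [Subgroup.coe_mul, Subgroup.coe_one, ← hm, ← zpow_add, ← two_mul, zpow_mul, zpow_two,
            ← pow_two, ← hzo, pow_orderOf_eq_one, one_zpow]
        rw [this, one_mul]
      have := CfsgLib.PGroups.fixed_of_pow_fixed hαo h2
      have h3 := congrArg Subtype.val this
      rw [hα, MulAut.conjNormal_apply] at h3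
      exact (mul_inv_eq_iff_eq_mul.1 h3).symm
    · exact heq
    · refine absurd (isPGroup_mulAut_of_orderOf_ne huPo hPc fun g hg he => ?_) hnot
      have h4 := orderOf_dvd_of_pow_eq_one (hPout g hg).1
      rw [he] at h4
      have := Nat.le_of_dvd (by norm_num) h4
      have : 2 ^ 3 ≤ 2 ^ j := Nat.pow_le_pow_right two_pos (by omega)
      omega
  subst hj2
  obtain ⟨g, hgX, hgo⟩ : ∃ g : P, g ∉ zpowers uP ∧ orderOf g = 2 ^ 2 := by
    by_contra hall
    push Not at hall
    exact hnot (isPGroup_mulAut_of_orderOf_ne huPo hPc hall)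
  have hg2 : g ^ 2 = uP ^ 2 := by
    have hg2X : ((g ^ 2 : P) : G) ∈ zpowers x := by
      by_contra hh
      have h1 := (hout _ (hPT (g ^ 2).2) hh).2 t4 (pow_mem (mem_zpowers x) _)
        (by rw [← ht4o, pow_orderOf_eq_one])
      have hgnX : (g : G) ∉ zpowers x := fun h' => hgX (hmemu g h')
      have h2 := (hout _ (hPT g.2) hgnX).2 t4 (pow_mem (mem_zpowers x) _)
        (by rw [← ht4o, pow_orderOf_eq_one])
      have h3 : ((g ^ 2 : P) : G) * t4 * ((g ^ 2 : P) : G)⁻¹ = t4 := by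
        rw [SubmonoidClass.coe_pow, pow_two]
        calc (g : G) * g * t4 * ((g : G) * g)⁻¹ = (g : G) * ((g : G) * t4 * (g : G)⁻¹) * (g : G)⁻¹ := by group
          _ = ((g : G) * t4 * (g : G)⁻¹)⁻¹ := by nth_rw 1 [h2]; group
          _ = t4 := by rw [h2, inv_inv]
      rw [h3] at h1
      have h4 : t4 ^ 2 = 1 := by rw [pow_two]; nth_rw 1 [h1]; exact inv_mul_cancel t4
      have := orderOf_le_of_pow_eq_one two_pos h4
      omega
    have hsq : ∀ v : P, (v : G) ∈ zpowers x → orderOf v = 2 → (v : G) = z := by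
      intro v hv ho
      rcases hinvX v hv (by
        rw [← Subgroup.orderOf_coe] at ho
        rw [← pow_two, ← ho, pow_orderOf_eq_one]) with e | e
      · rw [← Subgroup.orderOf_coe, e, orderOf_one] at ho; omega
      · exact e
    refine Subtype.ext ((hsq _ hg2X ?_).trans (hsq _ (by simpa [huPdef] using Subgroup.pow_mem _ huX 2) ?_).symm)
    · rw [orderOf_pow, hgo]; norm_num
    · rw [orderOf_pow, huPo]; norm_num
  have hconj : g * uP * g⁻¹ = uP⁻¹ :=
    (hPout g hgX).2 uP (mem_zpowers uP) (by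
      rw [show (4 : ℕ) = 2 ^ 2 by norm_num, ← huPo, pow_orderOf_eq_one])
  obtain ⟨eQ⟩ := nonempty_mulEquiv_quaternion (k := 2) (by rw [huPo]; norm_num)
    (by rw [hPc]; norm_num) hgX hg2 hconj
  obtain ⟨a, b, hab, hbab, ha4, haa, hbb, hba, hgen⟩ := CfsgLib.PGroups.exists_pair eQ α hαo hαne
  -- `w` has order three
  have hb4 : b * a * b = a := by
    rw [hba, mul_assoc, hbb, ← pow_add, pow_succ, ha4, one_mul]
  have hα3a : α (α (α a)) = a := by rw [hab, hbab, map_mul, hab, hbab, ← mul_assoc, hb4]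
  have hα3b : α (α (α b)) = b := by
    have := congrArg α hα3a
    rwa [hab] at this
  have hw3 : w ^ 3 = 1 := by
    have hC : w ^ 3 ∈ centralizer (P : Set G) := by
      refine mem_centralizer_iff.2 fun p hp => ?_
      obtain ⟨i, k, hik⟩ := hgen ⟨p, hp⟩
      have e : (α ^ 3) ⟨p, hp⟩ = ⟨p, hp⟩ := by
        rw [hik, map_mul, map_pow, map_pow]
        simp only [pow_succ, pow_zero, one_mul, MulAut.mul_apply, hα3a, hα3b]
      rw [hα, ← map_pow] at e
      have h1 := congrArg Subtype.val e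
      rw [MulAut.conjNormal_apply] at h1
      exact (mul_inv_eq_iff_eq_mul.1 h1).symm
    obtain ⟨k, hk⟩ := hPp ⟨_, hCP hC⟩
    exact eq_one_of_pow_odd hwo (by rw [← pow_mul, mul_comm, pow_mul, pow_orderOf_eq_one, one_pow])
      (congrArg Subtype.val hk)
  set U := closure ({(a : G), (b : G), w} : Set G) with hU
  have haU : (a : G) ∈ U := subset_closure (by simp)
  have hbU : (b : G) ∈ U := subset_closure (by simp)
  have hwU : w ∈ U := subset_closure (by simp)
  have hconjw : ∀ p : P, w * (p : G) = (α p : G) * w := fun p => by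
    rw [hα, MulAut.conjNormal_apply, inv_mul_cancel_right]
  have hpres : CfsgLib.PGroups.SLPres (⟨a, haU⟩ : U) ⟨b, hbU⟩ ⟨w, hwU⟩ := by
    refine ⟨Subtype.ext ?_, Subtype.ext ?_, Subtype.ext ?_, Subtype.ext ?_, Subtype.ext ?_, Subtype.ext ?_⟩
    · simpa using congrArg Subtype.val ha4
    · simpa using congrArg Subtype.val hbb
    · show w * (w * w) = 1
      rw [← hw3, pow_succ, pow_two, mul_assoc]
    · simpa using congrArg Subtype.val hba
    · show w * (a : G) = (b : G) * w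
      rw [hconjw, hab]
    · show w * (b : G) = (a : G) * b * w
      rw [hconjw, hbab]; rfl
  have hgenU : closure {(⟨a, haU⟩ : U), ⟨b, hbU⟩, ⟨w, hwU⟩} = ⊤ := by
    refine eq_top_iff.2 fun v _ => ?_
    have hmap : (closure {(⟨a, haU⟩ : U), ⟨b, hbU⟩, ⟨w, hwU⟩}).map U.subtype = U := by
      rw [MonoidHom.map_closure]
      refine (congrArg Subgroup.closure ?_).trans hU.symm
      simp [Set.image_insert_eq]
    obtain ⟨v', hv', hvv⟩ := hmap.ge v.2
    rwa [← Subtype.ext (show (v' : G) = v from hvv)]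
  have hPU : P ≤ U := fun p hp => by
    obtain ⟨i, k, hik⟩ := hgen ⟨p, hp⟩
    have : p = (a : G) ^ (i : ℕ) * (b : G) ^ (k : ℕ) := by simpa using congrArg Subtype.val hik
    rw [this]
    exact U.mul_mem (U.pow_mem haU _) (U.pow_mem hbU _)
  have h24 : 24 ≤ Nat.card U := by
    have h3 : 3 ∣ Nat.card U := orderOf_eq_prime hw3 hw1 ▸ Subgroup.orderOf_dvd_natCard U hwU
    have h8 : 8 ∣ Nat.card U := by
      have := card_dvd_of_le hPU
      rwa [hPc] at this
    exact Nat.le_of_dvd Nat.card_pos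
      (Nat.Coprime.mul_dvd_of_dvd_of_dvd (by norm_num : Nat.Coprime 3 8) h3 h8)
  refine ⟨U, ?_, hpres.nonempty_mulEquiv hgenU h24⟩
  -- `|G| ≤ 48`
  classical
  let cj : G → QuaternionGroup 2 × QuaternionGroup 2 := fun s =>
    (eQ (MulAut.conjNormal s a), eQ (MulAut.conjNormal s b))
  let good : Finset (QuaternionGroup 2 × QuaternionGroup 2) :=
    Finset.univ.filter fun v => v.1 * v.1 ≠ 1 ∧ v.2 * v.2 ≠ 1 ∧ v.2 ≠ v.1 ∧ v.2 ≠ v.1 * v.1 * v.1
  have hgood : good.card = 24 := by decide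
  have hbne : b ≠ a := fun e => hαne (by
    have hαa : α a = a := by rw [hab, e]
    have hαb : α b = b := by rw [e]; exact hαa
    refine MulEquiv.ext fun p => ?_
    obtain ⟨i, k, hik⟩ := hgen p
    rw [hik, map_mul, map_pow, map_pow, hαa, hαb, MulAut.one_apply])
  have hbne3 : b ≠ a * a * a := fun e => hαne (by
    have hαb : α b = a := by
      rw [e, map_mul, map_mul, hab, e]
      have h9 : a ^ 9 = a := by rw [show (9 : ℕ) = 4 + 4 + 1 by norm_num, pow_add, pow_add, ha4]; simp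
      calc a * a * a * (a * a * a) * (a * a * a) = a ^ 9 := by simp only [pow_succ, pow_zero, one_mul, mul_assoc]
        _ = a := h9
    have h2 : (α ^ 2 ^ 1) a = a := by rw [pow_one, pow_two, MulAut.mul_apply, hab, hαb]
    have hαa := CfsgLib.PGroups.fixed_of_pow_fixed hαo h2
    have hba' : b = a := by rw [← hab, hαa]
    refine MulEquiv.ext fun p => ?_
    obtain ⟨i, k, hik⟩ := hgen p
    rw [hik, hba', map_mul, map_pow, map_pow, hαa, MulAut.one_apply])
  have hcj : ∀ s : G, cj s ∈ good := by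
    intro s
    refine Finset.mem_filter.2 ⟨Finset.mem_univ _, ?_, ?_, ?_, ?_⟩ <;>
      simp only [cj, ← map_mul, ne_eq, map_eq_one_iff eQ eQ.injective, eQ.injective.eq_iff,
        map_eq_one_iff (MulAut.conjNormal s : MulAut P) (MulEquiv.injective _),
        (MulAut.conjNormal s : MulAut P).injective.eq_iff]
    · exact haa
    · rw [hbb, pow_two]; exact haa
    · exact hbne
    · exact hbne3
  have hfib : ∀ s t : G, cj s = cj t → t⁻¹ * s ∈ centralizer (P : Set G) := by
    intro s t h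
    obtain ⟨h1, h2⟩ := Prod.ext_iff.1 h
    refine mem_centralizer_iff.2 fun p hp => ?_
    obtain ⟨i, k, hik⟩ := hgen ⟨p, hp⟩
    have e : MulAut.conjNormal s (⟨p, hp⟩ : P) = MulAut.conjNormal t ⟨p, hp⟩ := by
      rw [hik, map_mul, map_mul, map_pow, map_pow, map_pow, map_pow, eQ.injective h1, eQ.injective h2]
    have h3 := congrArg Subtype.val e
    rw [MulAut.conjNormal_apply, MulAut.conjNormal_apply] at h3
    change s * p * s⁻¹ = t * p * t⁻¹ at h3
    calc p * (t⁻¹ * s) = t⁻¹ * (t * p * t⁻¹) * s := by group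
      _ = t⁻¹ * (s * p * s⁻¹) * s := by rw [h3]
      _ = t⁻¹ * s * p := by group
  set C := centralizer (P : Set G)
  have hC2 : Nat.card C ≤ 2 := by
    have h := (card_center_quaternion_two eQ).1
    rw [← h]
    refine Nat.card_le_card_of_injective (fun c => ⟨⟨c, hCP c.2⟩, mem_center_iff.2 fun p =>
      Subtype.ext (mem_centralizer_iff.1 c.2 p p.2)⟩) fun c d e => Subtype.ext ?_
    exact congrArg (fun q : center P => ((q : P) : G)) e
  have hidx : C.index ≤ 24 := by
    rw [Subgroup.index_eq_card, ← hgood, ← Nat.card_eq_finsetCard]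
    refine Nat.card_le_card_of_injective (fun q => ⟨cj q.out, hcj _⟩) fun q q' e => ?_
    have h := hfib _ _ (congrArg Subtype.val e)
    have h2 : (q'.out : G ⧸ C) = (q.out : G ⧸ C) := QuotientGroup.eq.2 h
    rw [QuotientGroup.out_eq', QuotientGroup.out_eq'] at h2
    exact h2.symm
  have hG : Nat.card G ≤ 48 := by
    rw [← C.card_mul_index]
    exact (Nat.mul_le_mul hC2 hidx).trans (by norm_num)
  have hUi : U.index = 1 ∨ U.index = 2 := by
    have h := U.card_mul_index
    have hpos : U.index ≠ 0 := Subgroup.index_ne_zero_of_finite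
    have : 24 * U.index ≤ 48 := (Nat.mul_le_mul_right _ h24).trans (h.le.trans hG)
    omega
  rcases hUi with h | h
  · rw [index_eq_one.1 h]; infer_instance
  · exact normal_of_index_eq_two h

end CfsgLib.LargeSubgroups
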