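import Mathlib
import Cfsg.Prelude.Def_CaseTheorems
import Cfsg.Agent.Lib.Cores.PCore

/-!
Extensions of a 2-group by a dihedral group of order `2r` with fixed-point-free `r`-elements.
-/

set_option autoImplicit false

namespace CfsgLib.LargeSubgroups

open Subgroup

theorem dihedral_odd_cases {r : ℕ} (hr : Odd r) {g : DihedralGroup r} (hg : orderOf g = 2) :
    ∃ i, g = DihedralGroup.sr i := by
  have : NeZero r := ⟨hr.pos.ne'⟩
  rcases g with i | i
  · exfalso
    have h : orderOf (DihedralGroup.r i) ∣ r := by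
      refine orderOf_dvd_of_pow_eq_one ?_
      rw [← ZMod.natCast_zmod_val i, ← DihedralGroup.r_one_pow, ← pow_mul, mul_comm, pow_mul,
        DihedralGroup.r_one_pow_n, one_pow]
    rw [hg] at h
    exact hr.not_two_dvd_nat h
  · exact ⟨i, rfl⟩

theorem dihedral_odd_conj {r : ℕ} (hr : Odd r) (g h : DihedralGroup r) (hg : orderOf g = 2)
    (hh : orderOf h = 2) : ∃ k : DihedralGroup r, k * g * k⁻¹ = h := by
  obtain ⟨i, rfl⟩ := dihedral_odd_cases hr hg
  obtain ⟨j, rfl⟩ := dihedral_odd_cases hr hh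
  obtain ⟨m, hm⟩ := hr
  refine ⟨DihedralGroup.r (((m : ℕ) + 1 : ZMod r) * (i - j)), ?_⟩
  rw [DihedralGroup.inv_r, DihedralGroup.r_mul_sr, DihedralGroup.sr_mul_r]
  congr 1
  have h1 : (2 : ZMod r) * ((m : ℕ) + 1) = 1 := by
    have h0 : ((2 * m + 1 : ℕ) : ZMod r) = 0 := by rw [← hm]; exact ZMod.natCast_self r
    push_cast at h0
    linear_combination h0
  linear_combination -(i - j) * h1

theorem dihedral_odd_inverts {r : ℕ} (hr : Odd r) {g h : DihedralGroup r} (hg : orderOf g = 2)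
    (hh : orderOf h = r) : g * h * g⁻¹ = h⁻¹ := by
  obtain ⟨i, rfl⟩ := dihedral_odd_cases hr hg
  rcases h with j | j
  · rw [DihedralGroup.inv_sr, DihedralGroup.sr_mul_r, DihedralGroup.sr_mul_sr, DihedralGroup.inv_r]
    congr 1
    abel
  · rw [DihedralGroup.orderOf_sr] at hh
    exact absurd (hh ▸ hr) (by decide)

variable {G : Type*} [Group G] [Finite G]

theorem dihedral_extension {r : ℕ} [Fact r.Prime] (hr2 : r ≠ 2) {V : Subgroup G} [V.Normal]
    (hV : IsPGroup 2 V) (e : G ⧸ V ≃* DihedralGroup r) (R : Sylow r G)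
    (hC : V ⊓ centralizer ((R : Subgroup G) : Set G) = ⊥) :
    Nonempty (↥(normalizer ((R : Subgroup G) : Set G)) ≃* DihedralGroup r) ∧
      ∀ a : G, a ∈ normalizer ((R : Subgroup G) : Set G) → orderOf a = 2 →
        (∀ b : G, orderOf b = 2 → b ∉ V → ∃ g : G, g * a * g⁻¹ = b) ∧
          Nat.card ↥(V ⊓ centralizer ({a} : Set G)) ^ 2 = Nat.card V := by
  have hrp : r.Prime := Fact.out
  have hrodd : Odd r := hrp.odd_of_ne_two hr2
  haveI : NeZero r := ⟨hrp.ne_zero⟩
  set π := QuotientGroup.mk' V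
  have hQc : Nat.card (G ⧸ V) = 2 * r := by rw [Nat.card_congr e.toEquiv, DihedralGroup.nat_card]
  have hVodd : ∀ v ∈ V, ∀ k : ℕ, v ^ r ^ k = 1 → v = 1 := by
    intro v hv k hk
    obtain ⟨l, hl⟩ := hV ⟨v, hv⟩
    have h1 : v ^ 2 ^ l = 1 := congrArg Subtype.val hl
    exact orderOf_eq_one_iff.1 (Nat.eq_one_of_dvd_coprimes
      (((Nat.coprime_primes hrp Nat.prime_two).2 hr2).pow k l)
      (orderOf_dvd_of_pow_eq_one hk) (orderOf_dvd_of_pow_eq_one h1))
  -- the Sylow subgroup has order `r`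
  have hRr : Nat.card (R : Subgroup G) = r := by
    obtain ⟨k, hk⟩ := IsPGroup.iff_card.1 R.2
    have hinj : Function.Injective (π.comp (R : Subgroup G).subtype) := by
      refine (injective_iff_map_eq_one _).2 fun x hx => ?_
      have hxV : (x : G) ∈ V := (QuotientGroup.eq_one_iff _).1 hx
      obtain ⟨l, hl⟩ := R.2 x
      exact Subtype.ext (hVodd x hxV l (congrArg Subtype.val hl))
    have h1 := card_dvd_of_injective _ hinj
    rw [hQc, hk] at h1
    have h2 : r ^ k ∣ r :=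
      (((Nat.coprime_primes hrp Nat.prime_two).2 hr2).pow_left k).dvd_of_dvd_mul_left h1
    have hdG : r ∣ Nat.card G := by
      rw [V.card_eq_card_quotient_mul_card_subgroup, hQc, mul_assoc]
      exact dvd_mul_of_dvd_right (dvd_mul_right r _) 2
    have h3 : r ∣ r ^ k := hk ▸ R.dvd_card_of_dvd_card hdG
    rw [hk]
    exact Nat.dvd_antisymm h2 h3
  haveI : IsCyclic (R : Subgroup G) := isCyclic_of_prime_card hRr
  obtain ⟨ρR, hρ⟩ := IsCyclic.exists_generator (α := (R : Subgroup G))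
  set ρ : G := (ρR : G) with hρdef
  have hρo : orderOf ρ = r := by
    rw [hρdef, Subgroup.orderOf_coe, orderOf_eq_card_of_forall_mem_zpowers hρ, hRr]
  have hρR : ρ ∈ (R : Subgroup G) := ρR.2
  set N := normalizer ((R : Subgroup G) : Set G) with hN
  -- the image of `R`
  set W := ((R : Subgroup G).map π).comap π with hW
  have hRπ : Nat.card ((R : Subgroup G).map π) = r := by
    have hρπ : π ρ ≠ 1 := fun h => by
      have h1 := hVodd ρ ((QuotientGroup.eq_one_iff _).1 h) 1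
        (by rw [pow_one, ← hρo, pow_orderOf_eq_one])
      rw [h1, orderOf_one] at hρo
      exact hrp.one_lt.ne hρo
    refine ((Nat.dvd_prime hrp).1 ?_).resolve_left fun h1 => hρπ ?_
    · exact (Subgroup.card_map_dvd (R : Subgroup G) π).trans hRr.dvd
    · have := Subgroup.card_eq_one.1 h1
      have h2 : π ρ ∈ (R : Subgroup G).map π := mem_map_of_mem π hρR
      rwa [this, mem_bot] at h2
  haveI : ((R : Subgroup G).map π).Normal := by
    refine normal_of_index_eq_two ?_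
    have h := ((R : Subgroup G).map π).card_mul_index
    rw [hRπ, hQc] at h
    exact Nat.eq_of_mul_eq_mul_left hrp.pos (by rw [h, mul_comm])
  have hRW : (R : Subgroup G) ≤ W := fun x hx => mem_map_of_mem π hx
  have hNW : N ⊔ W = ⊤ := Sylow.normalizer_sup_eq_top' R hRW
  have hNV : N ⊔ V = ⊤ := by
    refine top_le_iff.1 (hNW ▸ sup_le le_sup_left ?_)
    intro x hx
    obtain ⟨y, hy, hyx⟩ := mem_map.1 (show π x ∈ (R : Subgroup G).map π from hx)
    have hv : y⁻¹ * x ∈ V := QuotientGroup.eq.1 hyx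
    have := mul_mem (le_sup_left (b := V) (le_normalizer hy : y ∈ N)) (le_sup_right (a := N) hv)
    rwa [mul_inv_cancel_left] at this
  have hNinj : ∀ x ∈ N, x ∈ V → x = 1 := by
    intro x hxN hxV
    refine mem_bot.1 (hC ▸ show x ∈ V ⊓ centralizer ((R : Subgroup G) : Set G) from ⟨hxV, ?_⟩)
    refine mem_centralizer_iff.2 fun s hs => ?_
    have h1 : x * s * x⁻¹ * s⁻¹ ∈ (R : Subgroup G) :=
      mul_mem ((Subgroup.mem_normalizer_iff.1 hxN s).1 hs) (inv_mem hs)
    have h2 : x * s * x⁻¹ * s⁻¹ ∈ V := by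
      rw [show x * s * x⁻¹ * s⁻¹ = x * (s * x⁻¹ * s⁻¹) by group]
      exact V.mul_mem hxV (Subgroup.Normal.conj_mem inferInstance _ (inv_mem hxV) s)
    obtain ⟨l, hl⟩ := R.2 ⟨_, h1⟩
    have h3 := hVodd _ h2 l (congrArg Subtype.val hl)
    rw [mul_inv_eq_one, mul_inv_eq_iff_eq_mul] at h3
    exact h3.symm
  let f : N →* G ⧸ V := π.comp N.subtype
  have hf : Function.Bijective f := by
    refine ⟨(injective_iff_map_eq_one _).2 fun x hx =>
      Subtype.ext (hNinj x x.2 ((QuotientGroup.eq_one_iff _).1 hx)), fun q => ?_⟩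
    obtain ⟨g, rfl⟩ := QuotientGroup.mk'_surjective V q
    have hg : g ∈ N ⊔ V := hNV ▸ mem_top g
    rw [← SetLike.mem_coe, Subgroup.mul_normal] at hg
    obtain ⟨n, hn, v, hv, rfl⟩ := hg
    exact ⟨⟨n, hn⟩, QuotientGroup.eq.2 (by simpa using hv)⟩
  let eN : N ≃* DihedralGroup r := (MulEquiv.ofBijective f hf).trans e
  refine ⟨⟨eN⟩, fun a haN ha => ?_⟩
  have hρN : ρ ∈ N := le_normalizer hρR
  have hinv : a * ρ * a⁻¹ = ρ⁻¹ := by
    have h := dihedral_odd_inverts hrodd (g := eN ⟨a, haN⟩) (h := eN ⟨ρ, hρN⟩)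
      (by rw [eN.orderOf_eq, Subgroup.orderOf_mk, ha])
      (by rw [eN.orderOf_eq, Subgroup.orderOf_mk, hρo])
    rw [← map_inv, ← map_inv, ← map_mul, ← map_mul] at h
    exact congrArg Subtype.val (eN.injective h)
  have haa : a * a = 1 := by rw [← pow_two, ← ha, pow_orderOf_eq_one]
  have hai : a⁻¹ = a := inv_eq_of_mul_eq_one_right haa
  set a' := ρ * a * ρ⁻¹ with ha'
  set σ := a * a' with hσ
  have hσρ : σ = (ρ⁻¹) ^ 2 := by
    rw [hσ, ha', pow_two]
    calc a * (ρ * a * ρ⁻¹) = (a * ρ * a⁻¹) * (a * a) * ρ⁻¹ := by group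
      _ = ρ⁻¹ * ρ⁻¹ := by rw [haa, hinv, mul_one]
  have hσR : ∀ x : G, x * σ = σ * x → x ∈ centralizer ((R : Subgroup G) : Set G) := by
    intro x hx
    refine mem_centralizer_iff.2 fun s hs => ?_
    have hρσ : ρ⁻¹ ∈ zpowers σ := by
      obtain ⟨m, hm⟩ := hrodd
      refine mem_zpowers_iff.2 ⟨((m + 1 : ℕ) : ℤ), ?_⟩
      rw [zpow_natCast, hσρ, ← pow_mul, show 2 * (m + 1) = r + 1 by omega, pow_succ,
        ← hρo, ← orderOf_inv ρ, pow_orderOf_eq_one, one_mul]
    have hc : Commute x ρ := by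
      obtain ⟨i, hi⟩ := mem_zpowers_iff.1 hρσ
      have : Commute x ρ⁻¹ := hi ▸ (show Commute x σ from hx).zpow_right i
      simpa using this.inv_right
    obtain ⟨i, hi⟩ := mem_zpowers_iff.1 (hρ ⟨s, hs⟩)
    have hs' : s = ρ ^ i := by rw [hρdef]; simpa using (congrArg Subtype.val hi).symm
    rw [hs']
    exact (hc.zpow_right i).symm.eq
  have hCσ : ∀ v ∈ V, v * σ = σ * v → v = 1 := fun v hv hx => mem_bot.1 (hC ▸ (⟨hv, hσR v hx⟩ :
    v ∈ V ⊓ centralizer ((R : Subgroup G) : Set G)))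
  -- the coset of `σ` consists of conjugates
  have hcoset : ∀ x : G, σ⁻¹ * x ∈ V → ∃ v ∈ V, v * σ * v⁻¹ = x := by
    intro x hx
    let F : V → V := fun v => ⟨σ⁻¹ * (v * σ * v⁻¹), by
      push_cast
      rw [show σ⁻¹ * ((v : G) * σ * (v : G)⁻¹) = (σ⁻¹ * v * σ) * (v : G)⁻¹ by group]
      exact V.mul_mem (by simpa using Subgroup.Normal.conj_mem (inferInstance : V.Normal) _ v.2 σ⁻¹)
        (inv_mem v.2)⟩
    have hFi : Function.Injective F := by
      intro v w hvw
      have h1 : (v : G) * σ * (v : G)⁻¹ = (w : G) * σ * (w : G)⁻¹ :=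
        mul_left_cancel (congrArg Subtype.val hvw)
      refine Subtype.ext ?_
      have h2 := hCσ ((w : G)⁻¹ * v) (V.mul_mem (inv_mem w.2) v.2) (by
        calc (w : G)⁻¹ * v * σ = (w : G)⁻¹ * ((v : G) * σ * (v : G)⁻¹) * v := by group
          _ = σ * ((w : G)⁻¹ * v) := by rw [h1]; group)
      exact (inv_mul_eq_one.1 h2).symm
    obtain ⟨v, hv⟩ := (Finite.injective_iff_surjective.1 hFi) ⟨_, hx⟩
    exact ⟨v, v.2, mul_left_cancel (congrArg Subtype.val hv)⟩
  -- the involutions of the coset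
  let A := {b : G // b * b = 1 ∧ a⁻¹ * b ∈ V}
  let A' := {c : G // c * c = 1 ∧ a'⁻¹ * c ∈ V}
  let Co := {x : G // σ⁻¹ * x ∈ V}
  have hconjA : ∀ (u : G) {b : G}, b * b = 1 → u * b * u⁻¹ * (u * b * u⁻¹) = 1 := by
    intro u b hb
    calc u * b * u⁻¹ * (u * b * u⁻¹) = u * (b * b) * u⁻¹ := by group
      _ = 1 := by rw [hb]; group
  let φ : A × A' → Co := fun q => ⟨q.1.1 * q.2.1, by
    have h : σ⁻¹ * (q.1.1 * q.2.1) = (a'⁻¹ * (a⁻¹ * q.1.1) * a') * (a'⁻¹ * q.2.1) := by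
      rw [hσ]; group
    rw [h]
    exact V.mul_mem (by simpa using Subgroup.Normal.conj_mem (inferInstance : V.Normal) _ q.1.2.2 a'⁻¹)
      q.2.2.2⟩
  have hmemA : ∀ (u : G), u ∈ V → ∀ s : G, s⁻¹ * (u * s * u⁻¹) ∈ V := fun u hu s => by
    rw [show s⁻¹ * (u * s * u⁻¹) = (s⁻¹ * u * s) * u⁻¹ by group]
    exact V.mul_mem (by simpa using Subgroup.Normal.conj_mem (inferInstance : V.Normal) _ hu s⁻¹)
      (inv_mem hu)
  have hφ : Function.Bijective φ := by
    constructor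
    · rintro ⟨⟨b, hb, hbV⟩, ⟨c, hc, hcV⟩⟩ ⟨⟨b', hb', hbV'⟩, ⟨c', hc', hcV'⟩⟩ h
      have h' : b * c = b' * c' := congrArg Subtype.val h
      obtain ⟨v, hv, hvx⟩ := hcoset (b * c) (φ (⟨b, hb, hbV⟩, ⟨c, hc, hcV⟩)).2
      have key : ∀ s t : G, s * s = 1 → t * t = 1 → s * (s * t) * s⁻¹ = (s * t)⁻¹ := fun s t hs ht => by
        rw [inv_eq_of_mul_eq_one_right hs, mul_inv_rev, inv_eq_of_mul_eq_one_right hs,
          inv_eq_of_mul_eq_one_right ht, ← mul_assoc s s t, hs, one_mul]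
      have h1 := key b c hb hc
      have h2 := key b' c' hb' hc'
      rw [← h'] at h2
      have hbbV : b' * b ∈ V := by
        have : b' * b = (a⁻¹ * b')⁻¹ * (a⁻¹ * b) := by
          rw [mul_inv_rev, inv_eq_of_mul_eq_one_right hb']; group
        rw [this]; exact V.mul_mem (inv_mem hbV') hbV
      have hcx : b' * b * (b * c) * (b' * b)⁻¹ = b * c := by
        calc b' * b * (b * c) * (b' * b)⁻¹ = b' * (b * (b * c) * b⁻¹) * b'⁻¹ := by group
          _ = (b' * (b * c) * b'⁻¹)⁻¹ := by rw [h1]; group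
          _ = b * c := by rw [h2, inv_inv]
      have hw := hCσ (v⁻¹ * (b' * b) * v)
        (by simpa using Subgroup.Normal.conj_mem (inferInstance : V.Normal) _ hbbV v⁻¹) (by
          rw [← hvx] at hcx
          calc v⁻¹ * (b' * b) * v * σ
              = v⁻¹ * ((b' * b) * (v * σ * v⁻¹) * (b' * b)⁻¹) * (b' * b) * v := by group
            _ = σ * (v⁻¹ * (b' * b) * v) := by rw [hcx]; group)
      have hbb : b' * b = 1 := by
        calc b' * b = v * (v⁻¹ * (b' * b) * v) * v⁻¹ := by group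
          _ = 1 := by rw [hw]; group
      obtain rfl : b' = b := by
        rw [← inv_eq_of_mul_eq_one_right hbb, inv_eq_of_mul_eq_one_right hb']
      obtain rfl : c' = c := mul_left_cancel h'.symm
      rfl
    · rintro ⟨x, hx⟩
      obtain ⟨v, hv, rfl⟩ := hcoset x hx
      refine ⟨(⟨v * a * v⁻¹, hconjA v haa, hmemA v hv a⟩,
        ⟨v * a' * v⁻¹, hconjA v (hconjA ρ haa), hmemA v hv a'⟩), Subtype.ext ?_⟩
      show v * a * v⁻¹ * (v * a' * v⁻¹) = v * σ * v⁻¹
      rw [hσ]; group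
  have hAA' : Nat.card A = Nat.card A' := by
    refine Nat.card_congr
      { toFun := fun b => ⟨ρ * b.1 * ρ⁻¹, hconjA ρ b.2.1, ?_⟩
        invFun := fun c => ⟨ρ⁻¹ * c.1 * ρ, by simpa using hconjA ρ⁻¹ c.2.1, ?_⟩
        left_inv := fun b => Subtype.ext (by simp [mul_assoc])
        right_inv := fun c => Subtype.ext (by simp [mul_assoc]) }
    · rw [show a'⁻¹ * (ρ * b.1 * ρ⁻¹) = ρ * (a⁻¹ * b.1) * ρ⁻¹ by rw [ha']; group]
      exact Subgroup.Normal.conj_mem inferInstance _ b.2.2 ρ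
    · have e' : ∀ c₁ : G, a⁻¹ * (ρ⁻¹ * c₁ * ρ) = ρ⁻¹ * (a'⁻¹ * c₁) * ρ := fun c₁ => by rw [ha']; group
      rw [e' c.1]
      simpa using Subgroup.Normal.conj_mem (inferInstance : V.Normal) _ c.2.2 ρ⁻¹
  have hCo : Nat.card Co = Nat.card V := Nat.card_congr
    { toFun := fun x => ⟨σ⁻¹ * x.1, x.2⟩
      invFun := fun v => ⟨σ * v.1, by rw [inv_mul_cancel_left]; exact v.2⟩
      left_inv := fun x => Subtype.ext (mul_inv_cancel_left σ _)
      right_inv := fun v => Subtype.ext (inv_mul_cancel_left σ _) }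
  have hA2 : Nat.card A ^ 2 = Nat.card V := by
    rw [← hCo, ← Nat.card_eq_of_bijective φ hφ, Nat.card_prod, ← hAA', pow_two]
  set C := V ⊓ centralizer ({a} : Set G) with hCdef
  have hC2 : Nat.card C * Nat.card C ≤ Nat.card V := by
    rw [← Nat.card_prod]
    refine Nat.card_le_card_of_injective (fun q : C × C => (⟨q.1.1 * (ρ * q.2.1 * ρ⁻¹),
      V.mul_mem q.1.2.1 (Subgroup.Normal.conj_mem inferInstance _ q.2.2.1 ρ)⟩ : V)) ?_
    rintro ⟨c, d⟩ ⟨c', d'⟩ h
    have h' : c.1 * (ρ * d.1 * ρ⁻¹) = c'.1 * (ρ * d'.1 * ρ⁻¹) := congrArg Subtype.val h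
    have hca : Commute (c'.1⁻¹ * c.1) a :=
      (show Commute c'.1 a from mem_centralizer_singleton_iff.1 c'.2.2).inv_left.mul_left
        (mem_centralizer_singleton_iff.1 c.2.2)
    have e1 : c'.1⁻¹ * c.1 = ρ * (d'.1 * d.1⁻¹) * ρ⁻¹ := by
      calc c'.1⁻¹ * c.1 = c'.1⁻¹ * (c.1 * (ρ * d.1 * ρ⁻¹)) * (ρ * d.1 * ρ⁻¹)⁻¹ := by group
        _ = ρ * (d'.1 * d.1⁻¹) * ρ⁻¹ := by rw [h']; group
    have hca' : Commute (c'.1⁻¹ * c.1) a' := by
      rw [e1, ha', Commute.conj_iff]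
      exact (show Commute d'.1 a from mem_centralizer_singleton_iff.1 d'.2.2).mul_left
        (show Commute d.1 a from mem_centralizer_singleton_iff.1 d.2.2).inv_left
    have hu := hCσ _ (V.mul_mem (inv_mem c'.2.1) c.2.1) (hca.mul_right hca').eq
    have hc : c = c' := Subtype.ext (inv_mul_eq_one.1 hu).symm
    subst hc
    have h4 : d'.1 * d.1⁻¹ = 1 := by
      rw [hu, eq_comm, conj_eq_one_iff] at e1; exact e1
    exact Prod.ext rfl (Subtype.ext (mul_inv_eq_one.1 h4).symm)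
  -- the orbit map
  let ψ : (V ⧸ C.subgroupOf V) → A := fun q => ⟨(q.out : G) * a * (q.out : G)⁻¹, hconjA _ haa,
    hmemA _ q.out.2 a⟩
  have hψ : Function.Injective ψ := by
    intro q q' h
    rw [← QuotientGroup.out_eq' q, ← QuotientGroup.out_eq' q', QuotientGroup.eq, mem_subgroupOf]
    refine ⟨SetLike.coe_mem _, mem_centralizer_singleton_iff.2 ?_⟩
    have h' : (q.out : G) * a * (q.out : G)⁻¹ = (q'.out : G) * a * (q'.out : G)⁻¹ :=
      congrArg Subtype.val h
    push_cast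
    calc (q.out : G)⁻¹ * q'.out * a = (q.out : G)⁻¹ * ((q'.out : G) * a * (q'.out : G)⁻¹) * q'.out := by group
      _ = a * ((q.out : G)⁻¹ * q'.out) := by rw [← h']; group
  have hidx := Nat.card_le_card_of_injective ψ hψ
  have hmul : Nat.card (V ⧸ C.subgroupOf V) * Nat.card C = Nat.card V := by
    rw [← Nat.card_congr (subgroupOfEquivOfLe (inf_le_left : C ≤ V)).toEquiv,
      ← card_eq_card_quotient_mul_card_subgroup]
  have hApos : 0 < Nat.card A := Nat.card_pos_iff.2 ⟨⟨⟨a, haa, by simp⟩⟩, inferInstance⟩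
  have hCA : Nat.card C = Nat.card A := by
    have h1 : Nat.card C ≤ Nat.card A := Nat.mul_self_le_mul_self_iff.1 (by rw [← pow_two (Nat.card A), hA2]; exact hC2)
    have h2 : Nat.card A * Nat.card A ≤ Nat.card A * Nat.card C := by
      rw [← pow_two, hA2, ← hmul]
      exact Nat.mul_le_mul_right _ hidx
    exact le_antisymm h1 (Nat.le_of_mul_le_mul_left h2 hApos)
  refine ⟨fun b hb hbV => ?_, by rw [hCA, hA2]⟩
  have hidx2 : Nat.card (V ⧸ C.subgroupOf V) = Nat.card A := by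
    rw [hCA, ← hA2, pow_two] at hmul
    exact Nat.eq_of_mul_eq_mul_right hApos hmul
  have hψs : Function.Surjective ψ := ((Nat.bijective_iff_injective_and_card _).2 ⟨hψ, hidx2⟩).2
  have haπ : orderOf (e (π a)) = 2 := by
    rw [e.orderOf_eq]
    refine orderOf_eq_prime (by rw [← map_pow, ← ha, pow_orderOf_eq_one, map_one]) fun h => ?_
    have := hNinj a haN ((QuotientGroup.eq_one_iff _).1 h)
    rw [this, orderOf_one] at ha; omega
  have hbπ : orderOf (e (π b)) = 2 := by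
    rw [e.orderOf_eq]
    exact orderOf_eq_prime (by rw [← map_pow, ← hb, pow_orderOf_eq_one, map_one])
      fun h => hbV ((QuotientGroup.eq_one_iff _).1 h)
  obtain ⟨k, hk⟩ := dihedral_odd_conj hrodd _ _ haπ hbπ
  obtain ⟨g, hg⟩ := QuotientGroup.mk'_surjective V (e.symm k)
  have hg' : e (π g) = k := by rw [show π g = e.symm k from hg, e.apply_symm_apply]
  have hbg : π (g * a * g⁻¹) = π b := e.injective (by
    rw [map_mul, map_mul, map_inv, map_mul, map_mul, map_inv, hg', hk])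
  have hbb : b * b = 1 := by rw [← pow_two, ← hb, pow_orderOf_eq_one]
  have hmem : a⁻¹ * (g⁻¹ * b * g) ∈ V := by
    have := QuotientGroup.eq.1 hbg
    rw [show a⁻¹ * (g⁻¹ * b * g) = g⁻¹ * ((g * a * g⁻¹)⁻¹ * b) * g by group]
    simpa using Subgroup.Normal.conj_mem (inferInstance : V.Normal) _ this g⁻¹
  obtain ⟨q, hq⟩ := hψs ⟨g⁻¹ * b * g, by simpa using hconjA g⁻¹ hbb, hmem⟩
  have hq' : (q.out : G) * a * (q.out : G)⁻¹ = g⁻¹ * b * g := congrArg Subtype.val hq
  exact ⟨g * q.out, by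
    calc g * (q.out : G) * a * (g * (q.out : G))⁻¹ = g * ((q.out : G) * a * (q.out : G)⁻¹) * g⁻¹ := by group
      _ = b := by rw [hq']; group⟩

end CfsgLib.LargeSubgroups
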