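import Cfsg.Agent.Lib.LargeSubgroups.ModQuasisimple

/-!
Action on the chief factors inside `O_p(H)`, computed with subgroups of the ambient group.
-/

set_option autoImplicit false

namespace CfsgLib.LargeSubgroups

open Subgroup CfsgLib.FFModules
open scoped commutatorElement

local notation "MC[" g "]" => Subgroup.map (MulEquiv.toMonoidHom (MulAut.conj g))

variable {G : Type*} [Group G]

/-- The elements of `V` normalising `W` which centralise `B` modulo `W`. -/
def fixMod (V W B : Subgroup G) : Subgroup G where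
  carrier := {x | x ∈ V ∧ x ∈ normalizer (W : Set G) ∧ ∀ b ∈ B, x * b * x⁻¹ * b⁻¹ ∈ W}
  one_mem' := ⟨one_mem _, one_mem _, fun b _ => by simp⟩
  mul_mem' := by
    rintro x y ⟨hxV, hxN, hx⟩ ⟨hyV, hyN, hy⟩
    refine ⟨V.mul_mem hxV hyV, mul_mem hxN hyN, fun b hb => ?_⟩
    rw [show x * y * b * (x * y)⁻¹ * b⁻¹ =
      (x * (y * b * y⁻¹ * b⁻¹) * x⁻¹) * (x * b * x⁻¹ * b⁻¹) by group]
    exact W.mul_mem ((Subgroup.mem_normalizer_iff.1 hxN _).1 (hy b hb)) (hx b hb)
  inv_mem' := by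
    rintro x ⟨hxV, hxN, hx⟩
    refine ⟨V.inv_mem hxV, inv_mem hxN, fun b hb => ?_⟩
    rw [show x⁻¹ * b * x⁻¹⁻¹ * b⁻¹ = x⁻¹ * (x * b * x⁻¹ * b⁻¹)⁻¹ * x⁻¹⁻¹ by group]
    exact (Subgroup.mem_normalizer_iff.1 (inv_mem hxN) _).1 (W.inv_mem (hx b hb))

theorem mem_fixMod {V W B : Subgroup G} {x : G} :
    x ∈ fixMod V W B ↔
      x ∈ V ∧ x ∈ normalizer (W : Set G) ∧ ∀ b ∈ B, x * b * x⁻¹ * b⁻¹ ∈ W := Iff.rfl

theorem fixMod_le (V W B : Subgroup G) : fixMod V W B ≤ V := fun _ h => h.1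

theorem fixMod_le_normalizer (V W B : Subgroup G) : fixMod V W B ≤ normalizer (W : Set G) :=
  fun _ h => h.2.1

theorem le_normalizer_sup_of' [Finite G] {U A B : Subgroup G} (hA : U ≤ normalizer (A : Set G))
    (hB : U ≤ normalizer (B : Set G)) : U ≤ normalizer ((A ⊔ B : Subgroup G) : Set G) :=
  fun u hu => mem_normalizer_of_map_conj_le (by
    rw [Subgroup.map_sup, map_conj_eq_self (hA hu), map_conj_eq_self (hB hu)])

theorem fixMod_anti {V W B B' : Subgroup G} (h : B' ≤ B) : fixMod V W B ≤ fixMod V W B' :=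
  fun _ hx => ⟨hx.1, hx.2.1, fun b hb => hx.2.2 b (h hb)⟩

theorem le_fixMod {V W B X : Subgroup G} (hXV : X ≤ V) (hXW : X ≤ normalizer (W : Set G))
    (h : ⁅X, B⁆ ≤ W) : X ≤ fixMod V W B :=
  fun _ hx => ⟨hXV hx, hXW hx, fun _ hb => h (commutator_mem_commutator hx hb)⟩

theorem commutator_fixMod_le (V W B : Subgroup G) : ⁅fixMod V W B, B⁆ ≤ W :=
  Subgroup.commutator_le.2 fun _ hx b hb => hx.2.2 b hb

theorem map_conj_fixMod [Finite G] (V W B : Subgroup G) {g : G} (hV : g ∈ normalizer (V : Set G))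
    (hW : g ∈ normalizer (W : Set G)) : MC[g] (fixMod V W B) = fixMod V W (MC[g] B) := by
  ext x
  rw [mem_map_conj_iff]
  constructor
  · rintro ⟨h1, h2, h3⟩
    have hx : x = g * (g⁻¹ * x * g) * g⁻¹ := by group
    refine ⟨hx ▸ (Subgroup.mem_normalizer_iff.1 hV _).1 h1, hx ▸ mul_mem (mul_mem hW h2) (inv_mem hW),
      ?_⟩
    rintro _ ⟨b, hb, rfl⟩
    have := (Subgroup.mem_normalizer_iff.1 hW _).1 (h3 b hb)
    convert this using 1
    simp only [MulEquiv.toMonoidHom_eq_coe, MonoidHom.coe_coe, MulAut.conj_apply]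
    group
  · rintro ⟨h1, h2, h3⟩
    refine ⟨(Subgroup.mem_normalizer_iff''.1 hV _).1 h1, mul_mem (mul_mem (inv_mem hW) h2) hW,
      fun b hb => ?_⟩
    have := (Subgroup.mem_normalizer_iff''.1 hW _).1 (h3 _ (conj_mem_map (g := g) hb))
    convert this using 1
    group

theorem inf_fixMod_le {V W B₁ B₂ : Subgroup G} (h1 : B₁ ≤ normalizer (W : Set G))
    (h2 : B₂ ≤ normalizer (W : Set G)) :
    fixMod V W B₁ ⊓ fixMod V W B₂ ≤ fixMod V W (B₁ ⊔ B₂) := by
  refine le_fixMod (inf_le_left.trans (fixMod_le _ _ _))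
    (inf_le_left.trans (fixMod_le_normalizer _ _ _)) ?_
  rw [commutator_comm]
  refine commutator_sup_le h1 h2 ?_ ?_
  · rw [commutator_comm]
    exact (commutator_mono inf_le_left le_rfl).trans (commutator_fixMod_le _ _ _)
  · rw [commutator_comm]
    exact (commutator_mono inf_le_right le_rfl).trans (commutator_fixMod_le _ _ _)

theorem le_normalizer_of_commutator_le [Finite G] {B V X : Subgroup G} (hXV : X ≤ V)
    (h : ⁅B, V⁆ ≤ X) : B ≤ normalizer (X : Set G) := by
  refine fun b hb => mem_normalizer_of_map_conj_le ?_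
  rintro _ ⟨x, hx, rfl⟩
  have h1 := X.mul_mem (h (commutator_mem_commutator hb (hXV hx))) hx
  simpa [commutatorElement_def] using h1

/-- An element of order prime to `p` acting trivially on two steps of a series of `p`-groups. -/
theorem commute_of_step {p : ℕ} {x : G} (hx : (orderOf x).Coprime p) {X Y : Subgroup G}
    (hXp : IsPGroup p X) (hX : ∀ z ∈ X, Commute x z) (hY : ∀ y ∈ Y, x * y * x⁻¹ * y⁻¹ ∈ X) :
    ∀ y ∈ Y, Commute x y := by
  intro y hy
  set c := x * y * x⁻¹ * y⁻¹ with hc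
  have hxc : Commute x c := hX _ (hY y hy)
  have h1 : x * y * x⁻¹ = c * y := by rw [hc]; group
  have hpow : ∀ n : ℕ, x ^ n * y * (x ^ n)⁻¹ = c ^ n * y := by
    intro n
    induction n with
    | zero => simp
    | succ n ih =>
      have h2 : x ^ n * c = c * x ^ n := (hxc.pow_left n).eq
      calc x ^ (n + 1) * y * (x ^ (n + 1))⁻¹ = x ^ n * (x * y * x⁻¹) * (x ^ n)⁻¹ := by
            rw [pow_succ]; group
        _ = c * (x ^ n * y * (x ^ n)⁻¹) := by rw [h1, ← mul_assoc, h2]; group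
        _ = c ^ (n + 1) * y := by rw [ih, pow_succ']; group
  have h2 := hpow (orderOf x)
  rw [pow_orderOf_eq_one] at h2
  have h3 : c ^ orderOf x = 1 := by simpa using h2.symm
  obtain ⟨k, hk⟩ := hXp ⟨c, hY y hy⟩
  have h4 : c ^ p ^ k = 1 := by simpa [Subtype.ext_iff] using hk
  have h5 : orderOf c ∣ 1 := by
    rw [← (hx.pow_right k).gcd_eq_one]
    exact Nat.dvd_gcd (orderOf_dvd_of_pow_eq_one h3) (orderOf_dvd_of_pow_eq_one h4)
  rw [Nat.dvd_one, orderOf_eq_one_iff] at h5
  rw [h5, one_mul] at h1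
  exact eq_mul_of_mul_inv_eq h1

theorem isPGroup_of_coprime_eq_one [Finite G] {p : ℕ} [hp : Fact p.Prime] {K : Subgroup G}
    (h : ∀ x ∈ K, (orderOf x).Coprime p → x = 1) : IsPGroup p K := by
  intro k
  obtain ⟨a, m, hm, hk⟩ := Nat.exists_eq_pow_mul_and_not_dvd (orderOf_pos (k : G)).ne' p hp.out.ne_one
  refine ⟨a, Subtype.ext ?_⟩
  have h1 : orderOf ((k : G) ^ p ^ a) = m := by
    rw [orderOf_pow' _ (pow_ne_zero a hp.out.ne_zero), hk, Nat.gcd_mul_right_left,
      Nat.mul_div_cancel_left _ (pow_pos hp.out.pos a)]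
  have h2 := h _ (K.pow_mem k.2 (p ^ a))
    (h1.symm ▸ Nat.Coprime.symm ((Nat.Prime.coprime_iff_not_dvd hp.out).2 hm))
  simpa using h2

/-- In a nilpotent group a section `V/W` with `V = [V,U]W` is trivial. -/
theorem le_of_le_commutator_sup [Finite G] {U V W : Subgroup G} [Group.IsNilpotent U] (hVU : V ≤ U)
    (hWU : W ≤ U) (hUW : U ≤ normalizer (W : Set G)) (h : V ≤ ⁅V, U⁆ ⊔ W) : V ≤ W := by
  have key : ∀ n, V ≤ U.lowerCentralSeries n ⊔ W := by
    intro n
    induction n with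
    | zero => exact hVU.trans le_sup_left
    | succ n ih =>
      have hX : U ≤ normalizer ((U.lowerCentralSeries (n + 1) ⊔ W : Subgroup G) : Set G) :=
        le_normalizer_sup_of' (by
          rw [Subgroup.lowerCentralSeries_succ]
          exact normalizer_commutator_ge_right _ _) hUW
      refine h.trans (sup_le ((commutator_mono ih le_rfl).trans ?_) le_sup_right)
      exact commutator_sup_le ((Subgroup.lowerCentralSeries_le_self U n).trans hX) (hWU.trans hX)
        le_sup_left ((le_normalizer_iff_commutator_le_left.1 hUW).trans le_sup_right)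
  obtain ⟨n, hn⟩ := (Subgroup.isNilpotent_iff_lowerCentralSeries U).1 inferInstance
  simpa [hn] using key n

variable (p : ℕ)

/-- A noncentral chief factor `V/W` of `H` inside `O_p(H)`. -/
structure IsNCFactor (H V W : Subgroup G) : Prop where
  le_core : V ≤ Cfsg.pCoreOf p H
  normV : H ≤ normalizer (V : Set G)
  normW : H ≤ normalizer (W : Set G)
  lt : W < V
  minimal : ∀ Z : Subgroup G, H ≤ normalizer (Z : Set G) → W ≤ Z → Z ≤ V → Z = W ∨ Z = V
  noncentral : ¬ ⁅V, H⁆ ≤ W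

variable {p}

/-- An element of order prime to `p` which cannot be seen on a noncentral factor is trivial. -/
theorem eq_one_of_stabilize [Finite G] {H : Subgroup G}
    (hc : H ⊓ centralizer (Cfsg.pCoreOf p H : Set G) ≤ Cfsg.pCoreOf p H) [Fact p.Prime] {x : G}
    (hxH : x ∈ H) (hx : (orderOf x).Coprime p)
    (h : ∀ V W : Subgroup G, IsNCFactor p H V W → (∀ w ∈ W, Commute x w) → ∀ v ∈ V, Commute x v) :
    x = 1 := by
  have key : ∀ n, ∀ V : Subgroup G, Nat.card V = n → V ≤ Cfsg.pCoreOf p H →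
      H ≤ normalizer (V : Set G) → ∀ v ∈ V, Commute x v := by
    intro n
    induction n using Nat.strong_induction_on with
    | _ n ih =>
      intro V hV hVO hVn
      by_cases hbot : V = ⊥
      · rintro v hv
        rw [hbot, mem_bot] at hv
        exact hv ▸ Commute.one_right x
      obtain ⟨W, ⟨hWV, hWn⟩, hmax⟩ := Set.Finite.exists_maximal
        (s := {W : Subgroup G | W < V ∧ H ≤ normalizer (W : Set G)}) (Set.toFinite _)
        ⟨⊥, bot_lt_iff_ne_bot.2 hbot, by rw [normalizer_eq_top]; exact le_top⟩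
      have hW : ∀ w ∈ W, Commute x w := ih _
        (hV ▸ lt_of_le_of_ne (Nat.le_of_dvd Nat.card_pos (card_dvd_of_le hWV.le))
          (fun e => hWV.ne (eq_of_le_of_card_ge hWV.le e.ge))) W rfl (hWV.le.trans hVO) hWn
      have hmin : ∀ Z : Subgroup G, H ≤ normalizer (Z : Set G) → W ≤ Z → Z ≤ V → Z = W ∨ Z = V := by
        intro Z hZn hWZ hZV
        by_cases hZ : Z = V
        · exact Or.inr hZ
        · exact Or.inl (le_antisymm (hmax ⟨lt_of_le_of_ne hZV hZ, hZn⟩ hWZ) hWZ)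
      by_cases hnc : ⁅V, H⁆ ≤ W
      · refine commute_of_step hx ((isPGroup_pCoreOf H).to_le (hWV.le.trans hVO)) hW fun v hv => ?_
        simpa [commutatorElement_def, mul_assoc] using
          W.inv_mem (hnc (commutator_mem_commutator hv hxH))
      · exact h V W ⟨hVO, hVn, hWn, hWV, hmin, hnc⟩ hW
  have h1 : x ∈ Cfsg.pCoreOf p H := hc ⟨hxH, fun v hv =>
    (key _ _ rfl le_rfl (le_normalizer_pCoreOf H) v hv).eq.symm⟩
  obtain ⟨k, hk⟩ := isPGroup_pCoreOf H ⟨x, h1⟩
  have h2 : x ^ p ^ k = 1 := by simpa [Subtype.ext_iff] using hk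
  exact orderOf_eq_one_iff.1 (Nat.eq_one_of_dvd_coprimes (hx.pow_right k) dvd_rfl
    (orderOf_dvd_of_pow_eq_one h2))

end CfsgLib.LargeSubgroups
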