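import Cfsg.Agent.Lib.LargeSubgroups.Basic

/-!
Subgroups with the basic property (`Cfsg.IsInFrakM`) in a group of parabolic characteristic `p`.
-/

set_option autoImplicit false

namespace CfsgLib.LargeSubgroups

open Subgroup CfsgLib.FFModules

local notation "MC[" g "]" => Subgroup.map (MulEquiv.toMonoidHom (MulAut.conj g))
local notation "YY[" p "," M "]" => Cfsg.largestPReducedOf p M

variable {G : Type*} [Group G] {p : ℕ} {M : Subgroup G}

theorem pCoreOf_ne_bot_of_frakM (hM : Cfsg.IsInFrakM p M) : Cfsg.pCoreOf p M ≠ ⊥ :=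
  (mem_charPSubgroups_iff.1 hM.1).1

theorem centralizer_pCoreOf_le_of_frakM (hM : Cfsg.IsInFrakM p M) :
    centralizer (Cfsg.pCoreOf p M : Set G) ≤ Cfsg.pCoreOf p M :=
  (mem_charPSubgroups_iff.1 hM.1).2

theorem map_conj_omegaCenter_eq [Finite G] [Fact p.Prime] (T : Subgroup G) (g : G) :
    MC[g] (Cfsg.omegaOne p (T ⊓ centralizer (T : Set G))) =
      Cfsg.omegaOne p (MC[g] T ⊓ centralizer ((MC[g] T : Subgroup G) : Set G)) := by
  refine le_antisymm (map_conj_omegaCenter T g) fun x hx => mem_map_conj_iff.2 ?_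
  have h := map_conj_omegaCenter (MC[g] T) g⁻¹ (mem_map_of_mem _ hx)
  rw [map_conj_inv_map] at h
  simpa using h

theorem normalizer_le_normalizer_omegaCenter [Finite G] [Fact p.Prime] (T : Subgroup G) :
    normalizer (T : Set G) ≤
      normalizer ((Cfsg.omegaOne p (T ⊓ centralizer (T : Set G)) : Subgroup G) : Set G) :=
  fun g hg => mem_normalizer_of_map_conj_eq (by rw [map_conj_omegaCenter_eq, map_conj_eq_self hg])

variable [Finite G] [Fact p.Prime]

theorem largestPReducedOf_le_normalizer (M : Subgroup G) :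
    M ≤ normalizer (YY[p,M] : Set G) :=
  (reducedIn_largestPReducedOf M).normalizes

theorem dag_le_normalizer (M : Subgroup G) :
    M ⊔ centralizer (YY[p,M] : Set G) ≤ normalizer (YY[p,M] : Set G) :=
  sup_le (largestPReducedOf_le_normalizer M) (centralizer_le_normalizer' _)

theorem dag_le_normalizer_centralizer (M : Subgroup G) :
    M ⊔ centralizer (YY[p,M] : Set G) ≤
      normalizer ((centralizer (YY[p,M] : Set G) : Subgroup G) : Set G) :=
  (dag_le_normalizer M).trans (normalizer_le_normalizer_centralizer _)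

theorem exists_mul_of_mem_dag {g : G} (hg : g ∈ M ⊔ centralizer (YY[p,M] : Set G)) :
    ∃ m ∈ M, ∃ c ∈ centralizer (YY[p,M] : Set G), g = m * c := by
  rw [← SetLike.mem_coe, coe_mul_of_left_le_normalizer_right M _
    ((largestPReducedOf_le_normalizer M).trans (normalizer_le_normalizer_centralizer _))] at hg
  obtain ⟨m, hm, c, hc, rfl⟩ := hg
  exact ⟨m, hm, c, hc, rfl⟩

section
variable {S : Sylow p G}

/-- `O_p(M) = C_S(Y_M)`. -/
theorem pCoreOf_eq_inf (hSM : (S : Subgroup G) ≤ M) (hM : Cfsg.IsInFrakM p M) :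
    Cfsg.pCoreOf p M = (S : Subgroup G) ⊓ centralizer (YY[p,M] : Set G) := by
  set C := centralizer (YY[p,M] : Set G) with hC
  have hi := coprime_of_sylow_relIndex S hSM
  refine le_antisymm (le_inf (pCoreOf_le_of_coprime_relIndex hSM S.2 hi)
    ((reducedIn_largestPReducedOf M).pGroup_le_centralizer (pCoreOf_le M)
      (le_normalizer_pCoreOf M) (isPGroup_pCoreOf M))) ?_
  set T := (S : Subgroup G) ⊓ C
  set D := M ⊓ C
  have hTD : T ≤ D := inf_le_inf_right _ hSM
  have hTp : IsPGroup p T := S.2.to_inf_left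
  have hTi : (T.relIndex D).Coprime p :=
    coprime_relIndex_inf_centralizer hSM (largestPReducedOf_le_normalizer M) hi
  obtain ⟨P, hP⟩ := exists_sylow_eq hTD hTp hTi
  have hPn := hM.2.2.2.2.1 P
  rw [hP] at hPn
  have hDT : D ≤ normalizer (T : Set G) := (normal_subgroupOf_iff_le_normalizer hTD).1 hPn
  have hMD : M ≤ normalizer (D : Set G) := le_normalizer_inf_of le_normalizer
    ((largestPReducedOf_le_normalizer M).trans (normalizer_le_normalizer_centralizer _))
  refine le_pCoreOf (inf_le_left.trans hSM) (fun m hm => ?_) hTp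
  refine mem_normalizer_of_map_conj_le ?_
  have hmD : MC[m] D = D := map_conj_eq_self (hMD hm)
  refine le_of_isPGroup_of_le_normalizer hTD ((map_mono hTD).trans hmD.le) ?_ hTp (hTp.map _) hTi
  exact hmD.ge.trans (map_conj_le_normalizer hDT m)

/-- `Y_M = Ω₁(Z(O_p(M)))`. -/
theorem largestPReducedOf_eq (hSM : (S : Subgroup G) ≤ M) (hM : Cfsg.IsInFrakM p M) :
    YY[p,M] = Cfsg.omegaOne p
      (Cfsg.pCoreOf p M ⊓ centralizer (Cfsg.pCoreOf p M : Set G)) := by
  rw [pCoreOf_eq_inf hSM hM]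
  exact largestPReducedOf_eq_omegaCenter hSM S.2 (coprime_of_sylow_relIndex S hSM)
    (charP_of_centralizer_le (centralizer_pCoreOf_le_of_frakM hM))

theorem largestPReducedOf_ne_bot (hSM : (S : Subgroup G) ≤ M) (hM : Cfsg.IsInFrakM p M) :
    YY[p,M] ≠ ⊥ := by
  obtain ⟨z, hzT, hz1, hzp, hz⟩ := exists_fixed_of_normalize (isPGroup_pCoreOf M)
    (isPGroup_pCoreOf M) (pCoreOf_ne_bot_of_frakM hM) le_normalizer
  rw [largestPReducedOf_eq hSM hM]
  intro e
  have : z ∈ (⊥ : Subgroup G) := e ▸ mem_omegaCenter_iff.2 ⟨hzT, hz, hzp⟩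
  exact hz1 this

theorem pCoreOf_le_centralizer (hSM : (S : Subgroup G) ≤ M) (hM : Cfsg.IsInFrakM p M) :
    Cfsg.pCoreOf p M ≤ centralizer (YY[p,M] : Set G) :=
  (pCoreOf_eq_inf hSM hM).le.trans inf_le_right

theorem normalizer_pCoreOf_le_normalizer (hSM : (S : Subgroup G) ≤ M) (hM : Cfsg.IsInFrakM p M) :
    normalizer (Cfsg.pCoreOf p M : Set G) ≤ normalizer (YY[p,M] : Set G) := by
  rw [largestPReducedOf_eq hSM hM]
  exact normalizer_le_normalizer_omegaCenter _

/-- Every overgroup of `M` normalising a nontrivial `p`-subgroup lies in `M†`. -/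
theorem le_dag (hpar : Cfsg.IsOfParabolicCharacteristic p G) (hSM : (S : Subgroup G) ≤ M)
    (hM : Cfsg.IsInFrakM p M) {R V : Subgroup G} (hMR : M ≤ R) (hVp : IsPGroup p V) (hV : V ≠ ⊥)
    (hRV : R ≤ normalizer (V : Set G)) : R ≤ M ⊔ centralizer (YY[p,M] : Set G) := by
  obtain ⟨X, hX, hRX⟩ := exists_maxCharPSubgroup
    (mem_charPSubgroups_of_normalizes hpar (hSM.trans hMR) hVp hV hRV)
  exact hRX.trans (hM.2.2.1 X hX (hMR.trans hRX)).le

theorem normalizer_largestPReducedOf_eq (hpar : Cfsg.IsOfParabolicCharacteristic p G)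
    (hSM : (S : Subgroup G) ≤ M) (hM : Cfsg.IsInFrakM p M) :
    normalizer (YY[p,M] : Set G) = M ⊔ centralizer (YY[p,M] : Set G) :=
  le_antisymm (le_dag hpar hSM hM (largestPReducedOf_le_normalizer M)
    (isPGroup_of_elemAb (reducedIn_largestPReducedOf M).elemAb) (largestPReducedOf_ne_bot hSM hM)
    le_rfl) (dag_le_normalizer M)

theorem normalizer_pCoreOf_le_dag (hpar : Cfsg.IsOfParabolicCharacteristic p G)
    (hSM : (S : Subgroup G) ≤ M) (hM : Cfsg.IsInFrakM p M) :
    normalizer (Cfsg.pCoreOf p M : Set G) ≤ M ⊔ centralizer (YY[p,M] : Set G) :=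
  (normalizer_pCoreOf_le_normalizer hSM hM).trans (normalizer_largestPReducedOf_eq hpar hSM hM).le

/-- A `p`-subgroup of `C(Y_M)` normalised by, or normalising, `O_p(M)` lies in it. -/
theorem le_pCoreOf_of_le_centralizer (hSM : (S : Subgroup G) ≤ M) (hM : Cfsg.IsInFrakM p M)
    {P : Subgroup G} (hP : IsPGroup p P) (hPC : P ≤ centralizer (YY[p,M] : Set G))
    (hn : P ≤ normalizer (Cfsg.pCoreOf p M : Set G) ∨
      Cfsg.pCoreOf p M ≤ normalizer (P : Set G)) : P ≤ Cfsg.pCoreOf p M := by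
  set T := Cfsg.pCoreOf p M with hT
  set C := centralizer (YY[p,M] : Set G)
  have hU : IsPGroup p ↥(T ⊔ P) := hn.elim
    (fun h => IsPGroup.to_sup_of_normal_left' (isPGroup_pCoreOf M) hP h)
    (fun h => IsPGroup.to_sup_of_normal_right' (isPGroup_pCoreOf M) hP h)
  have hSN := hSM.trans (largestPReducedOf_le_normalizer (p := p) M)
  have hi : (T.relIndex C).Coprime p := by
    have h := coprime_relIndex_inf_centralizer hSN (V := YY[p,M]) le_rfl
      (coprime_of_sylow_relIndex S hSN)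
    rwa [← pCoreOf_eq_inf hSM hM, inf_eq_right.2 (centralizer_le_normalizer' _)] at h
  exact le_sup_right.trans (le_of_isPGroup_of_coprime_relIndex le_sup_left hU
    (coprime_relIndex_of_le le_sup_left (sup_le (pCoreOf_le_centralizer hSM hM) hPC) hi))

/-- A conjugate of `O_p(M)` under `M†` which normalises it is equal to it. -/
theorem map_conj_pCoreOf_eq (hSM : (S : Subgroup G) ≤ M) (hM : Cfsg.IsInFrakM p M) {g : G}
    (hg : g ∈ M ⊔ centralizer (YY[p,M] : Set G))
    (hn : MC[g] (Cfsg.pCoreOf p M) ≤ normalizer (Cfsg.pCoreOf p M : Set G)) :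
    MC[g] (Cfsg.pCoreOf p M) = Cfsg.pCoreOf p M :=
  map_conj_eq_self (mem_normalizer_of_map_conj_le (le_pCoreOf_of_le_centralizer hSM hM
    ((isPGroup_pCoreOf M).map _)
    ((map_mono (pCoreOf_le_centralizer hSM hM)).trans
      (map_conj_eq_self (dag_le_normalizer_centralizer M hg)).le) (Or.inl hn)))

/-- `O_p(M)` is weakly closed in `S` with respect to `M†`. -/
theorem isWeaklyClosedSubgroup_dag (hSM : (S : Subgroup G) ≤ M) (hM : Cfsg.IsInFrakM p M) :
    Cfsg.IsWeaklyClosedSubgroup p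
      ((Cfsg.pCoreOf p M).subgroupOf (M ⊔ centralizer (YY[p,M] : Set G))) := by
  set D := M ⊔ centralizer (YY[p,M] : Set G)
  have hSD : (S : Subgroup G) ≤ D := hSM.trans le_sup_left
  have hTS : Cfsg.pCoreOf p M ≤ (S : Subgroup G) := (pCoreOf_eq_inf hSM hM).le.trans inf_le_left
  refine ⟨S.subtype hSD, fun x hx => hTS hx, fun g hg => ?_⟩
  have hgS : MC[(g : G)] (Cfsg.pCoreOf p M) ≤ (S : Subgroup G) := by
    rintro _ ⟨t, ht, rfl⟩
    exact hg (mem_map_of_mem _ (show (⟨t, hSD (hTS ht)⟩ : D) ∈ (Cfsg.pCoreOf p M).subgroupOf D from ht))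
  have e := map_conj_pCoreOf_eq hSM hM g.2
    (hgS.trans (hSM.trans (le_normalizer_pCoreOf M)))
  ext x
  rw [mem_map_conj_iff, mem_subgroupOf, mem_subgroupOf]
  conv_rhs => rw [← e]
  rw [mem_map_conj_iff]
  rfl

end

end CfsgLib.LargeSubgroups
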