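import Cfsg.Agent.Lib.LargeSubgroups.RankOnePair
import Cfsg.Agent.Lib.LargeSubgroups.FrakM

/-!
`L/O_p(L)` and the image of `Y_M` for `L ∈ 𝔏`.
-/

set_option autoImplicit false

namespace CfsgLib.LargeSubgroups

open Subgroup CfsgLib.FFModules
open scoped commutatorElement

local notation "YY[" p "," M "]" => Cfsg.largestPReducedOf p M

variable {G : Type*} [Group G] [Finite G] {p : ℕ} [Fact p.Prime] {M L : Subgroup G}

theorem mem_pCore_iff_pCoreOf {x : L} : (x : G) ∈ Cfsg.pCoreOf p L ↔ x ∈ Cfsg.pCore p L :=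
  Subgroup.mem_map_iff_mem (f := L.subtype) L.subtype_injective

variable [(Cfsg.pCore p L).Normal]

theorem not_Y_le_core (hL : Cfsg.IsInFrakL p M L) : ¬ YY[p,M] ≤ Cfsg.pCoreOf p L := by
  obtain ⟨hYL, -, hAN, ⟨hclos, -⟩, -, ⟨hlt, -⟩, -⟩ := hL
  intro h
  have h1 : Subgroup.normalClosure ((YY[p,M].subgroupOf L : Subgroup L) : Set L) ≤ Cfsg.pCore p L :=
    Subgroup.normalClosure_le_normal fun x hx => mem_pCore_iff_pCoreOf.1 (h hx)
  rw [hclos] at h1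
  exact hlt.not_ge (le_inf le_rfl fun x hx => hAN (mem_pCore_iff_pCoreOf.2 (h1 (mem_top ⟨x, hx⟩))))

theorem card_image_Y (hL : Cfsg.IsInFrakL p M L) :
    Nat.card ((YY[p,M].subgroupOf L).map (QuotientGroup.mk' (Cfsg.pCore p L))) =
      (YY[p,M] ⊓ Cfsg.pCoreOf p L).relIndex YY[p,M] := by
  set f := (QuotientGroup.mk' (Cfsg.pCore p L)).comp (Subgroup.inclusion hL.1) with hf
  have hr : f.range = (YY[p,M].subgroupOf L).map (QuotientGroup.mk' (Cfsg.pCore p L)) := by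
    ext x
    constructor
    · rintro ⟨y, rfl⟩
      exact ⟨_, y.2, rfl⟩
    · rintro ⟨y, hy, rfl⟩
      exact ⟨⟨y, hy⟩, rfl⟩
  have hk : f.ker = (YY[p,M] ⊓ Cfsg.pCoreOf p L).subgroupOf YY[p,M] := by
    ext y
    rw [hf, MonoidHom.mem_ker, MonoidHom.comp_apply, QuotientGroup.mk'_apply, QuotientGroup.eq_one_iff,
      ← mem_pCore_iff_pCoreOf, mem_subgroupOf]
    exact ⟨fun h => ⟨y.2, h⟩, fun h => h.2⟩
  rw [← hr, Subgroup.relIndex, ← hk, Subgroup.index_ker]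

theorem image_normalizer_le (hL : Cfsg.IsInFrakL p M L) :
    ((L ⊓ normalizer (YY[p,M] : Set G)).subgroupOf L).map (QuotientGroup.mk' (Cfsg.pCore p L)) ≤
      normalizer (((YY[p,M].subgroupOf L).map (QuotientGroup.mk' (Cfsg.pCore p L)) :
        Subgroup (↥L ⧸ Cfsg.pCore p L)) : Set (↥L ⧸ Cfsg.pCore p L)) := by
  refine (map_mono ?_).trans (le_normalizer_map _)
  intro x hx
  rw [Subgroup.mem_normalizer_iff]
  intro y
  exact Subgroup.mem_normalizer_iff.1 hx.2 (y : G)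

theorem le_image_of_ne_top (hL : Cfsg.IsInFrakL p M L) {K : Subgroup (↥L ⧸ Cfsg.pCore p L)}
    (hK : (YY[p,M].subgroupOf L).map (QuotientGroup.mk' (Cfsg.pCore p L)) ≤ K) (hne : K ≠ ⊤) :
    K ≤ ((L ⊓ normalizer (YY[p,M] : Set G)).subgroupOf L).map (QuotientGroup.mk' (Cfsg.pCore p L)) := by
  obtain ⟨hYL, -, -, -, -, ⟨-, hmax⟩, -⟩ := hL
  set K₀ := (K.comap (QuotientGroup.mk' (Cfsg.pCore p L))).map L.subtype
  have h1 : YY[p,M] ≤ K₀ := fun y hy => ⟨⟨y, hYL hy⟩, hK ⟨⟨y, hYL hy⟩, hy, rfl⟩, rfl⟩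
  have h2 : K₀ < L := lt_of_le_of_ne (map_subtype_le _) fun e => hne (eq_top_iff.2 fun q _ => by
    obtain ⟨x, rfl⟩ := QuotientGroup.mk'_surjective _ q
    obtain ⟨y, hy, hyx⟩ := e.ge x.2
    rwa [← Subtype.ext (show (y : G) = x from hyx)])
  intro q hq
  obtain ⟨x, rfl⟩ := QuotientGroup.mk'_surjective _ q
  exact mem_map_of_mem _ (hmax K₀ h1 h2 ⟨x, hq, rfl⟩)

theorem rankOnePair_of_frakL (hL : Cfsg.IsInFrakL p M L) :
    RankOnePair p ((YY[p,M].subgroupOf L).map (QuotientGroup.mk' (Cfsg.pCore p L))) := by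
  have hcard := card_image_Y hL
  have hnY := not_Y_le_core hL
  obtain ⟨hYL, -, hAN, ⟨hclos, -⟩, -, ⟨hlt, hmax⟩, hcases⟩ := id hL
  set π := QuotientGroup.mk' (Cfsg.pCore p L) with hπ
  set P := (YY[p,M].subgroupOf L).map π with hP
  have hYe : Cfsg.IsElementaryAbelian p (YY[p,M].subgroupOf L) := by
    have h := (reducedIn_largestPReducedOf (p := p) M).elemAb
    refine ⟨⟨⟨fun a b => Subtype.ext (Subtype.ext ?_)⟩⟩, fun a ha => Subtype.ext (h.2 _ ha)⟩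
    have := h.1
    show (a.1.1 * b.1.1 : G) = b.1.1 * a.1.1
    exact congrArg Subtype.val (mul_comm' (⟨a.1.1, a.2⟩ : (YY[p,M] : Subgroup G)) ⟨b.1.1, b.2⟩)
  have hPe : Cfsg.IsElementaryAbelian p P := elemAb_map hYe π
  have hPne : P ≠ ⊥ := fun e => hnY fun y hy =>
    (mem_pCore_iff_pCoreOf (x := ⟨y, hYL hy⟩)).2 ((QuotientGroup.eq_one_iff _).1
      (mem_bot.1 (e.le (⟨⟨y, hYL hy⟩, hy, rfl⟩ : π ⟨y, hYL hy⟩ ∈ P))))
  have hclosP : Subgroup.normalClosure (P : Set (↥L ⧸ Cfsg.pCore p L)) = ⊤ := by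
    rw [hP, coe_map, ← Subgroup.map_normalClosure _ π (QuotientGroup.mk'_surjective _), hclos,
      Subgroup.map_top_of_surjective π (QuotientGroup.mk'_surjective _)]
  have hcore : Cfsg.pCore p (↥L ⧸ Cfsg.pCore p L) = ⊥ := CfsgLib.Cores.pCore_quotient_pCore p L
  refine ⟨hPe, hPne, fun e => ?_, fun K hK hne => (le_image_of_ne_top hL hK hne).trans
    (image_normalizer_le hL), hclosP, hcore, ?_⟩
  · haveI : P.Normal := normalizer_eq_top_iff.1 e
    exact hPne (le_bot_iff.1 (hcore ▸ CfsgLib.Cores.le_pCore (isPGroup_of_elemAb hPe)))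
  rcases hcases with ⟨F, hF, hFin, hc, he⟩ | ⟨hp, F, hF, hFin, m, hm, hc, ⟨e⟩⟩ | ⟨hp, r, hr, hr2, ⟨e⟩⟩
  · exact Or.inl ⟨F, hF, hFin, by rw [hcard, ← hc, Nat.card_eq_fintype_card], he⟩
  · rcases Nat.eq_zero_or_pos m with rfl | hm1
    · exact Or.inr (Or.inr ⟨hp, by rw [hcard, ← hc, hm]; rfl⟩)
    · have h := CfsgLib.Suzuki.Hyp.of_fintype hm1 hm
      exact Or.inr (Or.inl ⟨hp, F, hF, m, h, by rw [hcard, ← hc, Nat.card_eq_fintype_card],
        ⟨e.trans h.lieEquiv.symm⟩⟩)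
  · refine Or.inr (Or.inr ⟨hp, ?_⟩)
    haveI : NeZero r := ⟨hr.ne_zero⟩
    obtain ⟨k, hk⟩ := (isPGroup_of_elemAb hPe).exists_card_eq
    have h1 : Nat.card P ∣ 2 * r := by
      have h2 := Subgroup.card_subgroup_dvd_card P
      rwa [Nat.card_congr e.toEquiv, DihedralGroup.nat_card] at h2
    rw [hk, hp] at h1
    have hk1 : k ≤ 1 := by
      by_contra hk2
      have h4 : 2 ^ 2 ∣ 2 * r := (pow_dvd_pow 2 (by omega)).trans h1
      rw [pow_two] at h4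
      exact hr2 ((Nat.prime_dvd_prime_iff_eq Nat.prime_two hr).1
        (Nat.dvd_of_mul_dvd_mul_left two_pos h4)).symm
    have hk0 : k ≠ 0 := fun e0 => hPne (Subgroup.card_eq_one.1 (by rw [hk, e0, pow_zero]))
    rw [hk, hp, show k = 1 by omega, pow_one]

theorem image_normalizer_eq (hL : Cfsg.IsInFrakL p M L) :
    ((L ⊓ normalizer (YY[p,M] : Set G)).subgroupOf L).map (QuotientGroup.mk' (Cfsg.pCore p L)) =
      normalizer (((YY[p,M].subgroupOf L).map (QuotientGroup.mk' (Cfsg.pCore p L)) :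
        Subgroup (↥L ⧸ Cfsg.pCore p L)) : Set (↥L ⧸ Cfsg.pCore p L)) :=
  le_antisymm (image_normalizer_le hL)
    (le_image_of_ne_top hL le_normalizer (rankOnePair_of_frakL hL).normalizer_ne_top)

end CfsgLib.LargeSubgroups
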