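import Cfsg.Agent.Lib.LargeSubgroups.Spread
import Cfsg.Agent.Lib.LargeSubgroups.FrakLPair

/-!
Elements which are not `p`-elements act fixed point freely on `O_p(L)/(Y ⊓ C(L))` for `L ∈ 𝔏`.
-/

set_option autoImplicit false

namespace CfsgLib.LargeSubgroups

open Subgroup CfsgLib.FFModules
open scoped commutatorElement

local notation "YY[" p "," M "]" => Cfsg.largestPReducedOf p M

variable {G : Type*} [Group G] [Finite G] {p : ℕ} [Fact p.Prime] {M L : Subgroup G}

theorem frakL_fixed_point_free (hL : Cfsg.IsInFrakL p M L) {h : G} (hh : h ∈ L)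
    (hnp : ¬ ∃ k : ℕ, orderOf h = p ^ k) {a : G} (ha : a ∈ Cfsg.pCoreOf p L)
    (hc : h * a * h⁻¹ * a⁻¹ ∈ YY[p,M] ⊓ centralizer (L : Set G)) :
    a ∈ YY[p,M] ⊓ centralizer (L : Set G) := by
  haveI : (Cfsg.pCore p L).Normal := FFModules.normal_pCore
  have hR := rankOnePair_of_frakL hL
  obtain ⟨hYL, hAdef, hAN, ⟨hclos, -⟩, -, ⟨hlt, hmax⟩, -⟩ := id hL
  set Z := (YY[p,M] ⊓ centralizer (L : Set G)).subgroupOf L with hZdef
  have hZc : ∀ z ∈ Z, z ∈ Subgroup.center L := fun z hz =>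
    mem_center_iff.2 fun x => Subtype.ext (hz.2 x x.2)
  haveI : Z.Normal := ⟨fun z hz x => by
    rwa [mem_center_iff.1 (hZc z hz) x, mul_inv_cancel_right]⟩
  set Y' := YY[p,M].subgroupOf L with hY'
  have hYe : Cfsg.IsElementaryAbelian p Y' := by
    have h := (reducedIn_largestPReducedOf (p := p) M).elemAb
    refine ⟨⟨⟨fun a b => Subtype.ext (Subtype.ext ?_)⟩⟩, fun a ha => Subtype.ext (h.2 _ ha)⟩
    have := h.1
    show (a.1.1 * b.1.1 : G) = b.1.1 * a.1.1
    exact congrArg Subtype.val (mul_comm' (⟨a.1.1, a.2⟩ : (YY[p,M] : Subgroup G)) ⟨b.1.1, b.2⟩)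
  have hZY : Z ≤ Y' := fun z hz => hz.1
  have hZA : Z ≤ Cfsg.pCore p L :=
    CfsgLib.Cores.le_pCore ((isPGroup_of_elemAb hYe).to_le hZY)
  set μ := QuotientGroup.mk' Z with hμ
  set π := QuotientGroup.lift Z (QuotientGroup.mk' (Cfsg.pCore p L))
    (by rw [QuotientGroup.ker_mk']; exact hZA) with hπ
  have hπμ : π.comp μ = QuotientGroup.mk' (Cfsg.pCore p L) := rfl
  have hker : π.ker = (Cfsg.pCore p L).map μ := by
    refine le_antisymm (fun q hq => ?_) ?_
    · obtain ⟨x, rfl⟩ := QuotientGroup.mk'_surjective Z q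
      exact mem_map_of_mem μ ((QuotientGroup.eq_one_iff x).1 hq)
    · rintro _ ⟨x, hx, rfl⟩
      exact (QuotientGroup.eq_one_iff x).2 hx
  have hA' : Cfsg.pCore p L = normalClosure (((YY[p,M] ⊓ Cfsg.pCoreOf p L).subgroupOf L : Subgroup L) : Set L) :=
    Subgroup.map_injective L.subtype_injective hAdef
  have hsurj : Function.Surjective μ := QuotientGroup.mk'_surjective Z
  have hAN' : Cfsg.pCore p L ≤ normalizer (Y' : Set L) := fun x hx =>
    Subgroup.mem_normalizer_iff.2 fun y =>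
      Subgroup.mem_normalizer_iff.1 (hAN (mem_pCore_iff_pCoreOf.2 hx)) (y : G)
  have hS : IsSpread p (Y'.map μ) π := by
    refine ⟨elemAb_map hYe μ, fun q => ?_, ?_, ?_, fun K hK hne => ?_, fun e => ?_, ?_, ?_⟩
    · obtain ⟨x, rfl⟩ := QuotientGroup.mk'_surjective _ q
      exact ⟨μ x, rfl⟩
    · rw [hker]
      exact (map_mono hAN').trans (le_normalizer_map μ)
    · rw [hker]
      conv_lhs => rw [hA', Subgroup.map_normalClosure _ μ hsurj]
      refine Subgroup.normalClosure_mono ?_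
      rintro _ ⟨x, hx, rfl⟩
      exact ⟨mem_map_of_mem μ (mem_pCore_iff_pCoreOf.1 hx.2), mem_map_of_mem μ hx.1⟩
    · have h1 : YY[p,M] ≤ (K.comap μ).map L.subtype := fun y hy =>
        ⟨⟨y, hYL hy⟩, hK ⟨⟨y, hYL hy⟩, hy, rfl⟩, rfl⟩
      have h2 : (K.comap μ).map L.subtype < L := lt_of_le_of_ne (map_subtype_le _) fun e =>
        hne (eq_top_iff.2 fun q _ => by
          obtain ⟨x, rfl⟩ := hsurj q
          obtain ⟨y, hy, hyx⟩ := e.ge x.2
          rwa [← Subtype.ext (show (y : G) = x from hyx)])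
      intro q hq
      obtain ⟨x, rfl⟩ := hsurj q
      exact le_normalizer_map μ (mem_map_of_mem μ (Subgroup.mem_normalizer_iff.2 fun y =>
        Subgroup.mem_normalizer_iff.1 (hmax _ h1 h2 ⟨x, hq, rfl⟩).2 (y : G)))
    · have hn : (Y'.map μ).Normal := normalizer_eq_top_iff.1 e
      have hn' := hn.comap μ
      rw [comap_map_eq, QuotientGroup.ker_mk', sup_eq_left.2 hZY] at hn'
      exact hlt.not_ge (le_inf le_rfl ((normal_subgroupOf_iff_le_normalizer hYL).1 hn'))
    · refine eq_bot_iff.2 fun q hq => ?_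
      obtain ⟨y, hy, rfl⟩ := hq.2
      have hcy : ∀ k : L, y * k * y⁻¹ * k⁻¹ ∈ Z := fun k => by
        refine (QuotientGroup.eq_one_iff _).1 ?_
        show μ (y * k * y⁻¹ * k⁻¹) = 1
        rw [map_mul, map_mul, map_mul, map_inv, map_inv, ← mem_center_iff.1 hq.1 (μ k),
          mul_inv_cancel_right, mul_inv_cancel]
      have hn : (centralizer ({y} : Set L)).Normal := ⟨fun u hu k => by
        rw [mem_centralizer_singleton_iff] at hu ⊢
        have hck := mem_center_iff.1 (hZc _ (hcy k))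
        set c := y * k * y⁻¹ * k⁻¹ with hcdef
        have h1 : y * (k * u * k⁻¹) * y⁻¹ = k * u * k⁻¹ := by
          calc y * (k * u * k⁻¹) * y⁻¹ = (c * k) * (y * u * y⁻¹) * (c * k)⁻¹ := by rw [hcdef]; group
            _ = (c * k) * u * (c * k)⁻¹ := by rw [← hu, mul_inv_cancel_right]
            _ = c * (k * u * k⁻¹) * c⁻¹ := by group
            _ = k * u * k⁻¹ := by rw [← hck, mul_inv_cancel_right]
        exact (mul_inv_eq_iff_eq_mul.1 h1).symm⟩
      have htop : centralizer ({y} : Set L) = ⊤ := by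
        rw [eq_top_iff, ← hclos]
        exact normalClosure_le_normal fun u hu => mem_centralizer_singleton_iff.2 (by
          have := hYe.1
          exact congrArg Subtype.val (mul_comm' (⟨u, hu⟩ : Y') ⟨y, hy⟩))
      refine mem_bot.2 ((QuotientGroup.eq_one_iff y).2 ⟨hy, fun x hx => ?_⟩)
      exact congrArg Subtype.val (mem_centralizer_singleton_iff.1 (htop.ge (mem_top ⟨x, hx⟩)))
    · rw [Subgroup.map_map, hπμ]
      exact hR
  -- reduce to an element of prime order
  have haL : a ∈ L := pCoreOf_le L ha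
  set h' : L := ⟨h, hh⟩ with hh'
  set a' : L := ⟨a, haL⟩ with ha'
  have hcomm : Commute (μ h') (μ a') := by
    refine commutatorElement_eq_one_iff_mul_comm.1 ?_
    rw [← map_commutatorElement]
    exact (QuotientGroup.eq_one_iff _).2 hc
  have hak : μ a' ∈ π.ker := by
    rw [hker]; exact mem_map_of_mem μ (mem_pCore_iff_pCoreOf.1 ha)
  obtain ⟨r, hr, hrd, hrp⟩ : ∃ r, r.Prime ∧ r ∣ orderOf (π (μ h')) ∧ r ≠ p := by
    by_contra hne
    push Not at hne
    obtain ⟨k, hk⟩ : ∃ k, orderOf (π (μ h')) = p ^ k :=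
      ⟨_, Nat.eq_prime_pow_of_unique_prime_dvd (orderOf_pos _).ne' fun {d} hd hdd => hne d hd hdd⟩
    have h1 : h' ^ p ^ k ∈ Cfsg.pCore p L := by
      refine (QuotientGroup.eq_one_iff _).1 ?_
      show π (μ (h' ^ p ^ k)) = 1
      rw [map_pow, map_pow, ← hk, pow_orderOf_eq_one]
    obtain ⟨j, hj⟩ := CfsgLib.Cores.isPGroup_pCore p L ⟨_, h1⟩
    have h2 : h ^ p ^ (k + j) = 1 := by
      have h3 := congrArg (fun x : Cfsg.pCore p L => ((x : L) : G)) hj
      simpa [pow_add, pow_mul, hh'] using h3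
    obtain ⟨i, -, hi⟩ := (Nat.dvd_prime_pow Fact.out).1 (orderOf_dvd_of_pow_eq_one h2)
    exact hnp ⟨i, hi⟩
  obtain ⟨n, hn⟩ := hrd
  have hord : orderOf (π ((μ h') ^ n)) = r := by
    rw [map_pow, orderOf_pow_of_dvd ?_ ⟨r, by rw [hn, mul_comm]⟩, hn, Nat.mul_div_cancel _ ?_]
    · exact Nat.pos_of_ne_zero fun h0 => (orderOf_pos (π (μ h'))).ne' (by rw [hn, h0, mul_zero])
    · exact fun h0 => (orderOf_pos (π (μ h'))).ne' (by rw [hn, h0, mul_zero])
  have h4 := (QuotientGroup.eq_one_iff a').1 (hS.eq_one_of_prime hr hrp hord hak (hcomm.pow_left n))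
  exact h4

end CfsgLib.LargeSubgroups
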