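import Cfsg.Agent.Lib.LargeSubgroups.FrakM
import Mathlib.GroupTheory.Frattini
import Cfsg.Agent.Lib.Cores.Basic

/-!
Existence of subgroups with the basic property above a given member of `𝓛`.
-/

set_option autoImplicit false

namespace CfsgLib.LargeSubgroups

open Subgroup CfsgLib.FFModules

local notation "MC[" g "]" => Subgroup.map (MulEquiv.toMonoidHom (MulAut.conj g))
local notation "YY[" p "," M "]" => Cfsg.largestPReducedOf p M
local notation "CY[" p "," M "]" => Subgroup.centralizer (SetLike.coe (Cfsg.largestPReducedOf p M))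

variable {G : Type*} [Group G] [Finite G] {p : ℕ} [Fact p.Prime] {S : Sylow p G}

theorem largestPReducedOf_mono {L R : Subgroup G} (hSL : (S : Subgroup G) ≤ L) (hLR : L ≤ R)
    (hR : R ∈ Cfsg.charPSubgroups p G) : YY[p,L] ≤ YY[p,R] :=
  (closure_le_largestPReducedOf (T := (S : Subgroup G)) hSL hLR (largestPReducedOf_le L) S.2
    (coprime_of_sylow_relIndex S (hSL.trans hLR))
    (charP_of_centralizer_le (mem_charPSubgroups_iff.1 hR).2) (reducedIn_largestPReducedOf L)).1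

theorem largestPReducedOf_le_sylow {L : Subgroup G} (hSL : (S : Subgroup G) ≤ L) :
    YY[p,L] ≤ (S : Subgroup G) :=
  (largestPReducedOf_le_pCoreOf L).trans
    (pCoreOf_le_of_coprime_relIndex hSL S.2 (coprime_of_sylow_relIndex S hSL))

theorem largestPReducedOf_ne_bot' {L : Subgroup G} (hSL : (S : Subgroup G) ≤ L)
    (hL : L ∈ Cfsg.charPSubgroups p G) : YY[p,L] ≠ ⊥ := by
  have hS : (S : Subgroup G) ≠ ⊥ := fun e => (mem_charPSubgroups_iff.1 hL).1 (le_bot_iff.1
    ((pCoreOf_le_of_coprime_relIndex hSL S.2 (coprime_of_sylow_relIndex S hSL)).trans e.le))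
  obtain ⟨z, hzS, hz1, hzp, hz⟩ := exists_fixed_of_normalize S.2 S.2 hS le_normalizer
  intro e
  have h : z ∈ YY[p,L] := sylowCenterClosure_le_largestPReducedOf
    (charP_of_centralizer_le (mem_charPSubgroups_iff.1 hL).2)
    (omegaCenter_le_sylowCenterClosure hSL S.2 (coprime_of_sylow_relIndex S hSL)
      (mem_omegaCenter_iff.2 ⟨hzS, hz, hzp⟩))
  rw [e] at h
  exact hz1 h

theorem dag_mem_charPSubgroups (hpar : Cfsg.IsOfParabolicCharacteristic p G) {L : Subgroup G}
    (hSL : (S : Subgroup G) ≤ L) (hL : L ∈ Cfsg.charPSubgroups p G) :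
    L ⊔ CY[p,L] ∈ Cfsg.charPSubgroups p G :=
  mem_charPSubgroups_of_normalizes hpar (hSL.trans le_sup_left)
    (isPGroup_of_elemAb (reducedIn_largestPReducedOf L).elemAb) (largestPReducedOf_ne_bot' hSL hL)
    (dag_le_normalizer L)

theorem max_sup_centralizer_eq (hpar : Cfsg.IsOfParabolicCharacteristic p G) {X : Subgroup G}
    (hSX : (S : Subgroup G) ≤ X) (hX : X ∈ Cfsg.maxCharPSubgroups p G) : X ⊔ CY[p,X] = X :=
  hX.2 _ (dag_mem_charPSubgroups hpar hSX hX.1) le_sup_left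

/-- Shrinking a supplement of `C(Y_L)` in `L†` to one with `Y = Y_L`. -/
theorem exists_shrink (hpar : Cfsg.IsOfParabolicCharacteristic p G) {L R : Subgroup G}
    (hSL : (S : Subgroup G) ≤ L) (hL : L ∈ Cfsg.charPSubgroups p G) (hSR : (S : Subgroup G) ≤ R)
    (hR : R ⊔ CY[p,L] = L ⊔ CY[p,L]) :
    ∃ Ls : Subgroup G, (S : Subgroup G) ≤ Ls ∧ Ls ≤ R ∧ Ls ∈ Cfsg.charPSubgroups p G ∧
      Ls ⊔ CY[p,L] = L ⊔ CY[p,L] ∧ YY[p,L] = YY[p,Ls] := by
  set C := CY[p,L]
  set Y := YY[p,L] with hY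
  set T₀ := (S : Subgroup G) ⊓ C with hT₀
  have hRN : R ≤ normalizer (Y : Set G) := (le_sup_left.trans hR.le).trans (dag_le_normalizer L)
  have hST : (S : Subgroup G) ≤ normalizer (T₀ : Set G) := le_normalizer_inf_of le_normalizer
    (hSR.trans (hRN.trans (normalizer_le_normalizer_centralizer Y)))
  set Ls := R ⊓ normalizer (T₀ : Set G) with hLs
  have hSLs : (S : Subgroup G) ≤ Ls := le_inf hSR hST
  have hi := coprime_of_sylow_relIndex S hSL
  have hsup : Ls ⊔ C = L ⊔ C := by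
    rw [← hR]
    exact le_antisymm (sup_le_sup_right inf_le_left C) (sup_le
      (le_sup_centralizer hSR S.2 hRN (coprime_of_sylow_relIndex S hSR)) le_sup_right)
  have hYS : Y ≤ (S : Subgroup G) := largestPReducedOf_le_sylow hSL
  have hLsP : Ls ∈ Cfsg.charPSubgroups p G := mem_charPSubgroups_of_normalizes hpar hSLs
    (isPGroup_of_elemAb (reducedIn_largestPReducedOf L).elemAb) (largestPReducedOf_ne_bot' hSL hL)
    (inf_le_left.trans hRN)
  refine ⟨Ls, hSLs, inf_le_left, hLsP, hsup, le_antisymm ?_ ?_⟩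
  · exact le_largestPReducedOf (hYS.trans hSLs) ((reducedIn_largestPReducedOf L).transfer
      (le_sup_left.trans hsup.le) (le_sup_left.trans hsup.ge))
  · intro y hy
    have hcore : Cfsg.pCoreOf p L ≤ T₀ := le_inf (pCoreOf_le_of_coprime_relIndex hSL S.2 hi)
      ((reducedIn_largestPReducedOf L).pGroup_le_centralizer (pCoreOf_le L)
        (le_normalizer_pCoreOf L) (isPGroup_pCoreOf L))
    have hT₀Ls : T₀ ≤ Cfsg.pCoreOf p Ls :=
      le_pCoreOf (inf_le_left.trans hSLs) inf_le_right S.2.to_inf_left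
    have hc : y ∈ centralizer (T₀ : Set G) := centralizer_le (SetLike.coe_subset_coe.2 hT₀Ls)
      (largestPReducedOf_le_centralizer_pCoreOf Ls hy)
    have hyT : y ∈ T₀ := hcore ((mem_charPSubgroups_iff.1 hL).2
      (centralizer_le (SetLike.coe_subset_coe.2 hcore) hc))
    rw [hY, largestPReducedOf_eq_omegaCenter hSL S.2 hi
      (charP_of_centralizer_le (mem_charPSubgroups_iff.1 hL).2)]
    exact mem_omegaCenter_iff.2 ⟨hyT, hc, (reducedIn_largestPReducedOf Ls).elemAb.2 y hy⟩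

/-- A minimal supplement of `C(Y_X)` in a maximal member of `𝓛`. -/
theorem exists_minimal_supplement (hpar : Cfsg.IsOfParabolicCharacteristic p G) {X : Subgroup G}
    (hSX : (S : Subgroup G) ≤ X) (hX : X ∈ Cfsg.maxCharPSubgroups p G) :
    ∃ M : Subgroup G, (S : Subgroup G) ≤ M ∧ M ≤ X ∧ M ∈ Cfsg.charPSubgroups p G ∧
      YY[p,M] = YY[p,X] ∧ M ⊔ CY[p,X] = X ∧ Cfsg.IsPClosed p ↥(M ⊓ CY[p,X]) ∧
      ((M ⊓ CY[p,X]).subgroupOf M).map (QuotientGroup.mk' (Cfsg.pCore p ↥M)) ≤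
        frattini (↥M ⧸ Cfsg.pCore p ↥M) := by
  set C := CY[p,X] with hC
  set Y := YY[p,X] with hY
  have hXC : X ⊔ C = X := max_sup_centralizer_eq hpar hSX hX
  have hCX : C ≤ X := le_sup_right.trans hXC.le
  obtain ⟨M, hMmin⟩ := Set.Finite.exists_minimal
    (s := {M : Subgroup G | (S : Subgroup G) ≤ M ∧ M ≤ X ∧ M ⊔ C = X}) (Set.toFinite _)
    ⟨X, hSX, le_rfl, hXC⟩
  obtain ⟨hSM, hMX, hMC⟩ := hMmin.1
  have hMN : M ≤ normalizer (Y : Set G) := hMX.trans (largestPReducedOf_le_normalizer X)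
  have hMP : M ∈ Cfsg.charPSubgroups p G := mem_charPSubgroups_of_normalizes hpar hSM
    (isPGroup_of_elemAb (reducedIn_largestPReducedOf X).elemAb) (largestPReducedOf_ne_bot' hSX hX.1)
    hMN
  have hred : ReducedIn p M Y := (reducedIn_largestPReducedOf X).transfer
    (hMX.trans le_sup_left) hMC.ge
  have hYM : YY[p,M] = Y := le_antisymm (largestPReducedOf_mono hSM hMX hX.1)
    (le_largestPReducedOf ((largestPReducedOf_le_sylow hSX).trans hSM) hred)
  -- `M` normalises `T = S ∩ C`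
  set T := (S : Subgroup G) ⊓ C with hT
  have hMC' : M ≤ normalizer (C : Set G) := hMN.trans (normalizer_le_normalizer_centralizer Y)
  have hSM' : (S : Subgroup G) ≤ M ⊓ normalizer (T : Set G) :=
    le_inf hSM (le_normalizer_inf_of le_normalizer (hSM.trans hMC'))
  have hMT : M ≤ normalizer (T : Set G) := by
    refine le_trans (hMmin.2 ⟨hSM', inf_le_left.trans hMX, ?_⟩ inf_le_left) inf_le_right
    refine le_antisymm ((sup_le_sup_right inf_le_left C).trans hMC.le) ?_
    exact hMC.ge.trans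
      (sup_le (le_sup_centralizer hSM S.2 hMN (coprime_of_sylow_relIndex S hSM)) le_sup_right)
  have hTp : IsPGroup p T := S.2.to_inf_left
  have hTM : T ≤ M := inf_le_left.trans hSM
  have hTD : T ≤ M ⊓ C := inf_le_inf_right _ hSM
  have hTi : (T.relIndex (M ⊓ C)).Coprime p :=
    coprime_relIndex_inf_centralizer hSM hMN (coprime_of_sylow_relIndex S hSM)
  have hcore : Cfsg.pCoreOf p M = T := le_antisymm
    (le_inf (pCoreOf_le_of_coprime_relIndex hSM S.2 (coprime_of_sylow_relIndex S hSM))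
      (hred.pGroup_le_centralizer (pCoreOf_le M) (le_normalizer_pCoreOf M) (isPGroup_pCoreOf M)))
    (le_pCoreOf hTM hMT hTp)
  refine ⟨M, hSM, hMX, hMP, hYM, hMC, fun P => ?_, ?_⟩
  · obtain ⟨hPD, hPp, -⟩ := sylow_map_props (M ⊓ C) P
    have h := le_sup_right.trans (le_of_isPGroup_of_coprime_relIndex le_sup_left
      (IsPGroup.to_sup_of_normal_left' hTp hPp (hPD.trans (inf_le_left.trans hMT)))
      (coprime_relIndex_of_le le_sup_left (sup_le hTD hPD) hTi))
    have hle : (P : Subgroup ↥(M ⊓ C)) ≤ T.subgroupOf (M ⊓ C) :=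
      fun z hz => h (mem_map_of_mem _ hz)
    rw [← P.3 ((isPGroup_subgroupOf hTD).2 hTp) hle]
    exact normal_subgroupOf_of_le_normalizer (inf_le_left.trans hMT)
  · set Q := Cfsg.pCore p ↥M
    have : Q.Normal := normal_pCore
    set π := QuotientGroup.mk' Q with hπ
    set Db := ((M ⊓ C).subgroupOf M).map π with hDb
    have hQT : Q = T.subgroupOf M := by
      rw [← hcore, Cfsg.pCoreOf]
      exact (comap_map_eq_self_of_injective M.subtype_injective Q).symm
    have hDcard : Nat.card Db = T.relIndex (M ⊓ C) := by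
      rw [hDb, ← relIndex_ker, QuotientGroup.ker_mk', hQT, relIndex_subgroupOf inf_le_left]
    have hDn : Db.Normal :=
      (normal_subgroupOf_of_le_normalizer (le_normalizer_inf_of le_normalizer hMC')).map _
        (QuotientGroup.mk'_surjective Q)
    refine le_iInf₂ fun N hN => ?_
    by_contra hne
    have htop : N ⊔ Db = ⊤ := hN.2 _ (lt_of_le_of_ne le_sup_left fun e => hne (e ▸ le_sup_right))
    have hidx : (N.comap π).index.Coprime p := by
      rw [index_comap_of_surjective _ (QuotientGroup.mk'_surjective Q)]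
      refine Nat.Coprime.coprime_dvd_left ?_ (hDcard ▸ hTi)
      have h := CfsgLib.Cores.card_sup_dvd N Db
      rw [htop, Nat.card_congr (Subgroup.topEquiv).toEquiv] at h
      nth_rw 1 [← Subgroup.card_mul_index N] at h
      exact Nat.dvd_of_mul_dvd_mul_left Nat.card_pos h
    set N₀ := (N.comap π).map M.subtype with hN₀
    have hN₀M : N₀ ≤ M := map_subtype_le _
    have hN₀i : (N₀.relIndex M).Coprime p := by
      rw [relIndex, hN₀, show ((N.comap π).map M.subtype).subgroupOf M = N.comap π from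
        comap_map_eq_self_of_injective M.subtype_injective _]
      exact hidx
    obtain ⟨U⟩ := (inferInstance : Nonempty (Sylow p N₀))
    obtain ⟨hUN, hUp, hUi⟩ := sylow_map_props N₀ U
    have hUM : (((U : Subgroup N₀).map N₀.subtype).relIndex M).Coprime p := by
      rw [← relIndex_mul_relIndex _ _ _ hUN hN₀M]
      exact hUi.mul_left hN₀i
    obtain ⟨m, hm, hmU⟩ := exists_conj_eq (hUN.trans hN₀M) hSM hUp S.2 hUM
      (coprime_of_sylow_relIndex S hSM)
    have hDN : M ⊓ C ≤ M ⊓ C ⊔ N₀ := le_sup_left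
    have hMle : M ≤ N₀ ⊔ C := by
      intro x hx
      have h1 : π ⟨x, hx⟩ ∈ N ⊔ Db := htop ▸ mem_top _
      haveI := hDn
      rw [← SetLike.mem_coe, mul_normal] at h1
      obtain ⟨a, ha, _, ⟨d, hd, rfl⟩, hab⟩ := h1
      have h2 : π (⟨x, hx⟩ * d⁻¹) ∈ N := by
        rw [map_mul, ← hab, map_inv, mul_inv_cancel_right]; exact ha
      have h3 : x * (d : G)⁻¹ ∈ N₀ := ⟨_, h2, rfl⟩
      have := mul_mem (mem_sup_left (T := C) h3) (mem_sup_right (S := N₀) (show (d : G) ∈ C from hd.2))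
      rwa [inv_mul_cancel_right] at this
    set N' := MC[m] N₀ with hN'
    have hN'M : N' ≤ M := (map_mono hN₀M).trans (map_conj_eq_self (le_normalizer hm)).le
    have hN'C : N' ⊔ C = X := by
      refine le_antisymm ((sup_le_sup_right hN'M C).trans hMC.le) ?_
      rw [← hMC]
      refine sup_le ?_ le_sup_right
      calc M = MC[m] M := (map_conj_eq_self (le_normalizer hm)).symm
        _ ≤ MC[m] (N₀ ⊔ C) := map_mono hMle
        _ = N' ⊔ C := by rw [Subgroup.map_sup, map_conj_eq_self (hMC' hm)]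
    have hSN' : (S : Subgroup G) ≤ N' := hmU ▸ map_mono hUN
    have heq : M ≤ N' := hMmin.2 ⟨hSN', hN'M.trans hMX, hN'C⟩ hN'M
    have hcard : Nat.card M ≤ Nat.card N₀ := (card_le_of_le heq).trans (card_map_conj N₀ m).le
    have hN₀eq : N₀ = M := eq_of_le_of_card_ge hN₀M hcard
    refine hN.1 (eq_top_iff.2 fun q _ => ?_)
    obtain ⟨x, rfl⟩ := QuotientGroup.mk'_surjective Q q
    obtain ⟨y, hy, hyx⟩ : (x : G) ∈ N₀ := hN₀eq.symm ▸ x.2
    rwa [Subtype.ext hyx] at hy

/-- In a group of parabolic characteristic `p`, every member of `𝓛` over `S` is dominated by one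
with the basic property. -/
theorem exists_frakM (hpar : Cfsg.IsOfParabolicCharacteristic p G) {L : Subgroup G}
    (hSL : (S : Subgroup G) ≤ L) (hL : L ∈ Cfsg.charPSubgroups p G) :
    ∃ M Ls : Subgroup G, (S : Subgroup G) ≤ M ∧ Cfsg.IsInFrakM p M ∧ (S : Subgroup G) ≤ Ls ∧
      Ls ≤ M ∧ Ls ∈ Cfsg.charPSubgroups p G ∧ YY[p,L] = YY[p,Ls] ∧ YY[p,L] ≤ YY[p,M] ∧
      L ⊔ CY[p,L] = Ls ⊔ CY[p,L] := by
  obtain ⟨X₀, hX₀, hLX₀⟩ := exists_maxCharPSubgroup (dag_mem_charPSubgroups hpar hSL hL)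
  set 𝒳 := {X : Subgroup G | X ∈ Cfsg.maxCharPSubgroups p G ∧
    ∃ R, (S : Subgroup G) ≤ R ∧ R ≤ X ∧ R ⊔ CY[p,L] = L ⊔ CY[p,L]}
  obtain ⟨X, ⟨hX, R, hSR, hRX, hRC⟩, hmax⟩ := Set.exists_max_image 𝒳 (fun X => Nat.card YY[p,X])
    (Set.toFinite _) ⟨X₀, hX₀, L, hSL, le_sup_left.trans hLX₀, rfl⟩
  have hSX := hSR.trans hRX
  obtain ⟨M, hSM, hMX, hMP, hYM, hMC, hclosed, hfrat⟩ := exists_minimal_supplement hpar hSX hX
  obtain ⟨R', hSR', hR'R, hR'P, hR'C, hYR'⟩ := exists_shrink hpar hSL hL hSR hRC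
  have hYX : YY[p,L] ≤ YY[p,X] :=
    hYR'.le.trans (largestPReducedOf_mono hSR' (hR'R.trans hRX) hX.1)
  have hCle : CY[p,X] ≤ CY[p,L] := centralizer_le (SetLike.coe_subset_coe.2 hYX)
  have hRM : (M ⊓ (L ⊔ CY[p,L])) ⊔ CY[p,L] = L ⊔ CY[p,L] := by
    refine le_antisymm (sup_le inf_le_right le_sup_right) ?_
    refine hRC.ge.trans (sup_le (fun r hr => ?_) le_sup_right)
    have hr' : r ∈ M ⊔ CY[p,X] := hMC.ge (hRX hr)
    rw [← hYM] at hr'
    obtain ⟨m, hm, c, hc, rfl⟩ := exists_mul_of_mem_dag hr'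
    rw [hYM] at hc
    have hmD : m ∈ L ⊔ CY[p,L] := by
      have := mul_mem (show m * c ∈ L ⊔ CY[p,L] from hRC.le (mem_sup_left hr))
        (mem_sup_right (S := L) (inv_mem (hCle hc)))
      simpa using this
    exact mul_mem (mem_sup_left (T := CY[p,L]) ⟨hm, hmD⟩) (mem_sup_right (hCle hc))
  have hMfrak : Cfsg.IsInFrakM p M := by
    refine ⟨hMP, ?_, ?_, ?_, ?_, ?_⟩ <;> rw [hYM]
    · rw [hMC]; exact hX
    · intro X' hX' hMX'
      rw [hMC]
      have hle : YY[p,X] ≤ YY[p,X'] := hYM.ge.trans (largestPReducedOf_mono hSM hMX' hX'.1)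
      have heq : YY[p,X] = YY[p,X'] := eq_of_le_of_card_ge hle (hmax X' ⟨hX', _,
        le_inf hSM (hSL.trans le_sup_left), inf_le_left.trans hMX', hRM⟩)
      have hXX' : X ≤ X' := by
        rw [← hMC]
        refine sup_le hMX' ?_
        rw [heq]
        exact le_sup_right.trans (max_sup_centralizer_eq hpar (hSM.trans hMX') hX').le
      exact hX.2 X' hX'.1 hXX'
    · rw [hMC]
    · exact hclosed
    · exact hfrat
  obtain ⟨Ls, hSLs, hLsM, hLsP, hLsC, hYLs⟩ :=
    exists_shrink hpar hSL hL (le_inf hSM (hSL.trans le_sup_left)) hRM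
  exact ⟨M, Ls, hSM, hMfrak, hSLs, hLsM.trans inf_le_left, hLsP, hYLs,
    hYX.trans hYM.ge, hLsC.symm⟩

end CfsgLib.LargeSubgroups
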