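import Cfsg.Agent.Lib.LargeSubgroups.WeakClosureProduct
import Cfsg.Agent.Lib.Cores.Quasisimple
import Cfsg.Agent.Lib.Cores.PCore
import Cfsg.Agent.S2843

/-!
The weak closure of a large subgroup in a group that is quasisimple modulo a centraliser.
-/

set_option autoImplicit false

namespace CfsgLib.LargeSubgroups

open Subgroup CfsgLib.FFModules
open scoped commutatorElement

variable {G : Type*} [Group G] [Finite G] {p : ℕ}

local notation "RES[" L "]" => Subgroup.map (Subgroup.subtype L) (Cfsg.pResidual p L)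

omit [Finite G] in
theorem commutator_sup_le {A B N X : Subgroup G} (hAX : A ≤ normalizer (X : Set G))
    (hBX : B ≤ normalizer (X : Set G)) (hA : ⁅A, N⁆ ≤ X) (hB : ⁅B, N⁆ ≤ X) : ⁅A ⊔ B, N⁆ ≤ X := by
  let S : Subgroup G :=
    { carrier := {x | x ∈ normalizer (X : Set G) ∧ ∀ n ∈ N, x * n * x⁻¹ * n⁻¹ ∈ X}
      one_mem' := ⟨one_mem _, fun n _ => by simp⟩
      mul_mem' := by
        rintro x y ⟨hx, hx'⟩ ⟨hy, hy'⟩
        refine ⟨mul_mem hx hy, fun n hn => ?_⟩
        rw [show x * y * n * (x * y)⁻¹ * n⁻¹ =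
          (x * (y * n * y⁻¹ * n⁻¹) * x⁻¹) * (x * n * x⁻¹ * n⁻¹) by group]
        exact mul_mem ((Subgroup.mem_normalizer_iff.1 hx _).1 (hy' n hn)) (hx' n hn)
      inv_mem' := by
        rintro x ⟨hx, hx'⟩
        refine ⟨inv_mem hx, fun n hn => ?_⟩
        rw [show x⁻¹ * n * x⁻¹⁻¹ * n⁻¹ = x⁻¹ * (x * n * x⁻¹ * n⁻¹)⁻¹ * x⁻¹⁻¹ by group]
        exact (Subgroup.mem_normalizer_iff.1 (inv_mem hx) _).1 (inv_mem (hx' n hn)) }
  have h1 : A ⊔ B ≤ S := sup_le
    (fun a ha => ⟨hAX ha, fun n hn => by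
      simpa [commutatorElement_def] using hA (commutator_mem_commutator ha hn)⟩)
    (fun b hb => ⟨hBX hb, fun n hn => by
      simpa [commutatorElement_def] using hB (commutator_mem_commutator hb hn)⟩)
  exact Subgroup.commutator_le.2 fun x hx n hn => by
    simpa [commutatorElement_def] using (h1 hx).2 n hn

omit [Finite G] in
theorem exists_mul_of_le_sup {A B M : Subgroup G} (hM : M ≤ A ⊔ B) (hn : A ≤ normalizer (B : Set G))
    (hAM : A ≤ M) : M ≤ A ⊔ M ⊓ B := by
  intro m hm
  have h : m ∈ ((A ⊔ B : Subgroup G) : Set G) := hM hm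
  rw [coe_mul_of_left_le_normalizer_right A B hn] at h
  obtain ⟨a, ha, b, hb, rfl⟩ := h
  have hbM : b ∈ M := by simpa using M.mul_mem (M.inv_mem (hAM ha)) hm
  exact mul_mem (mem_sup_left ha) (mem_sup_right ⟨hbM, hb⟩)

variable [Fact p.Prime]

theorem large_mod_quasisimple {Q U E Er : Subgroup G} (hQp : IsPGroup p Q) (hQ1 : Q ≠ ⊥)
    (hQ : Cfsg.IsLarge Q) (hU : Cfsg.IsElementaryAbelian p U) (hU1 : U ≠ ⊥) (hQE : Q ≤ E)
    (hEU : E ≤ normalizer ((U : Subgroup G) : Set G))
    (hQn : ¬ E ≤ normalizer ((Q : Subgroup G) : Set G))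
    [hn : ((centralizer ((U : Subgroup G) : Set G)).subgroupOf E).Normal]
    (hred : Cfsg.pCore p (↥E ⧸ (centralizer ((U : Subgroup G) : Set G)).subgroupOf E) = ⊥)
    (hqs : Cfsg.IsQuasisimple ↥(((Cfsg.pResidual p ↥E) ⊔
      (centralizer ((U : Subgroup G) : Set G)).subgroupOf E).map
        (QuotientGroup.mk' ((centralizer ((U : Subgroup G) : Set G)).subgroupOf E))))
    (hEr : Er = RES[Cfsg.weakClosure Q E])
    [hn2 : ((centralizer ((U : Subgroup G) : Set G)).subgroupOf Er).Normal] :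
    RES[E] ⊔ (E ⊓ centralizer ((U : Subgroup G) : Set G)) =
        Er ⊔ (E ⊓ centralizer ((U : Subgroup G) : Set G)) ∧
      ⁅Er, Er⁆ = Er ∧ RES[Er] = Er ∧
      Cfsg.IsQuasisimple (↥Er ⧸ (centralizer ((U : Subgroup G) : Set G)).subgroupOf Er) ∧
      Cfsg.IsQuasisimple (↥Er ⧸ Cfsg.pCore p ↥Er) ∧
      ∀ Y : Subgroup G, Y ≤ E → IsPGroup p ↥Y → ¬ Y ≤ centralizer ((U : Subgroup G) : Set G) →
        ⁅Er, Y⁆ = Er := by
  have hwc := FFModules.wc_of_isLarge hQp hQ1 hQ
  set C₀ := centralizer ((U : Subgroup G) : Set G) with hC₀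
  set C := E ⊓ C₀ with hC
  set K := RES[E] ⊔ C with hK
  have hCE : C ≤ E := inf_le_left
  have hKE : K ≤ E := sup_le (pResidualMap_le E) hCE
  have hEC : E ≤ normalizer (C : Set G) :=
    le_normalizer_inf_of le_normalizer (hEU.trans (FFModules.normalizer_le_normalizer_centralizer U))
  have hEK : E ≤ normalizer (K : Set G) := fun e he => mem_normalizer_of_map_conj_le (by
    rw [hK, Subgroup.map_sup, map_conj_eq_self (le_normalizer.trans (pResidualMap_le_normalizer E) he),
      map_conj_eq_self (hEC he)])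
  -- the quotient `E / C`
  set Cb := C₀.subgroupOf E with hCb
  set π := QuotientGroup.mk' Cb with hπ
  have hker : ∀ x : E, π x = 1 ↔ (x : G) ∈ C := fun x => by
    rw [hπ, QuotientGroup.mk'_apply, QuotientGroup.eq_one_iff]
    exact ⟨fun h => ⟨x.2, h⟩, fun h => h.2⟩
  set Kb := ((Cfsg.pResidual p ↥E) ⊔ Cb).map π with hKb
  have hKbeq : Kb = (K.subgroupOf E).map π := by
    rw [hKb]
    congr 1
    refine map_injective E.subtype_injective ?_
    rw [Subgroup.map_sup, map_subgroupOf_eq_of_le hKE, hCb, subgroupOf_map_subtype, inf_comm]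
  have memKb : ∀ x : E, π x ∈ Kb → (x : G) ∈ K := fun x hx => by
    rw [hKbeq] at hx
    obtain ⟨k, hk, hkx⟩ := hx
    have h1 : π (k⁻¹ * x) = 1 := by rw [map_mul, map_inv, hkx, inv_mul_cancel]
    have h2 := (hker _).1 h1
    have h3 := mul_mem (show (k : G) ∈ K from hk) (mem_sup_right (S := RES[E]) h2)
    simpa using h3
  have hqsN : ∀ N : Subgroup G, C ≤ N → N ≤ K → K ≤ normalizer (N : Set G) → N = K ∨ ⁅N, K⁆ ≤ C := by
    intro N hCN hNK hKN
    set Nb := ((N.subgroupOf E).map π).subgroupOf Kb with hNb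
    haveI : Nb.Normal := by
      refine ⟨fun a ha b => ?_⟩
      obtain ⟨a', ha', hae⟩ := ha
      obtain ⟨b', hb', hbe⟩ := hKbeq.le b.2
      refine ⟨b' * a' * b'⁻¹, ?_, ?_⟩
      · exact (Subgroup.mem_normalizer_iff.1 (hKN hb') _).1 ha'
      · rw [map_mul, map_mul, map_inv, hbe, hae]; rfl
    rcases CfsgLib.Cores.normal_eq_top_or_le_center hqs Nb with h | h
    · left
      refine le_antisymm hNK fun k hk => ?_
      have hkb : π ⟨k, hKE hk⟩ ∈ Kb := hKbeq ▸ ⟨⟨k, hKE hk⟩, hk, rfl⟩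
      have h1 : (⟨_, hkb⟩ : Kb) ∈ Nb := by rw [h]; trivial
      obtain ⟨n, hn, hne⟩ := h1
      have h2 : π (n⁻¹ * ⟨k, hKE hk⟩) = 1 := by
        rw [map_mul, map_inv, show π n = π ⟨k, hKE hk⟩ from hne, inv_mul_cancel]
      have h3 := N.mul_mem (show (n : G) ∈ N from hn) (hCN ((hker _).1 h2))
      simpa using h3
    · right
      refine Subgroup.commutator_le.2 fun n hn k hk => ?_
      have hnb : π ⟨n, hKE (hNK hn)⟩ ∈ Kb := hKbeq ▸ ⟨⟨n, hKE (hNK hn)⟩, hNK hn, rfl⟩
      have hkb : π ⟨k, hKE hk⟩ ∈ Kb := hKbeq ▸ ⟨⟨k, hKE hk⟩, hk, rfl⟩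
      have h1 : (⟨_, hnb⟩ : Kb) ∈ Nb := ⟨⟨n, hKE (hNK hn)⟩, hn, rfl⟩
      have h2 := congrArg Subtype.val (mem_center_iff.1 (h h1) ⟨_, hkb⟩)
      have h3 : π ⁅(⟨n, hKE (hNK hn)⟩ : E), ⟨k, hKE hk⟩⁆ = 1 := by
        rw [map_commutatorElement, commutatorElement_eq_one_iff_mul_comm]
        exact h2.symm
      simpa [commutatorElement_def] using (hker _).1 h3
  have hperf : K ≤ ⁅K, K⁆ ⊔ C := by
    intro k hk
    have hkb : π ⟨k, hKE hk⟩ ∈ Kb := hKbeq ▸ ⟨⟨k, hKE hk⟩, hk, rfl⟩
    haveI := hqs.1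
    have hb : (⁅Kb, Kb⁆ : Subgroup (↥E ⧸ Cb)) = Kb := Subgroup.isPerfect_iff.1 hqs.1
    have h1 : π ⟨k, hKE hk⟩ ∈ (⁅(K.subgroupOf E), (K.subgroupOf E)⁆).map π := by
      rw [Subgroup.map_commutator, ← hKbeq, hb]; exact hkb
    obtain ⟨c, hc, hce⟩ := h1
    have h2 := (hker _).1 (show π (c⁻¹ * ⟨k, hKE hk⟩) = 1 by rw [map_mul, map_inv, hce, inv_mul_cancel])
    have h3 : (c : G) ∈ ⁅K, K⁆ := by
      have := mem_map_of_mem E.subtype hc
      rwa [Subgroup.map_commutator, map_subgroupOf_eq_of_le hKE] at this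
    have h4 := (⁅K, K⁆ ⊔ C).mul_mem (mem_sup_left h3) (mem_sup_right h2)
    simpa using h4
  have hredN : ∀ R : Subgroup G, R ≤ E → IsPGroup p R → E ≤ normalizer ((R ⊔ C : Subgroup G) : Set G) →
      R ≤ C₀ := by
    intro R hRE hRp hn'
    set Rb := ((R ⊔ C).subgroupOf E).map π with hRb
    haveI : Rb.Normal := Subgroup.Normal.map
      ((normal_subgroupOf_iff_le_normalizer (sup_le hRE hCE)).2 hn') π (QuotientGroup.mk'_surjective _)
    have hCbot : (C.subgroupOf E).map π = ⊥ := by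
      rw [Subgroup.map_eq_bot_iff]
      intro x hx
      exact (hker x).2 hx
    have hRb' : Rb = (R.subgroupOf E).map π := by
      rw [hRb, subgroupOf_sup hRE hCE, Subgroup.map_sup, hCbot, sup_bot_eq]
    have hle : Rb ≤ ⊥ := hred ▸ FFModules.le_pCore (inferInstance : Rb.Normal)
      (hRb' ▸ (hRp.comap_subtype (K := E)).map π)
    intro r hr
    have h1 : π ⟨r, hRE hr⟩ ∈ Rb := ⟨⟨r, hRE hr⟩, mem_sup_left hr, rfl⟩
    exact ((hker _).1 (mem_bot.1 (hle h1))).2
  -- three subgroups modulo `C`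
  have hthree : ∀ N : Subgroup G, N ≤ E → ⁅⁅N, K⁆, K⁆ ≤ C → ⁅N, K⁆ ≤ C := by
    intro N hNE h
    have hC1 : ∀ A : Subgroup G, A ≤ E → A ≤ normalizer (C : Set G) := fun A hA => hA.trans hEC
    have h2 : ⁅⁅K, K⁆, N⁆ ≤ C :=
      CfsgLib.StronglyPEmbedded.commutator_commutator_le_of_rotate (hC1 K hKE) (hC1 K hKE) (hC1 N hNE)
        (by rw [commutator_comm K N]; exact h) h
    have hKKE : ⁅K, K⁆ ≤ E := (Subgroup.commutator_le_self K).trans hKE
    have hCN : ⁅C, N⁆ ≤ C := le_normalizer_iff_commutator_le_left.1 (hC1 N hNE)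
    rw [commutator_comm]
    exact (commutator_mono hperf le_rfl).trans (commutator_sup_le (hC1 _ hKKE) le_normalizer h2 hCN)
  -- `Q` and the weak closure
  set P := Cfsg.weakClosure Q E with hP
  have hPE : P ≤ E := LargeSubgroups.weakClosure_le Q E
  have hQP : Q ≤ P := LargeSubgroups.self_le_weakClosure hQE
  have hEP : E ≤ normalizer (P : Set G) := FFModules.le_normalizer_weakClosure Q E
  obtain ⟨u, huU, hu1, huc⟩ := FFModules.exists_ne_one_fixed hQp (isPGroup_of_elemAb hU) hU1 (hQE.trans hEU)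
  have hCQ : C ≤ normalizer (Q : Set G) := fun c hc =>
    mem_normalizer_of_commute hQ (fun q hq => huc q hq) hu1 (hc.2 u huU).symm
  have hQC : ¬ Q ≤ C₀ := fun hle => by
    have hQC' : Q ≤ C := le_inf hQE hle
    refine hQn fun e he => ?_
    have h1 : Q.map (MulAut.conj e).toMonoidHom ≤ C :=
      (map_mono hQC').trans (map_conj_eq_self (hEC he)).le
    exact mem_normalizer_of_map_conj_eq (FFModules.wc_eq_of_le hwc
      (IsPGroup.to_sup_of_normal_right' (hQp.map _) hQp (h1.trans hCQ)) le_sup_right le_sup_left)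
  obtain ⟨-, hPC', -⟩ := Cfsg.Agent.S2843.result Q hQp hQ1 hQ E hQE U (isPGroup_of_elemAb hU) hU1 hEU
  rw [← hP] at hPC'
  set O := Cfsg.pCoreOf p P with hO
  have hErP : Er ≤ P := hEr ▸ pResidualMap_le P
  have hErE : Er ≤ E := hErP.trans hPE
  have hEEr : E ≤ normalizer (Er : Set G) := hEr ▸ hEP.trans (pResidualMap_le_normalizer P)
  have hclP : closureIn Q P = P := closureIn_weakClosure_eq hwc hQE
  have hErQ : ⁅Er, Q⁆ = Er := by rw [hEr]; exact commutator_pResidualMap_eq hQP hQp hclP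
  have hgenP : Er ⊔ Q = P := by rw [hEr]; exact pResidualMap_sup_eq hQP hclP
  have hErK : Er ≤ K := hEr ▸ (pResidualMap_mono hPE).trans le_sup_left
  have hidem : RES[Er] = Er := by rw [hEr]; exact pResidualMap_idem P
  have hMn : ∀ A : Subgroup G, E ≤ normalizer (A : Set G) →
      E ≤ normalizer ((A ⊔ C : Subgroup G) : Set G) := fun A hA e he => mem_normalizer_of_map_conj_le (by
    rw [Subgroup.map_sup, map_conj_eq_self (hA he), map_conj_eq_self (hEC he)])
  have hErC : ¬ Er ≤ C := by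
    intro hle
    refine hQC (hredN Q hQE hQp ?_)
    have h1 : Q ⊔ C = P ⊔ C := by
      rw [← hgenP]
      refine le_antisymm (sup_le_sup_right le_sup_right C)
        (sup_le (sup_le (hle.trans le_sup_right) le_sup_left) le_sup_right)
    rw [h1]
    exact hMn P hEP
  -- `K = Er C`
  have hKeq : K = Er ⊔ C := by
    rcases hqsN (Er ⊔ C) le_sup_right (sup_le hErK le_sup_right) (hKE.trans (hMn Er hEEr)) with h | h
    · exact h.symm
    set N := K ⊓ (P ⊔ C) with hN
    have hEN : E ≤ normalizer (N : Set G) := le_normalizer_inf_of hEK (hMn P hEP)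
    rcases hqsN N (le_inf le_sup_right le_sup_right) inf_le_left (hKE.trans hEN) with h' | h'
    · refine le_antisymm (sup_le (pResidualMap_le_iff.2 fun x hx hxc => ?_) le_sup_right) (sup_le hErK le_sup_right)
      have hxK : x ∈ K := mem_sup_left (mem_pResidualMap hx hxc)
      have hxP : x ∈ P ⊔ C := (h'.ge hxK).2
      refine pResidualMap_le_of_le_sup (L := P ⊔ C) (N := Er ⊔ C) (P := Q)
        (sup_le (hErP.trans le_sup_left) le_sup_right) (hQP.trans le_sup_left)
        ((sup_le hPE hCE).trans (hMn Er hEEr)) hQp ?_ (mem_pResidualMap hxP hxc)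
      rw [← hgenP, sup_right_comm]
    · exfalso
      have hKQ : ⁅K, Q⁆ ≤ N := le_inf (le_normalizer_iff_commutator_le_left.1 (hQE.trans hEK)) (by
        rw [commutator_comm]
        exact (commutator_mono (hQP.trans le_sup_left) le_rfl).trans
          (le_normalizer_iff_commutator_le_left.1 (hKE.trans (hMn P hEP))))
      have h1 : ⁅Q, K⁆ ≤ C := hthree Q hQE (by
        rw [commutator_comm Q K]; exact (commutator_mono hKQ le_rfl).trans h')
      rw [commutator_comm] at h1
      exact hErC (hErQ.ge.trans ((commutator_mono hErK le_rfl).trans h1))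
  -- commutators with `C`
  set D := Er ⊓ C with hD
  have hDO : ⁅D, P⁆ ≤ O := by
    rw [commutator_comm]
    exact (commutator_mono le_rfl (inf_le_right.trans inf_le_right)).trans hPC'
  set OE := Cfsg.pCoreOf p Er with hOr
  have hErOE : Er ≤ normalizer (OE : Set G) := le_normalizer_pCoreOf Er
  have hOOE : O ⊓ Er ≤ OE := le_pCoreOf inf_le_right
    (le_normalizer_inf_of (hErP.trans (le_normalizer_pCoreOf P)) le_normalizer)
    (isPGroup_pCoreOf P).to_inf_left
  have hDOE : ⁅Er, D⁆ ≤ OE := by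
    refine le_trans (le_inf ?_ ?_) hOOE
    · rw [commutator_comm]
      exact (commutator_mono le_rfl hErP).trans hDO
    · exact (commutator_mono le_rfl inf_le_left).trans (Subgroup.commutator_le_self Er)
  have hDn : Er ≤ normalizer (D : Set G) := le_normalizer_inf_of le_normalizer (hErE.trans hEC)
  -- perfect
  set E' := ⁅Er, Er⁆ with hE'
  have hE'le : E' ≤ Er := Subgroup.commutator_le_self Er
  have hEE' : E ≤ normalizer (E' : Set G) :=
    CfsgLib.StronglyPEmbedded.le_normalizer_commutator_of_le hEEr hEEr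
  have hErperf : E' = Er := by
    refine le_antisymm hE'le ?_
    have hKK : ⁅K, K⁆ ≤ E' ⊔ C := by
      rw [hKeq]
      have hE'C := hMn E' hEE'
      refine commutator_sup_le (hErE.trans hE'C) (hCE.trans hE'C) ?_ ?_
      · rw [commutator_comm]
        refine commutator_sup_le (hErE.trans hE'C) (hCE.trans hE'C) le_sup_left ?_
        exact (le_normalizer_iff_commutator_le_left.1 (hErE.trans hEC)).trans le_sup_right
      · exact (le_normalizer_iff_commutator_le_left.1 ((sup_le hErE hCE).trans hEC)).trans le_sup_right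
    have h1 : Er ≤ E' ⊔ C := hErK.trans (hperf.trans (sup_le hKK le_sup_right))
    have h2 : Er ≤ E' ⊔ D := exists_mul_of_le_sup h1 ((hE'le.trans hErE).trans hEC) hE'le
    have hEOn : E' ⊔ (O ⊓ Er) ≤ Er := sup_le hE'le inf_le_right
    have hPn : P ≤ normalizer ((E' ⊔ O ⊓ Er : Subgroup G) : Set G) := fun x hx =>
      mem_normalizer_of_map_conj_le (by
        rw [Subgroup.map_sup, map_conj_eq_self (hEE' (hPE hx)),
          map_conj_eq_self (le_normalizer_inf_of (le_normalizer_pCoreOf P) (hPE.trans hEEr) hx)])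
    have h3 : Er ≤ E' ⊔ O ⊓ Er := by
      calc Er = ⁅Er, Q⁆ := hErQ.symm
        _ ≤ ⁅E' ⊔ D, Q⁆ := commutator_mono h2 le_rfl
        _ ≤ _ := commutator_sup_le ((hE'le.trans hErP).trans hPn) ((inf_le_left.trans hErP).trans hPn)
          ((le_normalizer_iff_commutator_le_left.1 (hQE.trans hEE')).trans le_sup_left)
          ((le_inf ((commutator_mono le_rfl hQP).trans hDO)
            ((commutator_mono inf_le_left le_rfl).trans hErQ.le)).trans le_sup_right)
    exact hidem.ge.trans (pResidualMap_le_of_le_sup hE'le inf_le_right (hErE.trans hEE')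
      ((isPGroup_pCoreOf P).to_inf_left) h3)
  -- normal subgroups of `Er` above `O_p(Er)`
  have hkey : ∀ N : Subgroup G, N ≤ Er → Er ≤ normalizer (N : Set G) → Er ≤ N ⊔ C → Er ≤ N ⊔ OE := by
    intro N hNEr hn' h
    have h1 : Er ≤ N ⊔ D := exists_mul_of_le_sup h ((hNEr.trans hErE).trans hEC) hNEr
    have hnn : Er ≤ normalizer ((N ⊔ OE : Subgroup G) : Set G) := fun x hx =>
      mem_normalizer_of_map_conj_le (by
        rw [Subgroup.map_sup, map_conj_eq_self (hn' hx), map_conj_eq_self (hErOE hx)])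
    calc Er = ⁅Er, Er⁆ := hErperf.symm
      _ ≤ ⁅N ⊔ D, Er⁆ := commutator_mono h1 le_rfl
      _ ≤ _ := commutator_sup_le (hNEr.trans hnn) (inf_le_left.trans hnn)
        ((le_normalizer_iff_commutator_le_left.1 hn').trans le_sup_left)
        ((commutator_comm D Er ▸ hDOE).trans le_sup_right)
  have hOEC : OE ≤ C₀ := hredN OE ((FFModules.pCoreOf_le Er).trans hErE) (isPGroup_pCoreOf Er)
    (hMn OE (hEEr.trans (normalizer_le_normalizer_pCoreOf Er)))
  have hcases : ∀ N : Subgroup G, N ≤ Er → Er ≤ normalizer (N : Set G) →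
      Er ≤ N ⊔ C ∨ ⁅N, Er⁆ ≤ C := by
    intro N hNEr hn'
    have hKn : K ≤ normalizer ((N ⊔ C : Subgroup G) : Set G) := by
      rw [hKeq]
      refine sup_le (fun x hx => mem_normalizer_of_map_conj_le ?_) (le_sup_right.trans le_normalizer)
      rw [Subgroup.map_sup, map_conj_eq_self (hn' hx), map_conj_eq_self (hEC (hErE hx))]
    rcases hqsN (N ⊔ C) le_sup_right (sup_le (hNEr.trans hErK) le_sup_right) hKn with h | h
    · exact Or.inl (hErK.trans h.ge)
    · exact Or.inr ((commutator_mono le_sup_left hErK).trans h)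
  haveI hperfI : Group.IsPerfect Er := Subgroup.isPerfect_iff.2 hErperf
  have hcentral : ∀ (M : Subgroup Er) [M.Normal] (N : Subgroup (↥Er ⧸ M)), N.Normal → N ≠ ⊤ →
      (Er ≤ (N.comap (QuotientGroup.mk' M)).map Er.subtype → False) := by
    intro M _ N _ hN h
    refine hN (eq_top_iff.2 fun q _ => ?_)
    obtain ⟨x, rfl⟩ := QuotientGroup.mk'_surjective M q
    obtain ⟨y, hy, hyx⟩ := h x.2
    rw [← Subtype.ext (show (y : G) = x from hyx)]
    exact hy
  refine ⟨?_, hErperf, hidem, ?_, ?_, fun Y hYE hYp hYC => ?_⟩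
  · rw [← hKeq]
  · set M := C₀.subgroupOf Er with hM
    haveI : Group.IsPerfect (↥Er ⧸ M) :=
      Group.IsPerfect.ofSurjective (f := QuotientGroup.mk' M) (QuotientGroup.mk'_surjective M)
    haveI : Nontrivial (↥Er ⧸ M) := QuotientGroup.nontrivial_iff.2 fun h =>
      hErC (le_inf hErE (subgroupOf_eq_top.1 h))
    refine CfsgLib.Cores.isQuasisimple_of_normal fun N hN ht => ?_
    set N₀ := (N.comap (QuotientGroup.mk' M)).map Er.subtype with hN₀
    have hN₀n : Er ≤ normalizer (N₀ : Set G) := (normal_subgroupOf_iff_le_normalizer (map_subtype_le _)).1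
      (by rw [subgroupOf, comap_map_eq_self_of_injective Er.subtype_injective]; infer_instance)
    have hDN : D ≤ N₀ := fun d hd => ⟨⟨d, hd.1⟩, by
      show QuotientGroup.mk' M ⟨d, hd.1⟩ ∈ N
      rw [show QuotientGroup.mk' M ⟨d, hd.1⟩ = 1 from (QuotientGroup.eq_one_iff _).2 hd.2.2]
      exact one_mem _, rfl⟩
    rcases hcases N₀ (map_subtype_le _) hN₀n with h | h
    · refine (hcentral M N hN ht ?_).elim
      exact (exists_mul_of_le_sup h ((map_subtype_le _).trans (hErE.trans hEC)) (map_subtype_le _)).trans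
        (sup_le le_rfl hDN)
    · intro q hq
      obtain ⟨x, rfl⟩ := QuotientGroup.mk'_surjective M q
      refine mem_center_iff.2 fun r => ?_
      obtain ⟨y, rfl⟩ := QuotientGroup.mk'_surjective M r
      rw [eq_comm, ← map_mul, ← map_mul]
      refine QuotientGroup.eq.2 ?_
      have h1 := h (commutator_mem_commutator (show (x : G)⁻¹ ∈ N₀ from
        inv_mem ⟨x, hq, rfl⟩) y.2)
      show ((x * y)⁻¹ * (y * x) : Er).1 ∈ C₀
      have h2 : ((y : G)⁻¹ * ⁅(x : G)⁻¹, (y : G)⁆ * (y : G)) ∈ C := by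
        simpa using (Subgroup.mem_normalizer_iff.1 (hEC (hErE (inv_mem y.2))) _).1 h1
      simpa [commutatorElement_def, mul_assoc] using h2.2
  · set M := Cfsg.pCore p ↥Er with hM
    haveI : M.Normal := FFModules.normal_pCore
    haveI : Group.IsPerfect (↥Er ⧸ M) :=
      Group.IsPerfect.ofSurjective (f := QuotientGroup.mk' M) (QuotientGroup.mk'_surjective M)
    haveI : Nontrivial (↥Er ⧸ M) := QuotientGroup.nontrivial_iff.2 fun h => hErC (le_inf hErE (by
      intro x hx
      exact hOEC ⟨⟨x, hx⟩, by rw [SetLike.mem_coe, ← hM, h]; trivial, rfl⟩))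
    refine CfsgLib.Cores.isQuasisimple_of_normal fun N hN ht => ?_
    set N₀ := (N.comap (QuotientGroup.mk' M)).map Er.subtype with hN₀
    have hN₀n : Er ≤ normalizer (N₀ : Set G) := (normal_subgroupOf_iff_le_normalizer (map_subtype_le _)).1
      (by rw [subgroupOf, comap_map_eq_self_of_injective Er.subtype_injective]; infer_instance)
    have hON : OE ≤ N₀ := fun d hd => by
      obtain ⟨d', hd', rfl⟩ := hd
      refine ⟨d', ?_, rfl⟩
      show QuotientGroup.mk' M d' ∈ N
      rw [show QuotientGroup.mk' M d' = 1 from (QuotientGroup.eq_one_iff _).2 hd']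
      exact one_mem _
    rcases hcases N₀ (map_subtype_le _) hN₀n with h | h
    · exact (hcentral M N hN ht ((hkey N₀ (map_subtype_le _) hN₀n h).trans (sup_le le_rfl hON))).elim
    · have h' : ⁅⁅Er, Er⁆, N₀⁆ ≤ OE := by
        have hNE : ⁅N₀, Er⁆ ≤ D := le_inf (le_normalizer_iff_commutator_le_left.1 hN₀n |>.trans (map_subtype_le _)) h
        have h1 : ⁅⁅N₀, Er⁆, Er⁆ ≤ OE := (commutator_mono hNE le_rfl).trans (commutator_comm D Er ▸ hDOE)
        refine CfsgLib.StronglyPEmbedded.commutator_commutator_le_of_rotate hErOE hErOE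
          ((map_subtype_le _).trans hErOE) ?_ h1
        rwa [commutator_comm Er N₀]
      rw [show ⁅Er, Er⁆ = Er from hErperf] at h'
      intro q hq
      obtain ⟨x, rfl⟩ := QuotientGroup.mk'_surjective M q
      refine mem_center_iff.2 fun r => ?_
      obtain ⟨y, rfl⟩ := QuotientGroup.mk'_surjective M r
      rw [← map_mul, ← map_mul]
      refine QuotientGroup.eq.2 ?_
      have h1' := h' (commutator_mem_commutator (inv_mem y.2 : (y : G)⁻¹ ∈ Er) (show (x : G)⁻¹ ∈ N₀ from inv_mem ⟨x, hq, rfl⟩))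
      obtain ⟨z, hz, hze⟩ := h1'
      have h3 : (y * x)⁻¹ * (x * y) = z⁻¹ := by
        refine Subtype.ext ?_
        have hze' : ((z : Er) : G) = ⁅(y : G)⁻¹, (x : G)⁻¹⁆ := hze
        simp only [Subgroup.coe_mul, Subgroup.coe_inv, hze', commutatorElement_def]
        group
      rw [h3]
      exact M.inv_mem hz
  · -- `Er = [Er, Y]`
    set X := ⁅Er, Y⁆ with hX
    have hXEr : X ≤ Er := le_normalizer_iff_commutator_le_left.1 (hYE.trans hEEr)
    have hXn : Er ≤ normalizer (X : Set G) := normalizer_commutator_ge_left Er Y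
    rcases hcases X hXEr hXn with h | h
    · exact le_antisymm hXEr (hidem.ge.trans (pResidualMap_le_of_le_sup hXEr
        (FFModules.pCoreOf_le Er) hXn (isPGroup_pCoreOf Er) (hkey X hXEr hXn h)))
    exfalso
    have hXK : ⁅X, K⁆ ≤ C := by
      rw [hKeq, commutator_comm]
      refine commutator_sup_le (hErE.trans hEC) le_normalizer (commutator_comm X Er ▸ h) ?_
      exact le_normalizer_iff_commutator_le_left.1 ((hXEr.trans hErE).trans hEC)
    have hKY : ⁅K, Y⁆ ≤ X ⊔ C := by
      have hn' : ∀ A : Subgroup G, A ≤ K → A ≤ normalizer ((X ⊔ C : Subgroup G) : Set G) := by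
        intro A hA
        refine hA.trans ?_
        rw [hKeq]
        refine sup_le (fun x hx => mem_normalizer_of_map_conj_le ?_) (le_sup_right.trans le_normalizer)
        rw [Subgroup.map_sup, map_conj_eq_self (hXn hx), map_conj_eq_self (hEC (hErE hx))]
      rw [hKeq]
      exact commutator_sup_le (hn' Er hErK) (hn' C le_sup_right) le_sup_left
        ((le_normalizer_iff_commutator_le_left.1 (hYE.trans hEC)).trans le_sup_right)
    have hYK : ⁅Y, K⁆ ≤ C := hthree Y hYE (by
      rw [commutator_comm Y K]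
      refine (commutator_mono hKY le_rfl).trans (commutator_sup_le ((hXEr.trans hErE).trans hEC)
        le_normalizer hXK ?_)
      exact le_normalizer_iff_commutator_le_left.1 (hKE.trans hEC))
    -- in the quotient
    set Cn := centralizer (Kb : Set (↥E ⧸ Cb)) with hCn
    haveI hKbn : Kb.Normal := by
      rw [hKbeq]
      exact Subgroup.Normal.map ((normal_subgroupOf_iff_le_normalizer hKE).2 hEK) π (QuotientGroup.mk'_surjective _)
    have hCnn : Cn.Normal := inferInstance
    have hYb : ∀ y (hy : y ∈ Y), π ⟨y, hYE hy⟩ ∈ Cn := fun y hy => by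
      refine mem_centralizer_iff.2 fun k hk => ?_
      obtain ⟨k', rfl⟩ := QuotientGroup.mk'_surjective Cb k
      have h1 := hYK (commutator_mem_commutator hy (memKb k' hk))
      have h2 : π ⁅(⟨y, hYE hy⟩ : E), k'⁆ = 1 := (hker _).2 (by simpa [commutatorElement_def] using h1)
      rw [map_commutatorElement, commutatorElement_eq_one_iff_mul_comm] at h2
      exact h2.symm
    have hquot : ∀ q : ↥E ⧸ Cb, ∃ k : ℕ, q ^ p ^ k ∈ Kb := fun q => by
      obtain ⟨x, rfl⟩ := QuotientGroup.mk'_surjective Cb q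
      obtain ⟨k, hk⟩ := FFModules.exists_pPow_mem_pResidual (p := p) x
      exact ⟨k, by rw [← map_pow]; exact mem_map_of_mem π (mem_sup_left hk)⟩
    have hZ : Kb.subgroupOf Cn ≤ center Cn := fun z hz => mem_center_iff.2 fun w =>
      Subtype.ext (mem_centralizer_iff.1 w.2 (z : ↥E ⧸ Cb) hz).symm
    haveI hZn : (Kb.subgroupOf Cn).Normal := inferInstance
    have hQp' : IsPGroup p (↥Cn ⧸ Kb.subgroupOf Cn) := by
      intro w
      obtain ⟨w, rfl⟩ := QuotientGroup.mk'_surjective _ w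
      obtain ⟨k, hk⟩ := hquot w
      exact ⟨k, by rw [← map_pow]; exact (QuotientGroup.eq_one_iff _).2 (by simpa [mem_subgroupOf] using hk)⟩
    haveI : Group.IsNilpotent (↥Cn ⧸ Kb.subgroupOf Cn) := hQp'.isNilpotent
    haveI : Group.IsNilpotent Cn := Subgroup.isNilpotent_of_ker_le_center
      (QuotientGroup.mk' (Kb.subgroupOf Cn)) (by rwa [QuotientGroup.ker_mk'])
    set Yb := (Y.subgroupOf E).map π with hYbdef
    have hYbCn : Yb ≤ Cn := by
      rintro _ ⟨y, hy, rfl⟩
      exact hYb y hy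
    obtain ⟨S, hS⟩ := (((hYp.comap_subtype (K := E)).map π).comap_subtype (K := Cn)).exists_le_sylow
    haveI hSn : (S : Subgroup Cn).Normal := Sylow.normal_of_normalizerCondition Group.normalizerCondition_of_isNilpotent S
    have hle : Yb ≤ ⊥ := by
      rw [← hred]
      refine le_trans ?_ (CfsgLib.Cores.map_subtype_pCore_le hCnn.isSubnormal)
      intro y hy
      exact ⟨⟨y, hYbCn hy⟩, FFModules.le_pCore hSn S.2 (hS hy), rfl⟩
    exact hYC fun y hy => ((hker ⟨y, hYE hy⟩).1 (mem_bot.1 (hle ⟨⟨y, hYE hy⟩, hy, rfl⟩))).2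

end CfsgLib.LargeSubgroups
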