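import Cfsg.Agent.Lib.LargeSubgroups.RankOnePair
import Cfsg.Agent.Lib.Suzuki.ClassProd
import Cfsg.Agent.Lib.Suzuki.SolCounts

/-!
Elements of groups like `L/O_p(L)`.
-/

set_option autoImplicit false

namespace CfsgLib.LargeSubgroups

open Subgroup CfsgLib.FFModules
open scoped commutatorElement MatrixGroups
open CfsgLib.ClassicalLinear (upS upperSL upS_coe upS_add upS_injective mem_upperSL)

local notation "MC[" g "]" => Subgroup.map (MulEquiv.toMonoidHom (MulAut.conj g))

variable {X : Type*} [Group X] [Finite X] {p : ℕ} [Fact p.Prime] {P : Subgroup X}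

/-- An element of order `p` in a common `p`-group with `P` lies in `P`. -/
theorem RankOnePair.mem_of_pow_eq_one (hP : RankOnePair p P) {W : Subgroup X} (hW : IsPGroup p W)
    (hPW : P ≤ W) {x : X} (hx : x ∈ W) (hxp : x ^ p = 1) : x ∈ P := by
  rcases hP.model with ⟨F, _, _, hcF, ⟨e⟩⟩ | ⟨rfl, F, _, m, h, hcF, ⟨e⟩⟩ | ⟨hp, hc2⟩
  · set P' := P.map e.toMonoidHom with hP'
    have hP'p : IsPGroup p P' := (isPGroup_of_elemAb hP.elemAb).map _
    have hP'c : Nat.card P' = Nat.card F := by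
      rw [hP', card_map_of_injective e.injective, hcF]
    haveI := charP_of_card_eq hP'p hP'c
    have hle : Nat.card W ≤ Nat.card P := by
      obtain ⟨S, hS⟩ := (hW.map e.toMonoidHom).exists_le_sylow
      calc Nat.card W = Nat.card (W.map e.toMonoidHom) := (card_map_of_injective e.injective).symm
        _ ≤ Nat.card (S : Subgroup (SL(2, F))) := Nat.le_of_dvd Nat.card_pos (card_dvd_of_le hS)
        _ = Nat.card P := by
          rw [S.card_eq_multiplicity, ← CfsgLib.ClassicalLinear.card_upperSL_eq_factorization,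
            CfsgLib.ClassicalLinear.card_upperSL, hcF]
    rwa [eq_of_le_of_card_ge hPW hle]
  · haveI := h.finite_group
    obtain ⟨S, hS⟩ := (hW.map e.toMonoidHom).exists_le_sylow
    obtain ⟨g, hg⟩ := h.exists_sylow_eq S
    have hU : ∀ y ∈ W, g⁻¹ * e y * g ∈ h.U := by
      intro y hy
      have h1 := hS (mem_map_of_mem _ hy)
      rw [hg, Subgroup.mem_pointwise_smul_iff_inv_smul_mem] at h1
      simpa [MulAut.smul_def] using h1
    have hPZ : MC[g⁻¹] (P.map e.toMonoidHom) = h.Z := by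
      refine eq_of_le_of_card_ge (le_Z_of_elemAb h (elemAb_map (elemAb_map hP.elemAb _) _) ?_) ?_
      · rintro _ ⟨_, ⟨y, hy, rfl⟩, rfl⟩
        simpa using hU y (hPW hy)
      · rw [card_map_conj, card_map_of_injective e.injective, hcF, h.card, h.card_Z]
    obtain ⟨a, b, hab⟩ := hU x hx
    have h2 : h.u a b * h.u a b = 1 := by
      rw [← hab, show g⁻¹ * e x * g * (g⁻¹ * e x * g) = g⁻¹ * (e x * e x) * g by group, ← map_mul,
        ← pow_two, hxp]
      simp
    rw [h.u_sq] at h2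
    have h3 := (h.u_injective (h2.trans h.u_zero.symm)).2
    have ha : a = 0 := (mul_eq_zero.1 h3).elim CfsgLib.Suzuki.th_eq_zero_iff.1 id
    obtain ⟨_, ⟨y, hy, rfl⟩, hye⟩ := hPZ.ge (⟨b, by rw [hab, ha]⟩ : g⁻¹ * e x * g ∈ h.Z)
    have h4 : e y = e x := by
      have h5 : g⁻¹ * e y * g = g⁻¹ * e x * g := by simpa using hye
      simpa using h5
    rwa [← e.injective h4]
  · obtain ⟨t, s, -, -, -, -, -, hN⟩ := hP.two_structure hp hc2
    by_contra hxP
    haveI : Group.IsNilpotent W := hW.isNilpotent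
    have hlt : P.subgroupOf W < ⊤ := lt_top_iff_ne_top.2 fun e => hxP (subgroupOf_eq_top.1 e hx)
    obtain ⟨y, hy, hyn⟩ := SetLike.exists_of_lt (Group.normalizerCondition_of_isNilpotent _ hlt)
    refine hyn (hN.le (Subgroup.mem_normalizer_iff.2 fun z => ⟨fun hz => ?_, fun hz => ?_⟩))
    · exact (Subgroup.mem_normalizer_iff.1 hy ⟨z, hPW hz⟩).1 hz
    · have hzW : z ∈ W := by
        have h1 := W.mul_mem (W.mul_mem (W.inv_mem y.2) (hPW hz)) y.2
        simpa [mul_assoc] using h1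
      exact (Subgroup.mem_normalizer_iff.1 hy ⟨z, hzW⟩).2 hz

/-- Outside the `SL₂` case the elements of odd order are inverted by conjugates of elements of `P`. -/
theorem RankOnePair.model_or_inverted (hP : RankOnePair p P) :
    (∃ (F : Type) (_ : Field F) (_ : Fintype F),
      Nat.card P = Nat.card F ∧ Nonempty (X ≃* SL(2, F))) ∨
    (p = 2 ∧ ∀ x : X, x ≠ 1 → Odd (orderOf x) → ∃ k, ∃ t ∈ MC[k] P, t * x * t⁻¹ = x⁻¹) := by
  rcases hP.model with h | ⟨rfl, F, _, m, h, hcF, ⟨e⟩⟩ | ⟨hp, hc2⟩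
  · exact Or.inl h
  · refine Or.inr ⟨rfl, fun x hx hodd => ?_⟩
    haveI := h.finite_group
    have hg : e x ≠ 1 := fun he => hx (e.injective (he.trans (map_one e).symm))
    have hgo : Odd (orderOf (e x)) := by rwa [e.orderOf_eq]
    obtain ⟨g, hgZ⟩ := exists_conj_Z_eq h (elemAb_map hP.elemAb e.toMonoidHom)
      (by rw [card_map_of_injective e.injective, hcF])
    have hpos : 0 < Nat.card (CfsgLib.Suzuki.cenOf (e x)) := Nat.card_pos
    rw [← h.ncard_involutions hg hgo] at hpos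
    obtain ⟨s, hs, hso⟩ := (Set.ncard_pos (Set.toFinite _)).1 hpos
    have hinv := h.inv_spec hg hgo hs hso (Subgroup.mem_centralizer_singleton_iff.2 rfl)
    obtain ⟨c, hc⟩ := isConj_iff.1 (h.isConj_involution hso)
    obtain ⟨_, ⟨y, hy, rfl⟩, hye⟩ := hgZ.ge (⟨1, rfl⟩ : h.u 0 1 ∈ h.Z)
    refine ⟨e.symm (c * g), _, ⟨y, hy, rfl⟩, e.injective ?_⟩
    have hye' : g * e y * g⁻¹ = h.u 0 1 := by simpa using hye
    have hsy : s = c * g * e y * (c * g)⁻¹ := by
      rw [← hc, ← hye']; group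
    simpa [hsy, mul_assoc] using hinv
  · refine Or.inr ⟨hp, fun x hx hodd => ⟨1, ?_⟩⟩
    obtain ⟨t, s, ht, hs, hPt, -, hcl, -⟩ := hP.two_structure hp hc2
    refine ⟨t, by rw [map_conj_one, hPt]; exact mem_zpowers t, ?_⟩
    obtain ⟨k, rfl | rfl⟩ := CfsgLib.Involutions.mem_closure_pair ht hs (hcl.ge (mem_top x))
    · rw [CfsgLib.Involutions.conj_zpow_mul_eq ht hs, zpow_neg]
    · exfalso
      have h2 : ((t * s) ^ k * t) * ((t * s) ^ k * t) = 1 := by
        rw [CfsgLib.Involutions.zpow_mul_mul_zpow_mul ht hs, sub_self, zpow_zero]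
      have h3 : orderOf ((t * s) ^ k * t) = 2 := CfsgLib.Involutions.orderOf_eq_two_iff.2 ⟨h2, hx⟩
      rw [h3] at hodd
      exact absurd hodd (by decide)

end CfsgLib.LargeSubgroups
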