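import Cfsg.Agent.Lib.LargeSubgroups.ModQuasisimple
import Cfsg.Agent.Lib.SL2.Unipotent
import Cfsg.Agent.Lib.SL2.Card
import Cfsg.Agent.Lib.SL2Gen.Basic
import Cfsg.Agent.Lib.Suzuki.SylowTwo
import Cfsg.Agent.Lib.Suzuki.LieBridge
import Cfsg.Agent.Lib.Involutions.Basic

/-!
Groups like `L/O_p(L)` for `L ∈ 𝔏`, with the image of `Y`.
-/

set_option autoImplicit false

namespace CfsgLib.LargeSubgroups

open Subgroup CfsgLib.FFModules
open scoped commutatorElement MatrixGroups
open CfsgLib.ClassicalLinear (upS upperSL upS_coe upS_add upS_injective mem_upperSL)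

local notation "MC[" g "]" => Subgroup.map (MulEquiv.toMonoidHom (MulAut.conj g))

/-- The three possible kinds of `L/O_p(L)`. -/
def RankOneModel (p : ℕ) {X : Type*} [Group X] (P : Subgroup X) : Prop :=
  (∃ (F : Type) (_ : Field F) (_ : Fintype F),
      Nat.card P = Nat.card F ∧ Nonempty (X ≃* SL(2, F))) ∨
    (p = 2 ∧ ∃ (F : Type) (_ : Field F) (m : ℕ),
      CfsgLib.Suzuki.Hyp F m ∧ Nat.card P = Nat.card F ∧ Nonempty (X ≃* Cfsg.Sz F m)) ∨
    (p = 2 ∧ Nat.card P = 2)

/-- A group like `L/O_p(L)` with the image of `Y`. -/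
structure RankOnePair (p : ℕ) {X : Type*} [Group X] (P : Subgroup X) : Prop where
  elemAb : Cfsg.IsElementaryAbelian p P
  ne_bot : P ≠ ⊥
  normalizer_ne_top : normalizer (P : Set X) ≠ ⊤
  maximal : ∀ K : Subgroup X, P ≤ K → K ≠ ⊤ → K ≤ normalizer (P : Set X)
  closure : Subgroup.normalClosure (P : Set X) = ⊤
  core : Cfsg.pCore p X = ⊥
  model : RankOneModel p P

section elemAb

variable {X Y : Type*} [Group X] [Group Y] {p : ℕ}

theorem elemAb_map {V : Subgroup X} (h : Cfsg.IsElementaryAbelian p V) (f : X →* Y) :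
    Cfsg.IsElementaryAbelian p (V.map f) := by
  refine ⟨⟨⟨?_⟩⟩, ?_⟩
  · rintro ⟨_, a, ha, rfl⟩ ⟨_, b, hb, rfl⟩
    have := h.1
    have hab : a * b = b * a :=
      congrArg Subtype.val (mul_comm' (⟨a, ha⟩ : V) ⟨b, hb⟩)
    exact Subtype.ext (by simp [← map_mul, hab])
  · rintro _ ⟨a, ha, rfl⟩
    rw [← map_pow, h.2 a ha, map_one]

theorem map_normalizer_equiv (e : X ≃* Y) (P : Subgroup X) :
    (normalizer (P : Set X)).map e.toMonoidHom = normalizer ((P.map e.toMonoidHom : Subgroup Y) : Set Y) :=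
  Subgroup.map_normalizer_eq_of_bijective P (f := e.toMonoidHom) e.bijective

/-- A `p`-subgroup normalised by a Sylow subgroup lies in it. -/
theorem le_sylow_of_normalized [Finite X] [Fact p.Prime] (U : Sylow p X) {V : Subgroup X}
    (hV : IsPGroup p V) (hn : (U : Subgroup X) ≤ normalizer (V : Set X)) : V ≤ (U : Subgroup X) :=
  le_sup_right.trans (U.3 (IsPGroup.to_sup_of_normal_right' U.2 hV hn) le_sup_left).le

end elemAb

/-! ### The model `SL₂` -/

section SL

variable {F : Type*} [Field F] [Fintype F] {p : ℕ} [Fact p.Prime]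

theorem charP_of_card_eq {P : Subgroup (SL(2, F))} (hP : IsPGroup p P) (hc : Nat.card P = Nat.card F) :
    CharP F p := by
  obtain ⟨r, hr, hchar, hd⟩ := CfsgLib.SL2.exists_charP (F := F)
  obtain ⟨n, hn⟩ := hP.exists_card_eq
  rw [← hc, hn] at hd
  exact ((Nat.prime_dvd_prime_iff_eq hr Fact.out).1 (hr.dvd_of_dvd_pow hd)) ▸ hchar

variable [CharP F p]

theorem exists_conj_upperSL_eq {P : Subgroup (SL(2, F))} (hP : IsPGroup p P)
    (hc : Nat.card P = Nat.card F) : ∃ g, MC[g] P = (upperSL : Subgroup (SL(2, F))) := by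
  have hPc : Nat.card P = p ^ (Nat.card (SL(2, F))).factorization p := by
    rw [hc, ← CfsgLib.ClassicalLinear.card_upperSL, CfsgLib.ClassicalLinear.card_upperSL_eq_factorization]
  obtain ⟨g, hg⟩ := CfsgLib.ClassicalLinear.exists_conj_upperSL p (Sylow.ofCard P hPc)
  refine ⟨g⁻¹, eq_of_le_of_card_ge ?_ ?_⟩
  · rintro _ ⟨x, hx, rfl⟩
    have h1 := (hg x).1 (show x ∈ ((Sylow.ofCard P hPc : Sylow p (SL(2, F))) : Subgroup (SL(2, F))) by
      rw [Sylow.coe_ofCard]; exact hx)
    simpa using h1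
  · rw [card_map_conj, hc, CfsgLib.ClassicalLinear.card_upperSL]

omit [Fact p.Prime] in
theorem exists_sq_sub_sq (hp : p.Prime) (z : F) : ∃ a b : F, z = a ^ 2 - b ^ 2 := by
  by_cases h2 : (2 : F) = 0
  · have hp2 : ringChar F = 2 := by
      have h : CharP F 2 := CharTwo.of_one_ne_zero_of_two_eq_zero one_ne_zero h2
      exact ringChar.eq F 2
    obtain ⟨a, ha⟩ := FiniteField.isSquare_of_char_two hp2 z
    exact ⟨a, 0, by rw [ha]; ring⟩
  · exact ⟨(z + 1) / 2, (z - 1) / 2, by field_simp; ring⟩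

theorem upperSL_eq_of_normalized {V : Subgroup (SL(2, F))} (hV : IsPGroup p V) (hne : V ≠ ⊥)
    (hn : normalizer ((upperSL : Subgroup (SL(2, F))) : Set (SL(2, F))) ≤ normalizer (V : Set (SL(2, F)))) :
    V = upperSL := by
  have hUV : V ≤ upperSL := le_sylow_of_normalized (CfsgLib.ClassicalLinear.upperSLSylow p) hV
    (le_normalizer.trans hn)
  refine le_antisymm hUV ?_
  obtain ⟨⟨v, hv⟩, hv'⟩ := Subgroup.ne_bot_iff_exists_ne_one.1 hne
  have hv1 : v ≠ 1 := fun e => hv' (Subtype.ext e)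
  obtain ⟨x, rfl⟩ := hUV hv
  have hx : x ≠ 0 := fun e => hv1 (by rw [e, CfsgLib.SL2.upS_zero])
  have hsq : ∀ a : F, upS (a ^ 2 * x) ∈ V := by
    intro a
    by_cases ha : a = 0
    · simp [ha, CfsgLib.SL2.upS_zero]
    · have hd : CfsgLib.SL2.diag (Units.mk0 a ha) ∈ normalizer (V : Set (SL(2, F))) :=
        hn (by rw [CfsgLib.SL2Gen.normalizer_upperSL]; exact CfsgLib.SL2.diag_mem_borel _)
      have h := (Subgroup.mem_normalizer_iff.1 hd _).1 hv
      rwa [CfsgLib.SL2.conj_diag_upS, Units.val_mk0] at h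
  rintro _ ⟨y, rfl⟩
  obtain ⟨a, b, hab⟩ := exists_sq_sub_sq (p := p) Fact.out (y / x)
  have h1 : y = a ^ 2 * x - b ^ 2 * x := by
    rw [← sub_mul, ← hab, div_mul_cancel₀ _ hx]
  have h2 : upS y * upS (b ^ 2 * x) = upS (a ^ 2 * x) := by rw [← upS_add, h1, sub_add_cancel]
  rw [eq_mul_inv_of_mul_eq h2]
  exact V.mul_mem (hsq a) (V.inv_mem (hsq b))

end SL

/-! ### The model `Sz` -/

section Sz

variable {F : Type*} [Field F] {m : ℕ}

theorem le_Z_of_elemAb (h : CfsgLib.Suzuki.Hyp F m) {V : Subgroup (Cfsg.Sz F m)}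
    (hV : Cfsg.IsElementaryAbelian 2 V) (hVU : V ≤ h.U) : V ≤ h.Z := by
  intro v hv
  obtain ⟨a, b, rfl⟩ := hVU hv
  have h2 := hV.2 _ hv
  rw [pow_two, h.u_sq] at h2
  have h3 := (h.u_injective (h2.trans h.u_zero.symm)).2
  rcases mul_eq_zero.1 h3 with h4 | h4
  · rw [CfsgLib.Suzuki.th_eq_zero_iff.1 h4]
    exact ⟨b, rfl⟩
  · exact ⟨b, by rw [h4]⟩

theorem exists_conj_Z_eq (h : CfsgLib.Suzuki.Hyp F m) {P : Subgroup (Cfsg.Sz F m)}
    (hP : Cfsg.IsElementaryAbelian 2 P) (hc : Nat.card P = Nat.card F) : ∃ g, MC[g] P = h.Z := by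
  have := h.finite_group
  have : Fact (Nat.Prime 2) := ⟨Nat.prime_two⟩
  obtain ⟨S, hS⟩ := (isPGroup_of_elemAb hP).exists_le_sylow
  obtain ⟨g, hg⟩ := h.exists_sylow_eq S
  refine ⟨g⁻¹, eq_of_le_of_card_ge (le_Z_of_elemAb h (elemAb_map hP _) ?_) ?_⟩
  · rintro _ ⟨x, hx, rfl⟩
    have h1 := hS hx
    rw [hg, Subgroup.mem_pointwise_smul_iff_inv_smul_mem] at h1
    simpa [MulAut.smul_def] using h1
  · rw [card_map_conj, hc, h.card, h.card_Z]

theorem Z_eq_of_normalized (h : CfsgLib.Suzuki.Hyp F m) {V : Subgroup (Cfsg.Sz F m)}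
    (hV : Cfsg.IsElementaryAbelian 2 V) (hne : V ≠ ⊥)
    (hn : normalizer (h.Z : Set (Cfsg.Sz F m)) ≤ normalizer (V : Set (Cfsg.Sz F m))) :
    V = h.Z := by
  have := h.finite_group
  have : Fact (Nat.Prime 2) := ⟨Nat.prime_two⟩
  have hUZ : h.U ≤ normalizer (h.Z : Set (Cfsg.Sz F m)) := by
    refine fun g hg => mem_normalizer_of_map_conj_le ?_
    rintro _ ⟨_, ⟨b, rfl⟩, rfl⟩
    obtain ⟨c, e, rfl⟩ := hg
    refine ⟨b, ?_⟩
    show h.u c e * h.u 0 b * (h.u c e)⁻¹ = _
    rw [(h.u_comm_iff c e 0 b).2 (by simp), mul_inv_cancel_right]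
  have hd : ∀ t, h.d t ∈ normalizer (h.Z : Set (Cfsg.Sz F m)) := by
    intro t
    refine mem_normalizer_of_map_conj_le ?_
    rintro _ ⟨_, ⟨b, rfl⟩, rfl⟩
    exact ⟨CfsgLib.Suzuki.th m (CfsgLib.Suzuki.kap m t) * CfsgLib.Suzuki.kap m t * b,
      (h.d_u t 0 b).trans (by rw [mul_zero])⟩
  have hVU : V ≤ h.U := by
    have h1 := le_sylow_of_normalized h.sylU (isPGroup_of_elemAb hV)
      (by rw [h.sylU_coe]; exact hUZ.trans hn)
    rwa [h.sylU_coe] at h1
  have hVZ := le_Z_of_elemAb h hV hVU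
  refine le_antisymm hVZ ?_
  obtain ⟨⟨v, hv⟩, hv'⟩ := Subgroup.ne_bot_iff_exists_ne_one.1 hne
  have hv1 : v ≠ 1 := fun e => hv' (Subtype.ext e)
  obtain ⟨b, rfl⟩ := hVZ hv
  have hb : b ≠ 0 := fun e => hv1 (by rw [e, h.u_zero])
  rintro _ ⟨y, rfl⟩
  by_cases hy : y = 0
  · rw [hy, h.u_zero]; exact one_mem _
  obtain ⟨κ, hκ⟩ := h.th_mul_self_bijective.2 (y / b)
  simp only at hκ
  have hκ0 : κ ≠ 0 := fun e => div_ne_zero hy hb (by rw [← hκ, e, mul_zero])
  obtain ⟨t, ht⟩ := h.exists_kap hκ0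
  have h1 := (Subgroup.mem_normalizer_iff.1 (hn (hd t)) _).1 hv
  rwa [h.d_u, mul_zero, ht, hκ, div_mul_cancel₀ _ hb] at h1

end Sz

/-! ### Consequences -/

section pair

variable {X : Type*} [Group X] [Finite X] {p : ℕ} [Fact p.Prime] {P : Subgroup X}

/-- The structure when `|P| = 2`. -/
theorem RankOnePair.two_structure (hP : RankOnePair p P) (hp : p = 2) (hc : Nat.card P = 2) :
    ∃ t s : X, orderOf t = 2 ∧ orderOf s = 2 ∧ P = zpowers t ∧ Odd (orderOf (t * s)) ∧
      Subgroup.closure ({t, s} : Set X) = ⊤ ∧ normalizer (P : Set X) = P := by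
  subst hp
  obtain ⟨⟨t, htP⟩, ht⟩ := exists_prime_orderOf_dvd_card' (G := P) 2 (by rw [hc])
  rw [Subgroup.orderOf_mk] at ht
  have hPt : P = zpowers t := (eq_of_le_of_card_ge (zpowers_le.2 htP) (by rw [hc, Nat.card_zpowers, ht])).symm
  obtain ⟨g, hg⟩ : ∃ g, P ⊔ MC[g] P = ⊤ := by
    by_contra hne
    push Not at hne
    refine hP.normalizer_ne_top (eq_top_iff.2 ?_)
    rw [← hP.closure, Subgroup.normalClosure, Subgroup.closure_le]
    intro z hz
    obtain ⟨v, hv, hcv⟩ := Group.mem_conjugatesOfSet_iff.1 hz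
    obtain ⟨c, rfl⟩ := isConj_iff.1 hcv
    exact hP.maximal _ le_sup_left (hne c) (mem_sup_right ⟨v, hv, rfl⟩)
  set s := g * t * g⁻¹ with hs
  have hso : orderOf s = 2 := by rw [hs, CfsgLib.Involutions.orderOf_conj, ht]
  have hcl : Subgroup.closure ({t, s} : Set X) = ⊤ := by
    refine eq_top_iff.2 (hg.ge.trans (sup_le ?_ ?_))
    · rw [hPt, zpowers_le]; exact Subgroup.subset_closure (by simp)
    · rw [hPt, MonoidHom.map_zpowers, zpowers_le]
      exact Subgroup.subset_closure (by simp [hs])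
  have hodd : Odd (orderOf (t * s)) := by
    by_contra heven
    rw [Nat.not_odd_iff_even] at heven
    obtain ⟨j, hj⟩ := heven
    have hpos := orderOf_pos (t * s)
    set z := (t * s) ^ j with hz
    have hz2 : z * z = 1 := by rw [hz, ← pow_add, ← hj, pow_orderOf_eq_one]
    have hz1 : z ≠ 1 := pow_ne_one_of_lt_orderOf (by omega) (by omega)
    have hzinv : t * z * t⁻¹ = z := by
      rw [hz, ← conj_pow, CfsgLib.Involutions.conj_mul_eq_inv ht hso, inv_pow, ← hz]
      exact inv_eq_of_mul_eq_one_left hz2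
    have hzt : z * t = t * z := by
      calc z * t = t * z * t⁻¹ * t := by rw [hzinv]
        _ = t * z := by group
    have hzc : z ∈ center X := mem_center_iff.2 fun x => by
      have hx : x ∈ centralizer ({z} : Set X) := by
        refine (Subgroup.closure_le _).2 ?_ (hcl.ge (mem_top x))
        rintro w (rfl | rfl)
        · exact mem_centralizer_singleton_iff.2 hzt.symm
        · refine mem_centralizer_singleton_iff.2 ?_
          have : s = t⁻¹ * (t * s) := by group
          rw [this, mul_assoc, (Commute.refl (t * s)).pow_right j |>.eq, ← hz, ← mul_assoc,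
            CfsgLib.Involutions.inv_eq_self ht, ← hzt]
          group
      exact mem_centralizer_singleton_iff.1 hx
    have hn : (zpowers z).Normal := ⟨fun a ha b => by
      rw [(mem_center_iff.1 ((zpowers_le.2 hzc) ha) b), mul_inv_cancel_right]; exact ha⟩
    have := CfsgLib.Cores.le_pCore (p := 2) (hN := hn) (IsPGroup.of_card (n := 1) (by
      rw [Nat.card_zpowers, (CfsgLib.Involutions.orderOf_eq_two_iff).2 ⟨hz2, hz1⟩, pow_one]))
    rw [hP.core, le_bot_iff, zpowers_eq_bot] at this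
    exact hz1 this
  refine ⟨t, s, ht, hso, hPt, hodd, hcl, le_antisymm (fun x hx => ?_) le_normalizer⟩
  have hxt : x * t * x⁻¹ = t := by
    have h1 := (Subgroup.mem_normalizer_iff.1 hx t).1 htP
    rw [hPt, mem_zpowers_iff] at h1
    obtain ⟨k, hk⟩ := h1
    rcases Int.even_or_odd k with ⟨i, rfl⟩ | ⟨i, rfl⟩
    · rw [← two_mul, zpow_mul] at hk
      rw [show t ^ (2 : ℤ) = 1 by rw [zpow_two]; exact CfsgLib.Involutions.mul_self_eq_one ht, one_zpow] at hk
      have : x * t * x⁻¹ = 1 := hk.symm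
      rw [mul_inv_eq_one, mul_eq_left] at this
      exact absurd this (CfsgLib.Involutions.ne_one ht)
    · rw [← hk, zpow_add, zpow_mul, show t ^ (2 : ℤ) = 1 by
        rw [zpow_two]; exact CfsgLib.Involutions.mul_self_eq_one ht, one_zpow, one_mul, zpow_one]
  obtain ⟨k, hk⟩ := CfsgLib.Involutions.mem_closure_pair ht hso (hcl.ge (mem_top x))
  have h2 : (t * s) ^ (2 * k) = 1 := by
    rcases hk with rfl | rfl
    · rw [CfsgLib.Involutions.conj_left_by_zpow ht hso, mul_eq_right] at hxt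
      exact hxt
    · rw [CfsgLib.Involutions.conj_left_by_zpow_mul ht hso, mul_eq_right] at hxt
      exact hxt
  have h3 : (t * s) ^ k = 1 := by
    rw [← orderOf_dvd_iff_zpow_eq_one] at h2 ⊢
    refine Int.dvd_of_dvd_mul_right_of_gcd_one h2 ?_
    exact_mod_cast Nat.coprime_iff_gcd_eq_one.1 (Nat.coprime_two_right.2 hodd)
  rw [hPt]
  rcases hk with rfl | rfl <;> rw [h3]
  · exact one_mem _
  · rw [one_mul]; exact mem_zpowers t

/-- An elementary abelian normal subgroup of `N(P)` is `P`. -/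
theorem RankOnePair.eq_of_normalized (hP : RankOnePair p P) {V : Subgroup X}
    (hV : Cfsg.IsElementaryAbelian p V) (hne : V ≠ ⊥) (hVN : V ≤ normalizer (P : Set X))
    (hn : normalizer (P : Set X) ≤ normalizer (V : Set X)) : V = P := by
  rcases hP.model with ⟨F, _, _, hc, ⟨e⟩⟩ | ⟨rfl, F, _, m, h, hc, ⟨e⟩⟩ | ⟨hp, hc⟩
  · set P' := P.map e.toMonoidHom with hP'
    have hP'p : IsPGroup p P' := (isPGroup_of_elemAb hP.elemAb).map _
    have hP'c : Nat.card P' = Nat.card F := by
      rw [hP', card_map_of_injective e.injective, hc]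
    haveI := charP_of_card_eq hP'p hP'c
    obtain ⟨g, hg⟩ := exists_conj_upperSL_eq hP'p hP'c
    have key : MC[g] (V.map e.toMonoidHom) = upperSL := by
      refine upperSL_eq_of_normalized (((isPGroup_of_elemAb hV).map _).map _) ?_ ?_
      · rwa [Ne, map_eq_bot_iff_of_injective _ (MulAut.conj g).injective,
          map_eq_bot_iff_of_injective _ e.injective]
      · rw [← hg, ← map_normalizer_equiv (MulAut.conj g), ← map_normalizer_equiv (MulAut.conj g),
          ← map_normalizer_equiv e, ← map_normalizer_equiv e]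
        exact map_mono (map_mono hn)
    rw [← hg] at key
    exact Subgroup.map_injective e.injective (Subgroup.map_injective (MulAut.conj g).injective key)
  · set P' := P.map e.toMonoidHom with hP'
    have hP'c : Nat.card P' = Nat.card F := by
      rw [hP', card_map_of_injective e.injective, hc]
    obtain ⟨g, hg⟩ := exists_conj_Z_eq h (elemAb_map hP.elemAb e.toMonoidHom) hP'c
    have key : MC[g] (V.map e.toMonoidHom) = h.Z := by
      refine Z_eq_of_normalized h (elemAb_map (elemAb_map hV _) _) ?_ ?_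
      · rwa [Ne, map_eq_bot_iff_of_injective _ (MulAut.conj g).injective,
          map_eq_bot_iff_of_injective _ e.injective]
      · rw [← hg, ← map_normalizer_equiv (MulAut.conj g), ← map_normalizer_equiv (MulAut.conj g),
          ← map_normalizer_equiv e, ← map_normalizer_equiv e]
        exact map_mono (map_mono hn)
    rw [← hg] at key
    exact Subgroup.map_injective e.injective (Subgroup.map_injective (MulAut.conj g).injective key)
  · obtain ⟨t, s, -, -, -, -, -, hN⟩ := hP.two_structure hp hc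
    rw [hN] at hVN
    refine eq_of_le_of_card_ge hVN ?_
    rw [hc]
    exact (Subgroup.one_lt_card_iff_ne_bot V).2 hne

/-- Two subgroups like `P` of a common `p`-group are equal. -/
theorem RankOnePair.eq_of_le_pGroup (hP : RankOnePair p P) {V W : Subgroup X}
    (hV : Cfsg.IsElementaryAbelian p V) (hc : Nat.card V = Nat.card P) (hW : IsPGroup p W)
    (hPW : P ≤ W) (hVW : V ≤ W) : V = P := by
  rcases hP.model with ⟨F, _, _, hcF, ⟨e⟩⟩ | ⟨rfl, F, _, m, h, hcF, ⟨e⟩⟩ | ⟨hp, hc2⟩
  · set P' := P.map e.toMonoidHom with hP'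
    have hP'p : IsPGroup p P' := (isPGroup_of_elemAb hP.elemAb).map _
    have hP'c : Nat.card P' = Nat.card F := by
      rw [hP', card_map_of_injective e.injective, hcF]
    haveI := charP_of_card_eq hP'p hP'c
    have hle : Nat.card W ≤ Nat.card P := by
      obtain ⟨S, hS⟩ := (hW.map e.toMonoidHom).exists_le_sylow
      calc Nat.card W = Nat.card (W.map e.toMonoidHom) := (card_map_of_injective e.injective).symm
        _ ≤ Nat.card (S : Subgroup (SL(2, F))) := Nat.le_of_dvd Nat.card_pos (card_dvd_of_le hS)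
        _ = Nat.card P := by
          rw [S.card_eq_multiplicity, ← CfsgLib.ClassicalLinear.card_upperSL_eq_factorization,
            CfsgLib.ClassicalLinear.card_upperSL, hcF]
    rw [eq_of_le_of_card_ge hPW hle]
    exact eq_of_le_of_card_ge hVW (hc.symm ▸ hle)
  · haveI := h.finite_group
    obtain ⟨S, hS⟩ := (hW.map e.toMonoidHom).exists_le_sylow
    obtain ⟨g, hg⟩ := h.exists_sylow_eq S
    have key : ∀ A : Subgroup X, Cfsg.IsElementaryAbelian 2 A → Nat.card A = Nat.card P → A ≤ W →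
        MC[g⁻¹] (A.map e.toMonoidHom) = h.Z := by
      intro A hA hAc hAW
      refine eq_of_le_of_card_ge (le_Z_of_elemAb h (elemAb_map (elemAb_map hA _) _) ?_) ?_
      · rintro _ ⟨x, hx, rfl⟩
        have h1 := hS (map_mono hAW hx)
        rw [hg, Subgroup.mem_pointwise_smul_iff_inv_smul_mem] at h1
        simpa [MulAut.smul_def] using h1
      · rw [card_map_conj, card_map_of_injective e.injective, hAc, hcF, h.card, h.card_Z]
    exact Subgroup.map_injective e.injective (Subgroup.map_injective (MulAut.conj g⁻¹).injective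
      ((key V hV hc hVW).trans (key P hP.elemAb rfl hPW).symm))
  · obtain ⟨t, s, -, -, -, -, -, hN⟩ := hP.two_structure hp hc2
    have hWP : W ≤ P := by
      by_contra hne
      haveI : Group.IsNilpotent W := hW.isNilpotent
      have hlt : P.subgroupOf W < ⊤ := lt_top_iff_ne_top.2 fun e => hne (subgroupOf_eq_top.1 e)
      obtain ⟨x, hx, hxn⟩ := SetLike.exists_of_lt (Group.normalizerCondition_of_isNilpotent _ hlt)
      refine hxn (hN.le (Subgroup.mem_normalizer_iff.2 fun y => ?_))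
      constructor
      · intro hy
        exact (Subgroup.mem_normalizer_iff.1 hx ⟨y, hPW hy⟩).1 hy
      · intro hy
        have hyW : y ∈ W := by
          have h1 := W.mul_mem (W.mul_mem (W.inv_mem x.2) (hPW hy)) x.2
          simpa [mul_assoc] using h1
        exact (Subgroup.mem_normalizer_iff.1 hx ⟨y, hyW⟩).2 hy
    exact eq_of_le_of_card_ge (hVW.trans hWP) hc.ge

/-- Two distinct conjugates of `P` generate. -/
theorem RankOnePair.sup_conj_eq_top (hP : RankOnePair p P) {g : X} (hg : MC[g] P ≠ P) :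
    P ⊔ MC[g] P = ⊤ := by
  by_contra hne
  have h1 := hP.maximal _ le_sup_left hne
  refine hg (hP.eq_of_le_pGroup (elemAb_map hP.elemAb _) (card_map_conj P g)
    (IsPGroup.to_sup_of_normal_left' (isPGroup_of_elemAb hP.elemAb)
      ((isPGroup_of_elemAb hP.elemAb).map _) (le_sup_right.trans h1)) le_sup_left le_sup_right)

end pair

end CfsgLib.LargeSubgroups
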