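import Cfsg.Agent.Lib.LargeSubgroups.RankOneElements
import Cfsg.Agent.Lib.LargeSubgroups.FactorAction

/-!
Fixed points on the spread `A = D × E` of a group like `L/Z` for `L ∈ 𝔏`.
-/

set_option autoImplicit false

namespace CfsgLib.LargeSubgroups

open Subgroup CfsgLib.FFModules
open scoped commutatorElement MatrixGroups
open CfsgLib.ClassicalLinear (upS upperSL upS_coe upS_add upS_injective mem_upperSL)

local notation "MC[" g "]" => Subgroup.map (MulEquiv.toMonoidHom (MulAut.conj g))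

/-- `Γ` like `L/(Y ⊓ C(L))` with `A` the image of `O_p(L)` and `π` the map onto `L/O_p(L)`. -/
structure IsSpread (p : ℕ) {Γ X : Type*} [Group Γ] [Group X] (Y : Subgroup Γ) (π : Γ →* X) : Prop where
  elemAb : Cfsg.IsElementaryAbelian p Y
  surj : Function.Surjective π
  ker_le_normalizer : π.ker ≤ normalizer (Y : Set Γ)
  ker_le_closure : π.ker ≤ normalClosure ((π.ker ⊓ Y : Subgroup Γ) : Set Γ)
  maximal : ∀ K : Subgroup Γ, Y ≤ K → K ≠ ⊤ → K ≤ normalizer (Y : Set Γ)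
  normalizer_ne_top : normalizer (Y : Set Γ) ≠ ⊤
  center_inf : Subgroup.center Γ ⊓ Y = ⊥
  pair : RankOnePair p (Y.map π)

section SL

variable {F : Type*} [Field F]

/-- The Weyl element of `SL₂`. -/
def weylS : SL(2, F) := ⟨!![0, -1; 1, 0], by simp [Matrix.det_fin_two_of]⟩

theorem weylS_coe : ((weylS : SL(2, F)) : Matrix (Fin 2) (Fin 2) F) = !![0, -1; 1, 0] := rfl

theorem weylS_conj_upS (t : F) :
    (weylS : SL(2, F)) * upS t = CfsgLib.SL2Gen.lowS (-t) * weylS := by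
  apply Subtype.ext
  rw [Matrix.SpecialLinearGroup.coe_mul weylS (upS t),
    Matrix.SpecialLinearGroup.coe_mul (CfsgLib.SL2Gen.lowS (-t)) weylS, upS_coe, weylS_coe,
    CfsgLib.SL2Gen.lowS_coe]
  ext i j
  fin_cases i <;> fin_cases j <;> simp [Matrix.mul_apply]

/-- A noncentral element has a conjugate outside the Borel subgroup. -/
theorem exists_conj_notMem_borel [Finite F] {M : SL(2, F)} (hM : M ∉ Subgroup.center (SL(2, F))) :
    ∃ k : SL(2, F), ((k * M * k⁻¹ : SL(2, F)) : Matrix (Fin 2) (Fin 2) F) 1 0 ≠ 0 := by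
  by_contra hcon
  push Not at hcon
  have h10 := hcon 1
  simp only [one_mul, inv_one, mul_one] at h10
  have h01 : (M : Matrix (Fin 2) (Fin 2) F) 0 1 = 0 := by
    have h := hcon weylS
    rw [Matrix.SpecialLinearGroup.coe_mul, Matrix.SpecialLinearGroup.coe_mul,
      Matrix.SpecialLinearGroup.coe_inv, weylS_coe, Matrix.adjugate_fin_two] at h
    simpa [Matrix.mul_apply, Fin.sum_univ_two, Matrix.vecMul, dotProduct] using h
  have hd : (M : Matrix (Fin 2) (Fin 2) F) 0 0 = (M : Matrix (Fin 2) (Fin 2) F) 1 1 := by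
    have h := hcon (CfsgLib.SL2Gen.lowS 1)
    rw [Matrix.SpecialLinearGroup.coe_mul, Matrix.SpecialLinearGroup.coe_mul,
      Matrix.SpecialLinearGroup.coe_inv, CfsgLib.SL2Gen.lowS_coe, Matrix.adjugate_fin_two] at h
    simp [Matrix.mul_apply, Fin.sum_univ_two, Matrix.vecMul, dotProduct, h10, h01] at h
    linear_combination h
  exact hM ((CfsgLib.SL2.mem_center_iff_isScalarMat M).2 ⟨h01, h10, hd⟩)

end SL

variable {Γ X : Type*} [Group Γ] [Finite Γ] [Group X] [Finite X] {p : ℕ} [Fact p.Prime]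
  {Y : Subgroup Γ} {π : Γ →* X}

namespace IsSpread

variable (hS : IsSpread p Y π)

include hS

theorem map_conj_image (g : Γ) : (MC[g] Y).map π = MC[π g] (Y.map π) := by
  rw [Subgroup.map_map, Subgroup.map_map]
  congr 1
  ext x
  simp

theorem sup_conj_eq_top {g : Γ} (hg : MC[π g] (Y.map π) ≠ Y.map π) : Y ⊔ MC[g] Y = ⊤ := by
  by_contra hne
  have h1 := hS.pair.sup_conj_eq_top hg
  have hK := hS.maximal _ le_sup_left hne
  refine hS.normalizer_ne_top (eq_top_iff.2 fun x _ => ?_)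
  obtain ⟨k, hk, hkx⟩ : π x ∈ (Y ⊔ MC[g] Y).map π := by
    rw [Subgroup.map_sup, hS.map_conj_image, h1]; trivial
  have hx : k⁻¹ * x ∈ π.ker := by rw [MonoidHom.mem_ker, map_mul, map_inv, hkx, inv_mul_cancel]
  simpa using mul_mem (hK hk) (hS.ker_le_normalizer hx)

theorem exists_opposite : ∃ g : Γ, MC[π g] (Y.map π) ≠ Y.map π := by
  by_contra h
  push Not at h
  refine hS.pair.normalizer_ne_top (eq_top_iff.2 fun x _ => ?_)
  obtain ⟨g, rfl⟩ := hS.surj x
  exact mem_normalizer_of_map_conj_eq (h g)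

theorem inf_conj_center (g : Γ) : Subgroup.center Γ ⊓ MC[g] Y = ⊥ := by
  refine eq_bot_iff.2 fun z hz => ?_
  obtain ⟨y, hy, hyz⟩ := hz.2
  have hyz' : g * y * g⁻¹ = z := hyz
  have hcomm : g⁻¹ * z * g = z := by
    rw [mul_assoc, ← (mem_center_iff.1 hz.1 g), ← mul_assoc, inv_mul_cancel, one_mul]
  have : y = z := by rw [← hcomm, ← hyz']; group
  exact hS.center_inf.le ⟨hz.1, this ▸ hy⟩

theorem commute_of_mem {a b : Γ} (ha : a ∈ Y) (hb : b ∈ Y) : Commute a b := by
  have := hS.elemAb.1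
  exact congrArg Subtype.val (mul_comm' (⟨a, ha⟩ : Y) ⟨b, hb⟩)

theorem commute_of_mem_conj {a b g : Γ} (ha : a ∈ MC[g] Y) (hb : b ∈ MC[g] Y) : Commute a b := by
  obtain ⟨a', ha', rfl⟩ := ha
  obtain ⟨b', hb', rfl⟩ := hb
  exact (hS.commute_of_mem ha' hb').map (MulAut.conj g).toMonoidHom

/-- An element commuting with two generating conjugates is central. -/
theorem mem_center_of_commute {g : Γ} (hg : Y ⊔ MC[g] Y = ⊤) {z : Γ} (h1 : ∀ y ∈ Y, Commute z y)
    (h2 : ∀ y ∈ MC[g] Y, Commute z y) : z ∈ Subgroup.center Γ := by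
  refine mem_center_iff.2 fun x => ?_
  have hx : x ∈ centralizer ({z} : Set Γ) := by
    have : Y ⊔ MC[g] Y ≤ centralizer ({z} : Set Γ) := sup_le
      (fun y hy => mem_centralizer_singleton_iff.2 (h1 y hy).eq.symm)
      (fun y hy => mem_centralizer_singleton_iff.2 (h2 y hy).eq.symm)
    exact this (hg.ge (mem_top x))
  exact mem_centralizer_singleton_iff.1 hx

theorem commutator_ker_le : ⁅Y, π.ker⁆ ≤ π.ker ⊓ Y := by
  refine le_inf (le_trans (le_of_eq (commutator_comm _ _))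
    (Subgroup.commutator_le_left _ _)) (le_normalizer_iff_commutator_le_left.1 hS.ker_le_normalizer)

theorem map_conj_ker (g : Γ) : MC[g] π.ker = π.ker :=
  map_conj_eq_self (by rw [normalizer_eq_top]; trivial)

theorem inf_conj_eq_map (g : Γ) : π.ker ⊓ MC[g] Y = MC[g] (π.ker ⊓ Y) := by
  rw [map_inf _ _ _ (MulAut.conj g).injective, hS.map_conj_ker g]

theorem ker_eq_sup {g : Γ} (hg : Y ⊔ MC[g] Y = ⊤) : π.ker = (π.ker ⊓ Y) ⊔ (π.ker ⊓ MC[g] Y) := by
  refine le_antisymm (hS.ker_le_closure.trans ?_) (sup_le inf_le_left inf_le_left)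
  set K := (π.ker ⊓ Y) ⊔ (π.ker ⊓ MC[g] Y)
  have hKA : K ≤ π.ker := sup_le inf_le_left inf_le_left
  have h1 : Y ≤ normalizer (K : Set Γ) :=
    le_normalizer_of_commutator_le hKA (hS.commutator_ker_le.trans le_sup_left)
  have h2 : MC[g] Y ≤ normalizer (K : Set Γ) := by
    refine le_normalizer_of_commutator_le hKA (le_trans ?_ le_sup_right)
    have h := map_mono (f := (MulAut.conj g).toMonoidHom) hS.commutator_ker_le
    rwa [map_commutator, hS.map_conj_ker g, ← hS.inf_conj_eq_map] at h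
  haveI : K.Normal := normalizer_eq_top_iff.1 (eq_top_iff.2 (hg.ge.trans (sup_le h1 h2)))
  exact normalClosure_le_normal (N := K) (fun _ h => mem_sup_left h)

theorem inf_inf_eq_bot {g : Γ} (hg : Y ⊔ MC[g] Y = ⊤) {z : Γ} (h1 : z ∈ Y) (h2 : z ∈ MC[g] Y) :
    z = 1 :=
  hS.center_inf.le ⟨hS.mem_center_of_commute hg (fun y hy => hS.commute_of_mem h1 hy)
    (fun y hy => hS.commute_of_mem_conj h2 hy), h1⟩

theorem exists_mul_of_mem_ker {g : Γ} (hg : Y ⊔ MC[g] Y = ⊤) {a : Γ} (ha : a ∈ π.ker) :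
    ∃ d ∈ π.ker ⊓ Y, ∃ e ∈ π.ker ⊓ MC[g] Y, a = d * e := by
  have hn : π.ker ⊓ MC[g] Y ≤ normalizer ((π.ker ⊓ Y : Subgroup Γ) : Set Γ) :=
    inf_le_left.trans (le_normalizer_inf_of le_normalizer hS.ker_le_normalizer)
  have h : a ∈ (((π.ker ⊓ Y) ⊔ (π.ker ⊓ MC[g] Y) : Subgroup Γ) : Set Γ) := (hS.ker_eq_sup hg).le ha
  rw [coe_mul_of_right_le_normalizer_left _ _ hn] at h
  obtain ⟨d, hd, e, he, rfl⟩ := h
  exact ⟨d, hd, e, he, rfl⟩

theorem commute_ker {a b : Γ} (ha : a ∈ π.ker) (hb : b ∈ π.ker) : Commute a b := by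
  obtain ⟨g, hg'⟩ := hS.exists_opposite
  have hg := hS.sup_conj_eq_top hg'
  have hDE : ∀ d ∈ π.ker ⊓ Y, ∀ e ∈ π.ker ⊓ MC[g] Y, Commute d e := by
    intro d hd e he
    obtain ⟨e', he', hee⟩ := he.2
    have hn : d ∈ normalizer ((MC[g] Y : Subgroup Γ) : Set Γ) := by
      have h := map_mono (f := (MulAut.conj g).toMonoidHom) hS.ker_le_normalizer
      rw [hS.map_conj_ker g] at h
      exact (h.trans (le_normalizer_map _)) hd.1
    refine commutatorElement_eq_one_iff_mul_comm.1 (hS.inf_inf_eq_bot hg ?_ ?_)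
    · rw [commutatorElement_def, show d * e * d⁻¹ * e⁻¹ = d * (e * d⁻¹ * e⁻¹) by group]
      exact Y.mul_mem hd.2 ((Subgroup.mem_normalizer_iff.1 (hS.ker_le_normalizer he.1) _).1 (Y.inv_mem hd.2))
    · exact (MC[g] Y).mul_mem ((Subgroup.mem_normalizer_iff.1 hn e).1 he.2) ((MC[g] Y).inv_mem he.2)
  obtain ⟨d, hd, e, he, rfl⟩ := hS.exists_mul_of_mem_ker hg ha
  obtain ⟨d', hd', e', he', rfl⟩ := hS.exists_mul_of_mem_ker hg hb
  refine Commute.mul_left ?_ ?_
  · exact (hS.commute_of_mem hd.2 hd'.2).mul_right (hDE d hd e' he')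
  · exact (hDE d' hd' e he).symm.mul_right (hS.commute_of_mem_conj he.2 he'.2)

theorem pow_eq_one_of_mem_ker {a : Γ} (ha : a ∈ π.ker) : a ^ p = 1 := by
  obtain ⟨g, hg'⟩ := hS.exists_opposite
  obtain ⟨d, hd, e, he, rfl⟩ := hS.exists_mul_of_mem_ker (hS.sup_conj_eq_top hg') ha
  obtain ⟨e', he', rfl⟩ := he.2
  rw [(hS.commute_ker hd.1 he.1).mul_pow, hS.elemAb.2 d hd.2, ← map_pow, hS.elemAb.2 e' he', map_one,
    one_mul]

theorem mem_of_fixed {a : Γ} (ha : a ∈ π.ker) (h : ∀ y ∈ Y, Commute a y) : a ∈ Y := by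
  obtain ⟨g, hg'⟩ := hS.exists_opposite
  have hg := hS.sup_conj_eq_top hg'
  obtain ⟨d, hd, e, he, rfl⟩ := hS.exists_mul_of_mem_ker hg ha
  have he1 : e ∈ Subgroup.center Γ := hS.mem_center_of_commute hg
    (fun y hy => by simpa using ((hS.commute_of_mem hd.2 hy).inv_left).mul_left (h y hy))
    (fun y hy => hS.commute_of_mem_conj he.2 hy)
  rw [(hS.inf_conj_center g).le ⟨he1, he.2⟩, mul_one]
  exact hd.2

/-- The stabiliser of a nontrivial element of `D` normalises `Y`. -/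
theorem mem_normalizer_of_commute {v : Γ} (hv : v ∈ π.ker ⊓ Y) (hv1 : v ≠ 1) {x : Γ}
    (hx : Commute x v) : x ∈ normalizer (Y : Set Γ) := by
  refine hS.maximal (centralizer ({v} : Set Γ))
    (fun y hy => mem_centralizer_singleton_iff.2 (hS.commute_of_mem hy hv.2).eq) (fun e => hv1 ?_)
    (mem_centralizer_singleton_iff.2 hx.eq)
  exact hS.center_inf.le ⟨mem_center_iff.2 fun g =>
    mem_centralizer_singleton_iff.1 (e.ge (mem_top g)), hv.2⟩

theorem mem_normalizer_conj_of_commute {k v : Γ} (hv : v ∈ π.ker ⊓ MC[k] Y) (hv1 : v ≠ 1) {x : Γ}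
    (hx : Commute x v) : π x ∈ normalizer ((MC[π k] (Y.map π) : Subgroup X) : Set X) := by
  rw [hS.inf_conj_eq_map] at hv
  obtain ⟨v₀, hv₀, rfl⟩ := hv
  have h1 : Commute (k⁻¹ * x * k) v₀ := by
    have h := hx.map (MulAut.conj k⁻¹).toMonoidHom
    simpa [mul_assoc] using h
  have h2 := hS.mem_normalizer_of_commute hv₀ (fun e => hv1 (by simp [e])) h1
  have h3 : π (k⁻¹ * x * k) ∈ normalizer ((Y.map π : Subgroup X) : Set X) :=
    le_normalizer_map π (mem_map_of_mem π h2)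
  have h4 := mem_normalizer_map_conj (g := π k) h3
  simpa [mul_assoc] using h4

/-- A fixed point of a single element of `Y` outside the kernel lies in `Y`. -/
theorem mem_of_commute_single {g : Γ} (hg : MC[π g] (Y.map π) ≠ Y.map π) {y : Γ} (hy : y ∈ Y)
    (hy1 : π y ≠ 1) {e : Γ} (he : e ∈ π.ker ⊓ MC[g] Y) (hc : Commute y e) : e = 1 := by
  by_contra he1
  have h1 := hS.mem_normalizer_conj_of_commute he he1 hc
  set P := Y.map π with hP
  have hPp : IsPGroup p P := isPGroup_of_elemAb hS.pair.elemAb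
  set W := MC[π g] P ⊔ zpowers (π y) with hW
  have hzp : IsPGroup p (zpowers (π y)) := hPp.to_le (zpowers_le.2 (mem_map_of_mem π hy))
  have hWp : IsPGroup p W :=
    IsPGroup.to_sup_of_normal_left' (hPp.map _) hzp (zpowers_le.2 h1)
  have h2 : (π g)⁻¹ * π y * π g ∈ P := by
    refine hS.pair.mem_of_pow_eq_one (hWp.map (MulAut.conj (π g)⁻¹).toMonoidHom)
      (fun q hq => mem_map_conj_iff.2 ?_) (mem_map_conj_iff.2 ?_) ?_
    · rw [inv_inv]; exact mem_sup_left (conj_mem_map hq)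
    · rw [inv_inv]
      refine mem_sup_right ?_
      simp [mul_assoc]
    · rw [show (π g)⁻¹ * π y * π g = (π g)⁻¹ * π y * (π g)⁻¹⁻¹ by rw [inv_inv], conj_pow, ← map_pow,
        hS.elemAb.2 y hy, map_one, mul_one, mul_inv_cancel]
  have h3 : π y ∈ MC[π g] P := mem_map_conj_iff.2 h2
  have hgen := hS.pair.sup_conj_eq_top hg
  have hcomm := hS.pair.elemAb.1
  have hc1 : ∀ a ∈ P, ∀ b ∈ P, a * b = b * a := fun a ha b hb =>
    congrArg Subtype.val (mul_comm' (⟨a, ha⟩ : P) ⟨b, hb⟩)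
  have hzc : π y ∈ Subgroup.center X := mem_center_iff.2 fun x => by
    have hx : x ∈ centralizer ({π y} : Set X) := by
      have hle : P ⊔ MC[π g] P ≤ centralizer ({π y} : Set X) := sup_le
        (fun a ha => mem_centralizer_singleton_iff.2 (hc1 a ha _ (mem_map_of_mem π hy)))
        (by
          rintro _ ⟨a, ha, rfl⟩
          obtain ⟨b, hb, hbe⟩ := h3
          refine mem_centralizer_singleton_iff.2 ?_
          rw [← hbe, ← map_mul, hc1 a ha b hb, map_mul])
      exact hle (hgen.ge (mem_top x))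
    exact mem_centralizer_singleton_iff.1 hx
  have hn : (zpowers (π y)).Normal := ⟨fun a ha b => by
    rw [(mem_center_iff.1 ((zpowers_le.2 hzc) ha) b), mul_inv_cancel_right]; exact ha⟩
  have h4 := CfsgLib.Cores.le_pCore (p := p) (hN := hn) hzp
  rw [hS.pair.core, le_bot_iff, zpowers_eq_bot] at h4
  exact hy1 h4

theorem mem_of_commute_single' {y : Γ} (hy : y ∈ Y) (hy1 : π y ≠ 1) {a : Γ} (ha : a ∈ π.ker)
    (hc : Commute y a) : a ∈ Y := by
  obtain ⟨g, hg⟩ := hS.exists_opposite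
  obtain ⟨d, hd, e, he, rfl⟩ := hS.exists_mul_of_mem_ker (hS.sup_conj_eq_top hg) ha
  have h1 : Commute y e := by simpa using ((hS.commute_of_mem hy hd.2).inv_right).mul_right hc
  rw [hS.mem_of_commute_single hg hy hy1 he h1, mul_one]
  exact hd.2

theorem commute_of_map_eq {x x' a : Γ} (ha : a ∈ π.ker) (h : π x = π x') (hx : Commute x a) :
    Commute x' a := by
  have h1 : x⁻¹ * x' ∈ π.ker := by rw [MonoidHom.mem_ker, map_mul, map_inv, h, inv_mul_cancel]
  simpa using hx.mul_left (hS.commute_ker h1 ha)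

/-- A product of nontrivial elements from two opposite conjugates of `Y` fixes no element. -/
theorem eq_one_of_commute_product {g u l a : Γ} (hg : MC[π g] (Y.map π) ≠ Y.map π) (hu : u ∈ Y)
    (hu1 : π u ≠ 1) (hl : l ∈ MC[g] Y) (hl1 : π l ≠ 1) (ha : a ∈ π.ker)
    (hc : Commute (u * l) a) : a = 1 := by
  have hgg := hS.sup_conj_eq_top hg
  obtain ⟨d, hd, e, he, rfl⟩ := hS.exists_mul_of_mem_ker hgg ha
  set ε := l * d * l⁻¹ * d⁻¹ with hε
  have hεE : ε ∈ π.ker ⊓ MC[g] Y := by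
    have h := map_mono (f := (MulAut.conj g).toMonoidHom) hS.commutator_ker_le
    rw [map_commutator, hS.map_conj_ker g, ← hS.inf_conj_eq_map] at h
    exact h (commutator_mem_commutator hl hd.1)
  have hle : Commute l e := hS.commute_of_mem_conj hl he.2
  have hεe : ε * e ∈ π.ker ⊓ MC[g] Y := (π.ker ⊓ MC[g] Y).mul_mem hεE he
  set δ := u * (ε * e) * u⁻¹ * (ε * e)⁻¹ with hδ
  have hδD : δ ∈ π.ker ⊓ Y := hS.commutator_ker_le (commutator_mem_commutator hu hεe.1)
  have hl' : l * (d * e) * l⁻¹ = d * (ε * e) := by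
    calc l * (d * e) * l⁻¹ = (ε * d) * (l * e * l⁻¹) := by rw [hε]; group
      _ = (d * ε) * e := by rw [(hS.commute_ker hεE.1 hd.1).eq, hle.eq, mul_inv_cancel_right]
      _ = d * (ε * e) := mul_assoc _ _ _
  have h1 : (u * l) * (d * e) * (u * l)⁻¹ = d * δ * (ε * e) := by
    calc (u * l) * (d * e) * (u * l)⁻¹ = u * (l * (d * e) * l⁻¹) * u⁻¹ := by group
      _ = (u * d * u⁻¹) * (u * (ε * e) * u⁻¹) := by rw [hl']; group
      _ = d * (δ * (ε * e)) := by
        rw [(hS.commute_of_mem hu hd.2).eq, mul_inv_cancel_right, hδ, inv_mul_cancel_right]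
      _ = d * δ * (ε * e) := (mul_assoc _ _ _).symm
  rw [hc.eq, mul_inv_cancel_right, mul_assoc d δ, mul_right_inj, ← mul_assoc] at h1
  have h2 : δ * ε = 1 := (mul_eq_right.1 h1.symm)
  have h3 : δ = 1 := hS.inf_inf_eq_bot hgg hδD.2 (by
    rw [mul_eq_one_iff_eq_inv.1 h2]; exact (MC[g] Y).inv_mem hεE.2)
  have h4 : ε = 1 := by rwa [h3, one_mul] at h2
  have hue : Commute u e := by
    rw [hδ, h4, one_mul] at h3
    exact eq_mul_of_mul_inv_eq (mul_inv_eq_one.1 h3)
  have he1 : e = 1 := hS.mem_of_commute_single hg hu hu1 he hue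
  have hld : Commute l d := eq_mul_of_mul_inv_eq (mul_inv_eq_one.1 (hε.symm.trans h4))
  -- `d` is fixed by an element of the opposite conjugate
  have hd1 : d = 1 := by
    refine hS.inf_inf_eq_bot hgg hd.2 ?_
    obtain ⟨y, hy, rfl⟩ := hl
    have hy1 : π y ≠ 1 := fun e0 => hl1 (by simp [e0])
    have h5 : Commute y (g⁻¹ * d * g) := by
      have h := hld.map (MulAut.conj g⁻¹).toMonoidHom
      simpa [mul_assoc] using h
    have h6 : g⁻¹ * d * g ∈ π.ker := by
      have h := (π.normal_ker).conj_mem d hd.1 g⁻¹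
      rwa [inv_inv] at h
    exact mem_map_conj_iff.2 (hS.mem_of_commute_single' hy hy1 h6 h5)
  rw [he1, hd1, one_mul]

theorem eq_one_SL_noncentral {F : Type*} [Field F] [Fintype F] (e : X ≃* SL(2, F))
    (he : (Y.map π).map e.toMonoidHom = upperSL) {x a : Γ} (ha : a ∈ π.ker) (hc : Commute x a)
    (hnc : e (π x) ∉ Subgroup.center (SL(2, F))) (hnp : (π x) ^ p ≠ 1) : a = 1 := by
  obtain ⟨k, hk⟩ := exists_conj_notMem_borel hnc
  set M := k * e (π x) * k⁻¹ with hM
  set c := (M : Matrix (Fin 2) (Fin 2) F) 1 0 with hc'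
  set s₁ := ((M : Matrix (Fin 2) (Fin 2) F) 0 0 - 1) / c
  set s₂ := ((M : Matrix (Fin 2) (Fin 2) F) 1 1 - 1) / c
  have hdec : M = upS s₁ * CfsgLib.SL2Gen.lowS c * upS s₂ := CfsgLib.SL2Gen.eq_upS_lowS_upS hk
  obtain ⟨k', hk'⟩ := hS.surj (e.symm (upS s₂ * k))
  obtain ⟨g, hg⟩ := hS.surj (e.symm weylS)
  obtain ⟨_, ⟨u, hu, rfl⟩, hue⟩ := he.ge (⟨s₂ + s₁, rfl⟩ : upS (s₂ + s₁) ∈ upperSL)
  obtain ⟨_, ⟨y, hy, rfl⟩, hye⟩ := he.ge (⟨-c, rfl⟩ : upS (-c) ∈ upperSL)
  have hue' : e (π u) = upS (s₂ + s₁) := hue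
  have hye' : e (π y) = upS (-c) := hye
  have hle : e (π (g * y * g⁻¹)) = CfsgLib.SL2Gen.lowS c := by
    rw [map_mul, map_mul, map_inv, map_mul, map_mul, map_inv, hg, MulEquiv.apply_symm_apply, hye',
      weylS_conj_upS, neg_neg, mul_inv_cancel_right]
  have hkx : e (π (k' * x * k'⁻¹)) = upS (s₂ + s₁) * CfsgLib.SL2Gen.lowS c := by
    rw [map_mul, map_mul, map_inv, map_mul, map_mul, map_inv, hk', MulEquiv.apply_symm_apply]
    calc upS s₂ * k * e (π x) * (upS s₂ * k)⁻¹ = upS s₂ * M * (upS s₂)⁻¹ := by rw [hM]; group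
      _ = upS s₂ * (upS s₁ * CfsgLib.SL2Gen.lowS c * upS s₂) * (upS s₂)⁻¹ := by rw [← hdec]
      _ = upS (s₂ + s₁) * CfsgLib.SL2Gen.lowS c := by rw [upS_add]; group
  have hypow : (π (g * y * g⁻¹)) ^ p = 1 := by
    rw [← map_pow, conj_pow, hS.elemAb.2 y hy, mul_one, mul_inv_cancel, map_one]
  have hne : s₂ + s₁ ≠ 0 := by
    intro h0
    refine hnp (e.injective ?_)
    rw [h0, CfsgLib.SL2.upS_zero, one_mul, ← hle] at hkx
    have h1 : (π (k' * x * k'⁻¹)) ^ p = 1 := by rw [e.injective hkx, hypow]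
    rw [← map_pow, conj_pow, map_mul, map_mul, map_inv, mul_inv_eq_one, mul_eq_left, map_pow] at h1
    rw [h1]
  have hgne : MC[π g] (Y.map π) ≠ Y.map π := by
    intro h0
    have h1 : π (g * y * g⁻¹) ∈ Y.map π := h0.le (by
      rw [map_mul, map_mul, map_inv]; exact conj_mem_map (mem_map_of_mem π hy))
    have h2 : CfsgLib.SL2Gen.lowS c ∈ (upperSL : Subgroup (SL(2, F))) := by
      rw [← he, ← hle]; exact mem_map_of_mem _ h1
    obtain ⟨t, ht⟩ := h2
    have h3 := congrArg (fun m : SL(2, F) => (m : Matrix (Fin 2) (Fin 2) F) 1 0) ht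
    simp [upS_coe, CfsgLib.SL2Gen.lowS_coe] at h3
    exact hk h3.symm
  have ha' : k' * a * k'⁻¹ ∈ π.ker := π.normal_ker.conj_mem a ha k'
  have hc2 : Commute (u * (g * y * g⁻¹)) (k' * a * k'⁻¹) :=
    hS.commute_of_map_eq ha' (show π (k' * x * k'⁻¹) = π (u * (g * y * g⁻¹)) from
      e.injective (by rw [hkx, map_mul π u, map_mul e, hue', hle]))
      (hc.map (MulAut.conj k').toMonoidHom)
  have h5 := hS.eq_one_of_commute_product hgne hu
    (fun h0 => hne (upS_injective (by rw [← hue', h0, map_one, CfsgLib.SL2.upS_zero])))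
    (conj_mem_map hy)
    (fun h0 => hk (by
      have h3 := congrArg (fun m : SL(2, F) => (m : Matrix (Fin 2) (Fin 2) F) 1 0) hle
      rw [h0, map_one] at h3
      simpa [CfsgLib.SL2Gen.lowS_coe] using h3.symm))
    ha' hc2
  exact conj_eq_one_iff.1 h5

/-- An element of prime order `≠ p` modulo the kernel fixes no element of the kernel. -/
theorem eq_one_of_prime {x a : Γ} {r : ℕ} (hr : r.Prime) (hrp : r ≠ p) (hx : orderOf (π x) = r)
    (ha : a ∈ π.ker) (hc : Commute x a) : a = 1 := by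
  have hnp : (π x) ^ p ≠ 1 := fun h0 =>
    hrp ((Nat.prime_dvd_prime_iff_eq hr Fact.out).1 (hx ▸ orderOf_dvd_of_pow_eq_one h0))
  rcases hS.pair.model_or_inverted with ⟨F, _, _, hcF, ⟨e₀⟩⟩ | ⟨rfl, hinv⟩
  · have hP'p : IsPGroup p ((Y.map π).map e₀.toMonoidHom) :=
      (isPGroup_of_elemAb hS.pair.elemAb).map _
    have hP'c : Nat.card ((Y.map π).map e₀.toMonoidHom) = Nat.card F := by
      rw [card_map_of_injective e₀.injective, hcF]
    haveI := charP_of_card_eq hP'p hP'c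
    obtain ⟨g₀, hg₀⟩ := exists_conj_upperSL_eq hP'p hP'c
    set e := e₀.trans (MulAut.conj g₀) with he'
    have he : (Y.map π).map e.toMonoidHom = upperSL := by
      rw [← hg₀, Subgroup.map_map (Y.map π)]; rfl
    by_cases hnc : e (π x) ∈ Subgroup.center (SL(2, F))
    · -- the central element of order two
      by_contra ha1
      have hcen : ∀ z, π x * z = z * π x := fun z => e.injective (by
        rw [map_mul, map_mul]; exact (mem_center_iff.1 hnc (e z)).symm)
      -- a fixed point of `Y`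
      obtain ⟨w, hw, hw1, hcw⟩ : ∃ w, w ∈ π.ker ⊓ Y ∧ w ≠ 1 ∧ Commute x w := by
        by_cases h : ∀ y ∈ Y, Commute a y
        · exact ⟨a, ⟨ha, hS.mem_of_fixed ha h⟩, ha1, hc⟩
        push Not at h
        obtain ⟨y, hy, hya⟩ := h
        refine ⟨y * a * y⁻¹ * a⁻¹, hS.commutator_ker_le (commutator_mem_commutator hy ha),
          fun h0 => hya (Commute.symm (eq_mul_of_mul_inv_eq (mul_inv_eq_one.1 h0))), ?_⟩
        refine Commute.mul_right ?_ hc.inv_right
        refine hS.commute_of_map_eq (π.normal_ker.conj_mem a ha y) ?_ (hc.map (MulAut.conj y).toMonoidHom)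
        show π (y * x * y⁻¹) = π x
        rw [map_mul, map_mul, map_inv, ← hcen, mul_inv_cancel_right]
      obtain ⟨_, ⟨u, hu, rfl⟩, hue⟩ := he.ge (⟨1, rfl⟩ : upS (1 : F) ∈ upperSL)
      refine hw1 (hS.eq_one_SL_noncentral e he (x := x * u) hw.1
        (hcw.mul_left (hS.commute_of_mem hu hw.2)) ?_ ?_)
      · rw [map_mul, map_mul, show e (π u) = upS 1 from hue, Subgroup.mul_mem_cancel_left _ hnc,
          CfsgLib.SL2.upS_mem_center_iff]
        exact one_ne_zero
      · rw [map_mul, Commute.mul_pow (hcen (π u)), ← map_pow π u, hS.elemAb.2 u hu, map_one, mul_one]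
        exact hnp
    · exact hS.eq_one_SL_noncentral e he ha hc hnc hnp
  · by_contra ha1
    have hodd : Odd (orderOf (π x)) := hx ▸ hr.odd_of_ne_two hrp
    have hx1 : π x ≠ 1 := fun h0 => hr.one_lt.ne' (hx ▸ orderOf_eq_one_iff.2 h0)
    obtain ⟨q, _, ⟨_, ⟨y, hy, rfl⟩, rfl⟩, ht⟩ := hinv (π x) hx1 hodd
    obtain ⟨k, rfl⟩ := hS.surj q
    set t := k * y * k⁻¹ with ht'
    have hπt : π t * π x * (π t)⁻¹ = (π x)⁻¹ := by
      simpa [ht', map_mul, map_inv] using ht
    have hπt' : π t * (π x)⁻¹ * (π t)⁻¹ = π x := by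
      simpa [mul_assoc] using congrArg (·⁻¹) hπt
    have ht1 : π t ≠ 1 := fun h0 => by
      rw [h0, one_mul, inv_one, mul_one] at hπt
      have h2 : (π x) ^ 2 = 1 := by rw [pow_two]; nth_rewrite 2 [hπt]; exact mul_inv_cancel _
      exact hnp h2
    have hy1 : π y ≠ 1 := fun h0 => ht1 (by simp [ht', h0])
    have htt : t * t = 1 := by
      rw [ht', show k * y * k⁻¹ * (k * y * k⁻¹) = k * (y * y) * k⁻¹ by group, ← pow_two,
        hS.elemAb.2 y hy, mul_one, mul_inv_cancel]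
    have hfix : Commute x (t * a * t⁻¹) :=
      hS.commute_of_map_eq (π.normal_ker.conj_mem a ha t)
        (show π (t * x⁻¹ * t⁻¹) = π x by
          rw [map_mul, map_mul, map_inv, map_inv, hπt'])
        (hc.inv_left.map (MulAut.conj t).toMonoidHom)
    -- a fixed point of `t`
    obtain ⟨w, hw, hw1, hcw, htw⟩ : ∃ w, w ∈ π.ker ∧ w ≠ 1 ∧ Commute x w ∧ Commute t w := by
      by_cases h : Commute t a
      · exact ⟨a, ha, ha1, hc, h⟩
      have hm := π.ker.mul_mem (π.normal_ker.conj_mem a ha t) (π.ker.inv_mem ha)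
      refine ⟨t * a * t⁻¹ * a⁻¹, hm, fun h0 => h (eq_mul_of_mul_inv_eq (mul_inv_eq_one.1 h0)),
        hfix.mul_right hc.inv_right, ?_⟩
      set w := t * a * t⁻¹ * a⁻¹ with hwdef
      have h2 : w⁻¹ = w := inv_eq_of_mul_eq_one_left (by
        rw [← pow_two]; exact hS.pow_eq_one_of_mem_ker hm)
      have h3 : t * w * t⁻¹ = a * t * a⁻¹ * t⁻¹ := by
        have hti : t⁻¹ = t := inv_eq_of_mul_eq_one_left htt
        calc t * w * t⁻¹ = (t * t) * a * (t⁻¹ * a⁻¹ * t⁻¹) := by rw [hwdef]; group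
          _ = a * t * a⁻¹ * t⁻¹ := by rw [htt, one_mul, hti]; group
      have h4 : t * w * t⁻¹ = w := by
        rw [h3]
        refine Eq.trans ?_ h2
        rw [hwdef]
        group
      exact eq_mul_of_mul_inv_eq h4
    have hwY : w ∈ π.ker ⊓ MC[k] Y := by
      refine ⟨hw, mem_map_conj_iff.2 (hS.mem_of_commute_single' hy hy1 ?_ ?_)⟩
      · have h := π.normal_ker.conj_mem w hw k⁻¹
        rwa [inv_inv] at h
      · have h := htw.map (MulAut.conj k⁻¹).toMonoidHom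
        simpa [ht', mul_assoc] using h
    have hn := hS.mem_normalizer_conj_of_commute hwY hw1 hcw
    have htP : π t ∈ MC[π k] (Y.map π) := by
      rw [ht', map_mul, map_mul, map_inv]; exact conj_mem_map (mem_map_of_mem π hy)
    have h2 : (π x) ^ 2 ∈ MC[π k] (Y.map π) := by
      have h := (MC[π k] (Y.map π)).mul_mem
        ((Subgroup.mem_normalizer_iff.1 hn (π t)).1 htP) ((MC[π k] (Y.map π)).inv_mem htP)
      rw [show π x * π t * (π x)⁻¹ * (π t)⁻¹ = π x * (π t * (π x)⁻¹ * (π t)⁻¹) by group] at h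
      rwa [hπt', ← pow_two] at h
    obtain ⟨n, hn2⟩ := ((isPGroup_of_elemAb hS.pair.elemAb).map (MulAut.conj (π k)).toMonoidHom) ⟨_, h2⟩
    have h3 : (π x) ^ (2 ^ (n + 1)) = 1 := by
      have h := congrArg Subtype.val hn2
      simp only [SubmonoidClass.coe_pow, OneMemClass.coe_one] at h
      rw [← pow_mul] at h
      rwa [pow_succ']
    exact hrp ((Nat.prime_dvd_prime_iff_eq hr Nat.prime_two).1
      (hr.dvd_of_dvd_pow (hx ▸ orderOf_dvd_of_pow_eq_one h3)))

end IsSpread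

end CfsgLib.LargeSubgroups
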