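import Cfsg.Agent.Lib.LargeSubgroups.FactorAction
import Cfsg.Agent.Lib.FFModules.PClosed

/-!
Minimality and irreducibility from a transitive family of subgroups.
-/

set_option autoImplicit false

namespace CfsgLib.LargeSubgroups

open Subgroup CfsgLib.FFModules
open scoped commutatorElement

local notation "MC[" g "]" => Subgroup.map (MulEquiv.toMonoidHom (MulAut.conj g))

variable {G : Type*} [Group G] [Finite G] {p : ℕ} [Fact p.Prime]

theorem exists_conj_eq_of_coprime_relIndex {A B K : Subgroup G} (hAK : A ≤ K) (hBK : B ≤ K)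
    (hA : IsPGroup p A) (hB : IsPGroup p B) (hAi : (A.relIndex K).Coprime p)
    (hBi : (B.relIndex K).Coprime p) : ∃ u ∈ K, MC[u] A = B := by
  have hp : p.Prime := Fact.out
  have hnd : ∀ C : Subgroup G, (C.relIndex K).Coprime p → ¬ p ∣ (C.subgroupOf K).index :=
    fun C hC hd => (Nat.Prime.coprime_iff_not_dvd hp).1 hC.symm hd
  obtain ⟨u, hu⟩ := MulAction.exists_smul_eq K (((isPGroup_subgroupOf hAK).2 hA).toSylow (hnd A hAi))
    (((isPGroup_subgroupOf hBK).2 hB).toSylow (hnd B hBi))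
  have h1 : (A.subgroupOf K).map (MulAut.conj u).toMonoidHom = B.subgroupOf K := by
    have h := congrArg (fun P : Sylow p K => (P : Subgroup K)) hu
    simp only [Sylow.coe_subgroup_smul, IsPGroup.toSylow_coe] at h
    rw [← h, Subgroup.pointwise_smul_def]
    rfl
  refine ⟨u, u.2, ?_⟩
  have h2 := congrArg (Subgroup.map K.subtype) h1
  rw [map_subgroupOf_eq_of_le hBK, Subgroup.map_map] at h2
  rw [← h2, show K.subtype.comp (MulAut.conj u).toMonoidHom =
    (MulAut.conj (u : G)).toMonoidHom.comp K.subtype from by ext y; rfl, ← Subgroup.map_map,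
    map_subgroupOf_eq_of_le hAK]

variable {𝒦 : Set (Subgroup G)}

theorem le_normalizer_sSup (hinv : ∀ h : G, ∀ E ∈ 𝒦, MC[h] E ∈ 𝒦) :
    (sSup 𝒦).Normal := by
  refine normalizer_eq_top_iff.1 (eq_top_iff.2 fun g _ => mem_normalizer_of_map_conj_le ?_)
  rw [sSup_eq_iSup, Subgroup.map_iSup]
  refine iSup_le fun E => ?_
  rw [Subgroup.map_iSup]
  exact iSup_le fun hE => le_iSup₂_of_le (MC[g] E) (hinv g E hE) le_rfl

theorem p_minimal_of_transitive_family (hne : 𝒦.Nonempty)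
    (hinv : ∀ h : G, ∀ E ∈ 𝒦, MC[h] E ∈ 𝒦)
    (htr : ∀ E ∈ 𝒦, ∀ K ∈ 𝒦, ∃ h : G, K = MC[h] E)
    (hres : Cfsg.pResidual p G ≤ sSup 𝒦)
    (hnorm : ∀ E ∈ 𝒦, sSup 𝒦 ⊔ Cfsg.pCore p G ≤
      normalizer ((E ⊔ Cfsg.pCore p G : Subgroup G) : Set G))
    (hmin : ∀ E ∈ 𝒦, ∀ T : Sylow p E, Cfsg.IsMinimalOver (T : Subgroup E)) (T : Sylow p G) :
    Cfsg.IsMinimalOver (T : Subgroup G) := by
  set O := Cfsg.pCore p G with hO
  haveI hOn : O.Normal := FFModules.normal_pCore
  haveI hRn : (sSup 𝒦).Normal := le_normalizer_sSup hinv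
  set R := sSup 𝒦 ⊔ O with hR
  have hOT : O ≤ (T : Subgroup G) := pCore_le_sylow T
  have hnd : ∀ {H : Subgroup G}, H.Normal → ∀ X : Subgroup G, X ≤ normalizer (H : Set G) :=
    fun h X => by rw [normalizer_eq_top_iff.2 h]; exact le_top
  have hTR : ((T : Subgroup G).relIndex R).Coprime p :=
    coprime_relIndex_of_le_normalizer (L := ⊤) (coprime_of_sylow_relIndex T le_top) le_top le_top
      (hnd inferInstance _)
  have hER : ∀ E ∈ 𝒦, E ⊔ O ≤ R := fun E hE => sup_le_sup_right (le_sSup hE) O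
  -- Sylow subgroups of `E ⊔ O` and of `E`
  have hTE : ∀ E ∈ 𝒦, (((T : Subgroup G) ⊓ (E ⊔ O)).relIndex (E ⊔ O)).Coprime p := by
    intro E hE
    have h1 := coprime_relIndex_of_le_normalizer (T := (T : Subgroup G) ⊓ R) (L := R) (N := E ⊔ O)
      (by rwa [Subgroup.inf_relIndex_right]) inf_le_right (hER E hE) (inf_le_right.trans (hnorm E hE))
    rw [Subgroup.inf_relIndex_right]
    exact Nat.Coprime.coprime_dvd_left (relIndex_dvd_of_le_left _ inf_le_left) h1
  have hTE' : ∀ E ∈ 𝒦, (((T : Subgroup G) ⊓ E).relIndex E).Coprime p := by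
    intro E hE
    obtain ⟨P⟩ : Nonempty (Sylow p E) := inferInstance
    set P' := (P : Subgroup E).map E.subtype with hP'
    have hP'p : IsPGroup p P' := P.2.map _
    obtain ⟨Q, hQ⟩ := ((isPGroup_subgroupOf (H := E ⊔ O)
      ((map_subtype_le _).trans le_sup_left)).2 hP'p).exists_le_sylow
    have hQp : IsPGroup p ((Q : Subgroup ↥(E ⊔ O)).map (E ⊔ O).subtype) := Q.2.map _
    obtain ⟨x, hx, hxe⟩ := exists_conj_eq_of_coprime_relIndex (K := E ⊔ O) (map_subtype_le _) inf_le_right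
      hQp (T.2.to_le inf_le_left)
      (by
        rw [Subgroup.relIndex, show ((Q : Subgroup ↥(E ⊔ O)).map (E ⊔ O).subtype).subgroupOf (E ⊔ O) =
          (Q : Subgroup ↥(E ⊔ O)) from comap_map_eq_self_of_injective (E ⊔ O).subtype_injective _]
        exact ((Nat.Prime.coprime_iff_not_dvd Fact.out).2 Q.not_dvd_index).symm)
      (hTE E hE)
    have hx' : x ∈ ((O ⊔ E : Subgroup G) : Set G) := by rwa [sup_comm]
    rw [coe_mul_of_right_le_normalizer_left O E (hnd hOn _)] at hx'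
    obtain ⟨o, ho, e, he, rfl⟩ := hx'
    have ho' : o ∈ normalizer (((T : Subgroup G) ⊓ (E ⊔ O) : Subgroup G) : Set G) :=
      le_normalizer ⟨hOT ho, mem_sup_right ho⟩
    have hle : MC[e] P' ≤ (T : Subgroup G) ⊓ E := by
      refine le_inf ?_ ((map_mono (map_subtype_le _)).trans (map_conj_eq_self (le_normalizer he)).le)
      have h2 : MC[o * e] P' ≤ (T : Subgroup G) ⊓ (E ⊔ O) := by
        refine (map_mono ?_).trans hxe.le
        intro y hy
        exact ⟨⟨y, (map_subtype_le _).trans le_sup_left hy⟩, hQ hy, rfl⟩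
      rw [map_conj_mul] at h2
      have h3 := map_mono (f := (MulAut.conj o⁻¹).toMonoidHom) h2
      rw [← map_conj_mul, inv_mul_cancel, map_conj_one, map_conj_eq_self (inv_mem ho')] at h3
      exact h3.trans inf_le_left
    have hd : ((T : Subgroup G) ⊓ E).relIndex E ∣ (MC[e] P').relIndex E := relIndex_dvd_of_le_left E hle
    refine Nat.Coprime.coprime_dvd_left hd ?_
    rw [show (MC[e] P').relIndex E = (MC[e] P').relIndex (MC[e] E) by
      rw [map_conj_eq_self (le_normalizer he)], relIndex_map_map_of_injective _ _ (MulAut.conj e).injective]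
    rw [Subgroup.relIndex, show P'.subgroupOf E = (P : Subgroup E) from
      comap_map_eq_self_of_injective E.subtype_injective _]
    exact ((Nat.Prime.coprime_iff_not_dvd Fact.out).2 P.not_dvd_index).symm
  have hSE : ∀ E ∈ 𝒦, Cfsg.IsMinimalOver (((T : Subgroup G) ⊓ E).subgroupOf E) := fun E hE => by
    have h := hmin E hE (((isPGroup_subgroupOf inf_le_right).2 (T.2.to_le inf_le_left)).toSylow
      fun hd => (Nat.Prime.coprime_iff_not_dvd Fact.out).1 (hTE' E hE).symm hd)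
    rwa [IsPGroup.toSylow_coe] at h
  -- the largest proper subgroup of `E ⊔ O` over its Sylow subgroup
  have hU : ∀ E ∈ 𝒦, ∃ U : Subgroup G, (T : Subgroup G) ⊓ (E ⊔ O) ≤ U ∧ U < E ⊔ O ∧
      ∀ K : Subgroup G, (T : Subgroup G) ⊓ (E ⊔ O) ≤ K → K ≤ E ⊔ O → K ≠ E ⊔ O → K ≤ U := by
    intro E hE
    obtain ⟨-, M₁, ⟨hM₁, hTM₁⟩, huniq⟩ := hSE E hE
    have hdec : ∀ K : Subgroup G, O ≤ K → K ≤ E ⊔ O → K ≤ (K ⊓ E) ⊔ O := by
      intro K hOK hK y hy
      have h : y ∈ ((E ⊔ O : Subgroup G) : Set G) := hK hy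
      rw [coe_mul_of_left_le_normalizer_right E O (hnd hOn _)] at h
      obtain ⟨e, he, o, ho, rfl⟩ := h
      exact mul_mem (mem_sup_left ⟨by simpa using K.mul_mem hy (K.inv_mem (hOK ho)), he⟩) (mem_sup_right ho)
    set M₂ := M₁.map E.subtype with hM₂
    have hM₂E : M₂ ≤ E := map_subtype_le _
    have hTM₂ : (T : Subgroup G) ⊓ E ≤ M₂ := fun y hy => ⟨⟨y, hy.2⟩, hTM₁ hy, rfl⟩
    refine ⟨M₂ ⊔ O, (hdec _ (le_inf hOT le_sup_right) inf_le_right).trans
      (sup_le_sup_right ((inf_le_inf_right E inf_le_left).trans hTM₂) O), ?_, ?_⟩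
    · refine lt_of_le_of_ne (sup_le_sup_right hM₂E O) fun e => hM₁.1 (eq_top_iff.2 fun y _ => ?_)
      have h : (y : G) ∈ ((M₂ ⊔ O : Subgroup G) : Set G) := e.ge (mem_sup_left y.2)
      rw [coe_mul_of_left_le_normalizer_right M₂ O (hnd hOn _)] at h
      obtain ⟨a, ha, o, ho, hao⟩ := h
      have hao' : a * o = (y : G) := hao
      have hoE : o ∈ E := by
        rw [show o = a⁻¹ * (y : G) by rw [← hao']; group]
        exact E.mul_mem (E.inv_mem (hM₂E ha)) y.2
      have hy : (y : G) ∈ M₂ := hao' ▸ M₂.mul_mem ha (hTM₂ ⟨hOT ho, hoE⟩)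
      obtain ⟨z, hz, hzy⟩ := hy
      rwa [← Subtype.ext (show (z : G) = y from hzy)]
    · intro K hTK hKE hne'
      have hOK : O ≤ K := (le_inf hOT le_sup_right).trans hTK
      refine (hdec K hOK hKE).trans (sup_le_sup_right ?_ O)
      have htop : (K ⊓ E).subgroupOf E ≠ ⊤ := fun e => hne' (le_antisymm hKE
        (sup_le ((subgroupOf_eq_top.1 e).trans inf_le_left) hOK))
      have h1 := le_of_unique_coatom (Y := ((T : Subgroup G) ⊓ E).subgroupOf E) (X := (K ⊓ E).subgroupOf E)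
        huniq (fun y hy => ⟨hTK ⟨hy.1, mem_sup_left hy.2⟩, hy.2⟩) htop
      intro y hy
      exact ⟨⟨y, hy.2⟩, h1 hy, rfl⟩
  choose! U hTU hUlt hUmax using hU
  have hUmap : ∀ E ∈ 𝒦, ∀ g : G, ∀ E' ∈ 𝒦, MC[g] (E ⊔ O) = E' ⊔ O →
      MC[g] ((T : Subgroup G) ⊓ (E ⊔ O)) = (T : Subgroup G) ⊓ (E' ⊔ O) → MC[g] (U E) ≤ U E' := by
    intro E hE g E' hE' h1 h2
    refine hUmax E' hE' _ (h2.ge.trans (map_mono (hTU E hE))) ((map_mono (hUlt E hE).le).trans h1.le) ?_
    intro e
    exact (hUlt E hE).ne (Subgroup.map_injective (MulAut.conj g).injective (e.trans h1.symm))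
  set N := R ⊓ ⨅ (E : Subgroup G) (_ : E ∈ 𝒦), normalizer (U E : Set G) with hN
  have memN : ∀ x, x ∈ N ↔ x ∈ R ∧ ∀ E ∈ 𝒦, x ∈ normalizer (U E : Set G) := fun x => by
    simp only [hN, Subgroup.mem_inf, Subgroup.mem_iInf]
  have hfix : ∀ E ∈ 𝒦, ∀ x ∈ normalizer ((E ⊔ O : Subgroup G) : Set G),
      x ∈ normalizer (((T : Subgroup G) ⊓ (E ⊔ O) : Subgroup G) : Set G) →
      x ∈ normalizer (U E : Set G) := fun E hE x h1 h2 =>
    mem_normalizer_of_map_conj_le (hUmap E hE x E hE (map_conj_eq_self h1) (map_conj_eq_self h2))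
  have hTN : (T : Subgroup G) ≤ normalizer (N : Set G) := by
    intro t ht
    refine mem_normalizer_of_map_conj_le ?_
    rintro _ ⟨n, hn, rfl⟩
    obtain ⟨hnR, hn'⟩ := (memN n).1 hn
    refine (memN _).2 ⟨(hnd (H := R) inferInstance ⊤ (mem_top t)) |> fun h =>
      (Subgroup.mem_normalizer_iff.1 h n).1 hnR, fun E' hE' => ?_⟩
    set E := MC[t⁻¹] E' with hEdef
    have hE : E ∈ 𝒦 := hinv _ _ hE'
    have hTt := map_conj_eq_self (le_normalizer ht)
    have hTt' := map_conj_eq_self (le_normalizer ((T : Subgroup G).inv_mem ht))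
    have hOt : ∀ g : G, MC[g] O = O := fun g => map_conj_eq_self (hnd hOn ⊤ (mem_top g))
    have h1 : MC[t⁻¹] (E' ⊔ O) = E ⊔ O := by rw [Subgroup.map_sup, hOt]
    have h2 : MC[t] (E ⊔ O) = E' ⊔ O := by
      rw [← h1, ← map_conj_mul, mul_inv_cancel, map_conj_one]
    have hUU : MC[t] (U E) = U E' := by
      refine le_antisymm (hUmap E hE t E' hE' h2 ?_) ?_
      · rw [map_inf _ _ _ (MulAut.conj t).injective, hTt, h2]
      · have h3 := hUmap E' hE' t⁻¹ E hE h1 (by rw [map_inf _ _ _ (MulAut.conj t⁻¹).injective, hTt', h1])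
        have h4 := map_mono (f := (MulAut.conj t).toMonoidHom) h3
        rwa [← map_conj_mul, mul_inv_cancel, map_conj_one] at h4
    rw [← hUU]
    exact mem_normalizer_map_conj (hn' E hE)
  have hTR' : (T : Subgroup G) ⊔ R = ⊤ :=
    top_le_iff.1 ((pResidual_sup_sylow T).ge.trans
      (sup_le (hres.trans (le_sup_left.trans le_sup_right)) le_sup_left))
  have hmax : ∀ X : Subgroup G, (T : Subgroup G) ≤ X → X ≠ ⊤ → X ≤ (T : Subgroup G) ⊔ N := by
    intro X hTX hX
    have hXN : X ⊓ R ≤ N := by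
      rintro x ⟨hxX, hxR⟩
      refine (memN x).2 ⟨hxR, fun E hE => ?_⟩
      set A := (T : Subgroup G) ⊓ (E ⊔ O) with hA
      set K := X ⊓ (E ⊔ O) with hK
      have hne' : K ≠ E ⊔ O := by
        intro e
        have hEX : E ⊔ O ≤ X := e.ge.trans inf_le_left
        refine hX (top_le_iff.1 (hTR'.ge.trans (sup_le hTX (sup_le (sSup_le fun E' hE' => ?_)
          (hOT.trans hTX)))))
        obtain ⟨g, rfl⟩ := htr E hE E' hE'
        have hg : g ∈ (((T : Subgroup G) ⊔ R : Subgroup G) : Set G) := hTR'.ge (mem_top g)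
        rw [coe_mul_of_left_le_normalizer_right (T : Subgroup G) R (hnd inferInstance _)] at hg
        obtain ⟨t, ht, r, hr, rfl⟩ := hg
        rw [map_conj_mul]
        refine le_trans (Subgroup.map_mono (K' := E ⊔ O) ?_) ?_
        · exact (map_mono le_sup_left).trans (map_conj_eq_self (hnorm E hE hr)).le
        · exact (map_mono hEX).trans (map_conj_eq_self (le_normalizer (hTX ht))).le
      have hxn : x ∈ normalizer ((E ⊔ O : Subgroup G) : Set G) := hnorm E hE hxR
      have hAK : A ≤ K := inf_le_inf_right _ hTX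
      have hAx : MC[x] A ≤ K := le_inf ((map_mono (inf_le_left.trans hTX)).trans
        (map_conj_eq_self (le_normalizer hxX)).le) ((map_mono inf_le_right).trans (map_conj_eq_self hxn).le)
      have hdvd : ∀ B : Subgroup G, B ≤ K → (B.relIndex (E ⊔ O)).Coprime p → (B.relIndex K).Coprime p :=
        fun B hB h => Nat.Coprime.coprime_dvd_left
          ⟨_, (relIndex_mul_relIndex B K (E ⊔ O) hB inf_le_right).symm⟩ h
      obtain ⟨u, hu, hue⟩ := exists_conj_eq_of_coprime_relIndex hAK hAx (T.2.to_le inf_le_left)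
        ((T.2.to_le inf_le_left).map _) (hdvd A hAK (hTE E hE))
        (hdvd _ hAx (by
          rw [← map_conj_eq_self hxn, relIndex_map_map_of_injective _ _ (MulAut.conj x).injective]
          exact hTE E hE))
      have hKU : K ≤ U E := hUmax E hE K hAK inf_le_right hne'
      have hn : u⁻¹ * x ∈ normalizer (U E : Set G) := by
        refine hfix E hE _ (mul_mem (inv_mem (le_normalizer hu.2)) hxn) (mem_normalizer_of_map_conj_eq ?_)
        rw [map_conj_mul, ← hue, ← map_conj_mul, inv_mul_cancel, map_conj_one]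
      simpa using mul_mem (le_normalizer (hKU hu)) hn
    intro x hx
    have hx' : x ∈ (((T : Subgroup G) ⊔ R : Subgroup G) : Set G) := hTR'.ge (mem_top x)
    rw [coe_mul_of_left_le_normalizer_right (T : Subgroup G) R (hnd inferInstance _)] at hx'
    obtain ⟨t, ht, r, hr, rfl⟩ := hx'
    exact mul_mem (mem_sup_left ht)
      (mem_sup_right (hXN ⟨by simpa using X.mul_mem (X.inv_mem (hTX ht)) hx, hr⟩))
  have htop : (T : Subgroup G) ⊔ N ≠ ⊤ := by
    intro e
    have hTN' : (T : Subgroup G) ⊓ R ≤ N := fun x hx => (memN x).2 ⟨hx.2, fun E hE =>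
      hfix E hE x (hnorm E hE hx.2) (le_normalizer_inf_of
        (L := (T : Subgroup G) ⊓ R) (inf_le_left.trans le_normalizer)
        (inf_le_right.trans (hnorm E hE)) hx)⟩
    obtain ⟨E, hE⟩ := hne
    have hRN : R ≤ N := by
      intro x hx
      have hx' : x ∈ (((T : Subgroup G) ⊔ N : Subgroup G) : Set G) := e.ge (mem_top x)
      rw [coe_mul_of_left_le_normalizer_right (T : Subgroup G) N hTN] at hx'
      obtain ⟨t, ht, n, hn, rfl⟩ := hx'
      exact N.mul_mem (hTN' ⟨ht, by simpa using R.mul_mem hx (R.inv_mem ((memN n).1 hn).1)⟩) hn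
    have hEU : E ≤ normalizer (U E : Set G) := fun x hx =>
      ((memN x).1 (hRN (hER E hE (mem_sup_left hx)))).2 E hE
    haveI : ((U E).subgroupOf E).Normal := ⟨fun a ha b =>
      (Subgroup.mem_normalizer_iff.1 (hEU b.2) (a : G)).1 ha⟩
    obtain ⟨hclos, -⟩ := hSE E hE
    have hEU' : E ≤ U E := by
      refine subgroupOf_eq_top.1 (top_le_iff.1 (hclos.ge.trans (normalClosure_le_normal ?_)))
      intro y hy
      exact hTU E hE ⟨hy.1, mem_sup_left hy.2⟩
    exact (hUlt E hE).not_ge (sup_le hEU' ((le_inf hOT le_sup_right).trans (hTU E hE)))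
  refine ⟨?_, (T : Subgroup G) ⊔ N, ⟨⟨htop, fun X hX => ?_⟩, le_sup_left⟩, fun M hM => ?_⟩
  · refine top_le_iff.1 (hTR'.ge.trans (sup_le le_normalClosure (sup_le (sSup_le fun E hE => ?_)
      (hOT.trans le_normalClosure))))
    obtain ⟨hclos, -⟩ := hSE E hE
    have h1 : (⊤ : Subgroup E) ≤ (normalClosure ((T : Subgroup G) : Set G)).subgroupOf E :=
      hclos.ge.trans (normalClosure_le_normal fun y hy => le_normalClosure hy.1)
    exact subgroupOf_eq_top.1 (top_le_iff.1 h1)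
  · by_contra hne'
    exact hX.not_ge (hmax X (le_sup_left.trans hX.le) hne')
  · exact ((hM.1.le_iff.1 (hmax M hM.2 hM.1.1)).resolve_left htop).symm

/-! ### Irreducibility -/

/-- A homomorphism into a central `p'`-group from a group equal to `E'` up to `p` is trivial. -/
theorem commute_of_central_commutator {E Z : Subgroup G} {x : G}
    (hxE : ∀ e ∈ E, x * e * x⁻¹ * e⁻¹ ∈ Z) (hZE : ∀ z ∈ Z, ∀ e ∈ E, z * e = e * z)
    (hZZ : ∀ z ∈ Z, ∀ w ∈ Z, z * w = w * z) (hZp : ∀ z ∈ Z, (∃ k : ℕ, z ^ p ^ k = 1) → z = 1)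
    (hE : ∀ e ∈ E, (orderOf e).Coprime p → e ∈ ⁅E, E⁆) : ∀ e ∈ E, Commute x e := by
  let f : G → G := fun e => x * e * x⁻¹ * e⁻¹
  have hf : ∀ a ∈ E, ∀ b ∈ E, f (a * b) = f a * f b := by
    intro a ha b hb
    show x * (a * b) * x⁻¹ * (a * b)⁻¹ = x * a * x⁻¹ * a⁻¹ * f b
    calc x * (a * b) * x⁻¹ * (a * b)⁻¹ = x * a * x⁻¹ * (f b * a⁻¹) := by simp only [f]; group
      _ = x * a * x⁻¹ * (a⁻¹ * f b) := by rw [hZE _ (hxE b hb) _ (E.inv_mem ha)]
      _ = _ := by group
  have hone : f 1 = 1 := by simp [f]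
  have hinv : ∀ a ∈ E, f a⁻¹ = (f a)⁻¹ := fun a ha => eq_inv_of_mul_eq_one_left (by
    rw [← hf _ (E.inv_mem ha) a ha, inv_mul_cancel, hone])
  let K : Subgroup G :=
    { carrier := {e | e ∈ E ∧ f e = 1}
      one_mem' := ⟨one_mem _, hone⟩
      mul_mem' := fun {a b} ha hb => ⟨E.mul_mem ha.1 hb.1, by rw [hf a ha.1 b hb.1, ha.2, hb.2, one_mul]⟩
      inv_mem' := fun {a} ha => ⟨E.inv_mem ha.1, by rw [hinv a ha.1, ha.2, inv_one]⟩ }
  have hK : ⁅E, E⁆ ≤ K := Subgroup.commutator_le.2 fun a ha b hb => by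
    refine ⟨E.mul_mem (E.mul_mem (E.mul_mem ha hb) (E.inv_mem ha)) (E.inv_mem hb), ?_⟩
    rw [commutatorElement_def, hf _ (E.mul_mem (E.mul_mem ha hb) (E.inv_mem ha)) _ (E.inv_mem hb),
      hf _ (E.mul_mem ha hb) _ (E.inv_mem ha), hf a ha b hb, hinv a ha, hinv b hb,
      hZZ _ (hxE a ha) _ (hxE b hb)]
    simp only [f]
    group
  have hpow : ∀ e ∈ E, ∀ n : ℕ, f (e ^ n) = f e ^ n := by
    intro e he n
    induction n with
    | zero => simpa using hone
    | succ n ih => rw [pow_succ, hf _ (E.pow_mem he n) e he, ih, pow_succ]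
  intro e he
  have h1 : f e = 1 := by
    refine hZp _ (hxE e he) ?_
    obtain ⟨k, hk⟩ := exists_pPow_mem_pResidualMap (p := p) (L := E) he
    have hle : (Cfsg.pResidual p E).map E.subtype ≤ K :=
      pResidualMap_le_iff.2 fun y hy hy' => hK (hE y hy hy')
    exact ⟨k, by rw [← hpow e he]; exact (hle hk).2⟩
  exact eq_mul_of_mul_inv_eq (mul_inv_eq_one.1 h1)

end CfsgLib.LargeSubgroups
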