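import Cfsg.Agent.Lib.LargeSubgroups.TransitiveFamily

/-!
Irreducibility from a transitive family of strongly irreducible subgroups.
-/

set_option autoImplicit false

namespace CfsgLib.LargeSubgroups

open Subgroup CfsgLib.FFModules
open scoped commutatorElement

local notation "MC[" g "]" => Subgroup.map (MulEquiv.toMonoidHom (MulAut.conj g))
local notation "RES[" p "," L "]" => Subgroup.map (Subgroup.subtype L) (Cfsg.pResidual p L)

section quotient

variable {G : Type*} [Group G] [Finite G] {p : ℕ} [Fact p.Prime] {𝒮 : Set (Subgroup G)}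

theorem irreducible_family_core_free
    (hinv : ∀ h : G, ∀ E ∈ 𝒮, MC[h] E ∈ 𝒮)
    (htr : ∀ E ∈ 𝒮, ∀ K ∈ 𝒮, ∃ h : G, K = MC[h] E)
    (hres : Cfsg.pResidual p G ≤ sSup 𝒮)
    (hnorm : ∀ E ∈ 𝒮, sSup 𝒮 ≤ normalizer (E : Set G))
    (hcore : Cfsg.pCore p G = ⊥)
    (hirr : ∀ E ∈ 𝒮, ∀ N : Subgroup G, N ≤ E → E ≤ normalizer (N : Set G) →
      ⁅N, E⁆ = ⊥ ∨ RES[p,E] ≤ N)
    (hnp : ∀ E ∈ 𝒮, ∃ P : Subgroup G, P ≤ E ∧ IsPGroup p P ∧ P ≠ ⊥) :
    (∀ N : Subgroup G, N.Normal →
      (∀ P : Subgroup G, P ≤ N → IsPGroup p P → P = ⊥) ∨ Cfsg.pResidual p G ≤ N) ∧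
    ∀ E ∈ 𝒮, ∀ K ∈ 𝒮, RES[p,E] = RES[p,K] ∨ ⁅E, K⁆ = ⊥ := by
  set R := sSup 𝒮 with hR
  haveI hRn : R.Normal := le_normalizer_sSup hinv
  have hsubR : ∀ X : Subgroup G, X ≤ R → R ≤ normalizer (X : Set G) → IsPGroup p X → X = ⊥ := by
    intro X h1 h2 h3
    rw [← le_bot_iff, ← hcore]
    exact (le_pCoreOf h1 h2 h3).trans (pCoreOf_le_pCore_of_isSubnormal hRn.isSubnormal)
  have hsub : ∀ E ∈ 𝒮, ∀ X : Subgroup G, X ≤ E → E ≤ normalizer (X : Set G) → IsPGroup p X →
      X = ⊥ := by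
    intro E hE X h1 h2 h3
    have h4 : Cfsg.pCoreOf p E = ⊥ := hsubR _ ((pCoreOf_le E).trans (le_sSup hE))
      ((hnorm E hE).trans (normalizer_le_normalizer_pCoreOf E)) (isPGroup_pCoreOf E)
    exact le_bot_iff.1 ((le_pCoreOf h1 h2 h3).trans h4.le)
  -- `O^p(E) ≤ E'`
  have hder : ∀ E ∈ 𝒮, ∀ e ∈ E, (orderOf e).Coprime p → e ∈ ⁅E, E⁆ := by
    intro E hE e he hcop
    rcases hirr E hE ⁅E, E⁆ (Subgroup.commutator_le_self E) (normalizer_commutator_ge_left E E) with h | h
    · exfalso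
      haveI : Group.IsNilpotent E := (Subgroup.isNilpotent_iff_lowerCentralSeries E).2 ⟨2, h⟩
      obtain ⟨P, hPE, hPp, hP1⟩ := hnp E hE
      obtain ⟨S, hS⟩ := ((isPGroup_subgroupOf hPE).2 hPp).exists_le_sylow
      have hSn := Sylow.normal_of_normalizerCondition Group.normalizerCondition_of_isNilpotent S
      have h1 : (S : Subgroup E).map E.subtype = ⊥ := hsub E hE _ (map_subtype_le _) (by
        have h2 := le_normalizer_map E.subtype (H := (S : Subgroup E))
        rwa [normalizer_eq_top_iff.2 hSn, ← MonoidHom.range_eq_map, range_subtype] at h2) (S.2.map _)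
      refine hP1 (le_bot_iff.1 (h1 ▸ ?_))
      intro x hx
      exact ⟨⟨x, hPE hx⟩, hS hx, rfl⟩
    · exact h (mem_pResidualMap he hcop)
  have hcz : ∀ E ∈ 𝒮, ∀ Z : Subgroup G, Z ≤ E → (∀ z ∈ Z, ∀ e ∈ E, z * e = e * z) →
      ∀ z ∈ Z, (∃ k : ℕ, z ^ p ^ k = 1) → z = 1 := by
    intro E hE Z hZE hc z hz ⟨k, hk⟩
    have hzp : IsPGroup p (zpowers z) := by
      rintro ⟨y, hy⟩
      obtain ⟨n, rfl⟩ := mem_zpowers_iff.1 hy
      refine ⟨k, Subtype.ext ?_⟩
      show (z ^ n) ^ (p ^ k) = 1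
      rw [← zpow_natCast, ← zpow_mul, mul_comm, zpow_mul, zpow_natCast, hk, one_zpow]
    refine zpowers_eq_bot.1 (hsub E hE _ (zpowers_le.2 (hZE hz)) (fun e he => ?_) hzp)
    refine mem_normalizer_of_map_conj_le ?_
    rw [MonoidHom.map_zpowers, zpowers_le]
    show e * z * e⁻¹ ∈ zpowers z
    rw [← hc z hz e he, mul_inv_cancel_right]
    exact mem_zpowers z
  refine ⟨fun N hN => ?_, fun E hE K hK => ?_⟩
  · have hNn : ∀ X : Subgroup G, X ≤ normalizer (N : Set G) := fun X => by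
      rw [normalizer_eq_top_iff.2 hN]; exact le_top
    by_cases hex : ∃ E ∈ 𝒮, RES[p,E] ≤ N
    · right
      obtain ⟨E₀, hE₀, hE₀N⟩ := hex
      have hall : ∀ K ∈ 𝒮, RES[p,K] ≤ N := by
        intro K hK
        obtain ⟨h, rfl⟩ := htr E₀ hE₀ K hK
        refine pResidualMap_le_iff.2 fun x hx hcop => ?_
        obtain ⟨y, hy, rfl⟩ := hx
        refine (Subgroup.mem_normalizer_iff.1 (hNn ⊤ (mem_top h)) y).1 (hE₀N (mem_pResidualMap hy ?_))
        rwa [orderOf_injective _ (MulAut.conj h).injective] at hcop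
      set μ := QuotientGroup.mk' N with hμ
      have hp1 : ∀ K ∈ 𝒮, IsPGroup p (K.map μ) := by
        intro K hK
        rintro ⟨_, x, hx, rfl⟩
        obtain ⟨k, hk⟩ := exists_pPow_mem_pResidualMap (p := p) (L := K) hx
        exact ⟨k, Subtype.ext (by
          simp only [SubmonoidClass.coe_pow, OneMemClass.coe_one, ← map_pow]
          exact (QuotientGroup.eq_one_iff _).2 (hall K hK hk))⟩
      have hRp : IsPGroup p (R.map μ) := by
        refine (isPGroup_pCoreOf (p := p) (R.map μ)).to_le ?_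
        rw [map_le_iff_le_comap]
        refine sSup_le fun K hK => map_le_iff_le_comap.1 ?_
        exact le_pCoreOf (map_mono (le_sSup hK)) ((map_mono (hnorm K hK)).trans (le_normalizer_map μ))
          (hp1 K hK)
      refine pResidual_le_iff.2 fun x hx => ?_
      obtain ⟨k, hk⟩ := hRp ⟨μ x, mem_map_of_mem μ (hres (mem_pResidual_of_coprime hx))⟩
      refine mem_of_pow_pPow_mem (k := k) hx ((QuotientGroup.eq_one_iff (N := N) _).1 ?_)
      have h := congrArg Subtype.val hk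
      simp only [SubmonoidClass.coe_pow, OneMemClass.coe_one, ← map_pow] at h
      exact h
    · left
      have hcent : ∀ E ∈ 𝒮, ∀ z ∈ N ⊓ E, ∀ e ∈ E, z * e = e * z := by
        intro E hE z hz e he
        rcases hirr E hE (N ⊓ E) inf_le_right (le_normalizer_inf_of (hNn E) le_normalizer) with h | h
        · exact commutatorElement_eq_one_iff_mul_comm.1
            (mem_bot.1 (h ▸ commutator_mem_commutator hz he))
        · exact absurd ⟨E, hE, h.trans inf_le_left⟩ hex
      have hNR : ∀ x ∈ N ⊓ R, ∀ E ∈ 𝒮, ∀ e ∈ E, Commute x e := by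
        intro x hx E hE
        refine commute_of_central_commutator (Z := N ⊓ E) (fun e he => ⟨?_, ?_⟩) (hcent E hE)
          (fun z hz w hw => hcent E hE z hz w hw.2) (hcz E hE _ inf_le_right (hcent E hE)) (hder E hE)
        · rw [show x * e * x⁻¹ * e⁻¹ = x * (e * x⁻¹ * e⁻¹) by group]
          exact N.mul_mem hx.1 (hN.conj_mem _ (N.inv_mem hx.1) e)
        · exact E.mul_mem ((Subgroup.mem_normalizer_iff.1 (hnorm E hE hx.2) e).1 he) (E.inv_mem he)
      have hcR : ∀ x : G, (∀ E ∈ 𝒮, ∀ e ∈ E, Commute x e) → ∀ r ∈ R, x * r = r * x := by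
        intro x hx r hr
        have : R ≤ centralizer ({x} : Set G) := sSup_le fun E hE e he =>
          mem_centralizer_singleton_iff.2 (hx E hE e he).eq.symm
        exact (mem_centralizer_singleton_iff.1 (this hr)).symm
      have hzR : ∀ z ∈ N ⊓ R, (∃ k : ℕ, z ^ p ^ k = 1) → z = 1 := by
        intro z hz ⟨k, hk⟩
        have hzp : IsPGroup p (zpowers z) := by
          rintro ⟨y, hy⟩
          obtain ⟨n, rfl⟩ := mem_zpowers_iff.1 hy
          refine ⟨k, Subtype.ext ?_⟩
          show (z ^ n) ^ (p ^ k) = 1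
          rw [← zpow_natCast, ← zpow_mul, mul_comm, zpow_mul, zpow_natCast, hk, one_zpow]
        refine zpowers_eq_bot.1 (hsubR _ (zpowers_le.2 hz.2) (fun e he => ?_) hzp)
        refine mem_normalizer_of_map_conj_le ?_
        rw [MonoidHom.map_zpowers, zpowers_le]
        show e * z * e⁻¹ ∈ zpowers z
        rw [← hcR z (hNR z hz) e he, mul_inv_cancel_right]
        exact mem_zpowers z
      have hNC : ∀ n ∈ N, ∀ E ∈ 𝒮, ∀ e ∈ E, Commute n e := by
        intro n hn E hE
        refine commute_of_central_commutator (Z := N ⊓ R) (fun e he => ⟨?_, ?_⟩)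
          (fun z hz e he => (hNR z hz E hE e he).eq)
          (fun z hz w hw => hcR z (hNR z hz) w hw.2) hzR (hder E hE)
        · rw [show n * e * n⁻¹ * e⁻¹ = n * (e * n⁻¹ * e⁻¹) by group]
          exact N.mul_mem hn (hN.conj_mem _ (N.inv_mem hn) e)
        · exact R.mul_mem (hRn.conj_mem e (le_sSup hE he) n) (R.inv_mem (le_sSup hE he))
      intro P hPN hPp
      obtain ⟨S, hS⟩ := hPp.exists_le_sylow
      have hRS : (S : Subgroup G) ⊔ R = ⊤ :=
        top_le_iff.1 ((pResidual_sup_sylow S).ge.trans (sup_le (hres.trans le_sup_right) le_sup_left))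
      have hle : normalClosure (P : Set G) ≤ (S : Subgroup G) := by
        rw [Subgroup.normalClosure, closure_le]
        intro z hz
        obtain ⟨v, hv, hcv⟩ := Group.mem_conjugatesOfSet_iff.1 hz
        obtain ⟨c, rfl⟩ := isConj_iff.1 hcv
        have hc : c ∈ (((S : Subgroup G) ⊔ R : Subgroup G) : Set G) := hRS.ge (mem_top c)
        rw [coe_mul_of_left_le_normalizer_right (S : Subgroup G) R
          (by rw [normalizer_eq_top_iff.2 hRn]; exact le_top)] at hc
        obtain ⟨s, hs, r, hr, rfl⟩ := hc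
        have h1 : r * v * r⁻¹ = v := by
          rw [← hcR v (hNC v (hPN hv)) r hr, mul_inv_cancel_right]
        rw [show s * r * v * (s * r)⁻¹ = s * (r * v * r⁻¹) * s⁻¹ by group, h1]
        exact (S : Subgroup G).mul_mem ((S : Subgroup G).mul_mem hs (hS hv)) ((S : Subgroup G).inv_mem hs)
      rw [← le_bot_iff, ← hcore]
      exact le_normalClosure.trans (FFModules.le_pCore normalClosure_normal (S.2.to_le hle))
  · by_cases h1 : RES[p,E] ≤ K ∨ RES[p,K] ≤ E
    · left
      have hconj : ∀ (A : Subgroup G) (c : G), MC[c] RES[p,A] ≤ RES[p, MC[c] A] := fun A c => by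
        rw [map_le_iff_le_comap, pResidualMap_le_iff]
        intro x hx hcop
        refine mem_pResidualMap (mem_map_of_mem _ hx) ?_
        rwa [orderOf_injective _ (MulAut.conj c).injective]
      have hcard : ∀ A ∈ 𝒮, ∀ B ∈ 𝒮, Nat.card RES[p,A] ≤ Nat.card RES[p,B] := by
        intro A hA B hB
        obtain ⟨c, rfl⟩ := htr A hA B hB
        calc Nat.card RES[p,A] = Nat.card (MC[c] RES[p,A]) := (card_map_conj _ c).symm
          _ ≤ _ := Nat.le_of_dvd Nat.card_pos (card_dvd_of_le (hconj A c))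
      rcases h1 with h1 | h1
      · exact eq_of_le_of_card_ge (pResidualMap_le_iff.2 fun x hx hcop =>
          mem_pResidualMap (h1 (mem_pResidualMap hx hcop)) hcop) (hcard K hK E hE)
      · exact (eq_of_le_of_card_ge (pResidualMap_le_iff.2 fun x hx hcop =>
          mem_pResidualMap (h1 (mem_pResidualMap hx hcop)) hcop) (hcard E hE K hK)).symm
    · right
      push Not at h1
      have hEK : K ≤ normalizer (E : Set G) := (le_sSup hK).trans (hnorm E hE)
      have hKE : E ≤ normalizer (K : Set G) := (le_sSup hE).trans (hnorm K hK)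
      have hcen : ∀ z ∈ E ⊓ K, ∀ e ∈ E, z * e = e * z := by
        intro z hz e he
        rcases hirr E hE (E ⊓ K) inf_le_left (le_normalizer_inf_of le_normalizer hKE) with h | h
        · exact commutatorElement_eq_one_iff_mul_comm.1
            (mem_bot.1 (h ▸ commutator_mem_commutator hz he))
        · exact absurd (h.trans inf_le_right) h1.1
      refine eq_bot_iff.2 (Subgroup.commutator_le.2 fun e he k hk => mem_bot.2 ?_)
      refine commutatorElement_eq_one_iff_mul_comm.2 ?_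
      refine (commute_of_central_commutator (Z := E ⊓ K) (x := k) (fun a ha => ⟨?_, ?_⟩) hcen
        (fun z hz w hw => hcen z hz w hw.1) (hcz E hE _ inf_le_left hcen) (hder E hE) e he).eq.symm
      · exact E.mul_mem ((Subgroup.mem_normalizer_iff.1 (hEK hk) a).1 ha) (E.inv_mem ha)
      · rw [show k * a * k⁻¹ * a⁻¹ = k * (a * k⁻¹ * a⁻¹) by group]
        exact K.mul_mem hk ((Subgroup.mem_normalizer_iff.1 (hKE ha) _).1 (K.inv_mem hk))

end quotient

theorem p_irreducible_of_transitive_family {G : Type*} [Group G] [Finite G] {p : ℕ} [Fact p.Prime]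
    {𝒦 : Set (Subgroup G)} (hne : 𝒦.Nonempty)
    (hinv : ∀ h : G, ∀ E ∈ 𝒦, MC[h] E ∈ 𝒦)
    (htr : ∀ E ∈ 𝒦, ∀ K ∈ 𝒦, ∃ h : G, K = MC[h] E)
    (hres : Cfsg.pResidual p G ≤ sSup 𝒦)
    (hnorm : ∀ E ∈ 𝒦, sSup 𝒦 ⊔ Cfsg.pCore p G ≤
      normalizer ((E ⊔ Cfsg.pCore p G : Subgroup G) : Set G))
    (hirr : ∀ E ∈ 𝒦, Cfsg.IsStronglyPIrreducible p E) :
    Cfsg.IsPIrreducible p G ∧ ∀ E ∈ 𝒦, ∀ K ∈ 𝒦,
      RES[p, (E ⊔ Cfsg.pCore p G : Subgroup G)] = RES[p, (K ⊔ Cfsg.pCore p G : Subgroup G)] ∨ ⁅E, K⁆ ≤ Cfsg.pCore p G := by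
  set O := Cfsg.pCore p G with hO
  haveI hOn : O.Normal := FFModules.normal_pCore
  have hOp : IsPGroup p O := FFModules.isPGroup_pCore
  set π := QuotientGroup.mk' O with hπ
  have hker : π.ker = O := QuotientGroup.ker_mk' O
  have hsurj : Function.Surjective π := QuotientGroup.mk'_surjective O
  have hmapconj : ∀ (h : G) (E : Subgroup G), MC[π h] (E.map π) = (MC[h] E).map π := by
    intro h E
    rw [Subgroup.map_map, Subgroup.map_map]
    congr 1
  have hmapO : ∀ E : Subgroup G, (E ⊔ O).map π = E.map π := fun E => by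
    rw [Subgroup.map_sup, show O.map π = ⊥ from (Subgroup.map_eq_bot_iff O).2 hker.ge, sup_bot_eq]
  set 𝒮 : Set (Subgroup (G ⧸ O)) := (Subgroup.map π) '' 𝒦 with h𝒮
  have hsup : (sSup 𝒦).map π = sSup 𝒮 := by
    refine le_antisymm ?_ (sSup_le ?_)
    · rw [map_le_iff_le_comap]
      exact sSup_le fun E hE => map_le_iff_le_comap.1 (le_sSup ⟨E, hE, rfl⟩)
    · rintro _ ⟨E, hE, rfl⟩
      exact map_mono (le_sSup hE)
  have hcore : Cfsg.pCore p (G ⧸ O) = ⊥ := CfsgLib.Cores.pCore_quotient_pCore p G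
  have hpc : ∀ E : Subgroup G, (∀ P : Subgroup G, P ≤ E → IsPGroup p P → P ≤ O) → Cfsg.IsPClosed p E :=
    fun E h => isPClosed_subgroup_iff.2 fun P hP hPp => (le_inf hP (h P hP hPp)).trans
      (le_pCoreOf inf_le_left (le_normalizer_inf_of le_normalizer
        (by rw [normalizer_eq_top_iff.2 hOn]; exact le_top)) (hOp.to_le inf_le_right))
  have hsubcore : ∀ E ∈ 𝒦, (Cfsg.pCoreOf p E).map π = ⊥ := by
    intro E hE
    have hn : (sSup 𝒦).map π ≤ normalizer ((E.map π : Subgroup (G ⧸ O)) : Set (G ⧸ O)) := by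
      rw [← hmapO E, ← hmapO (sSup 𝒦)]
      exact (map_mono (hnorm E hE)).trans (le_normalizer_map π)
    haveI : ((sSup 𝒦).map π).Normal := (le_normalizer_sSup hinv).map π hsurj
    have h1 : (Cfsg.pCoreOf p E).map π ≤ Cfsg.pCoreOf p (E.map π) :=
      le_pCoreOf (map_mono (pCoreOf_le E)) ((map_mono (le_normalizer_pCoreOf E)).trans (le_normalizer_map π))
        ((isPGroup_pCoreOf E).map π)
    refine le_bot_iff.1 (hcore ▸ h1.trans ((pCoreOf_le_pCoreOf (map_mono (le_sSup hE)) hn).trans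
      (pCoreOf_le_pCore_of_isSubnormal ?_)))
    exact Subgroup.Normal.isSubnormal inferInstance
  obtain ⟨hA, hB⟩ := irreducible_family_core_free (p := p) (𝒮 := 𝒮)
    (by
      rintro q _ ⟨E, hE, rfl⟩
      obtain ⟨h, rfl⟩ := hsurj q
      exact ⟨_, hinv h E hE, (hmapconj h E).symm⟩)
    (by
      rintro _ ⟨E, hE, rfl⟩ _ ⟨K, hK, rfl⟩
      obtain ⟨h, rfl⟩ := htr E hE K hK
      exact ⟨π h, (hmapconj h E).symm⟩)
    (by
      refine pResidual_le_iff.2 fun q hq => ?_
      obtain ⟨x, rfl⟩ := hsurj q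
      obtain ⟨k, hk⟩ := exists_pPow_mem_pResidual (p := p) x
      refine mem_of_pow_pPow_mem (k := k) hq ?_
      rw [← map_pow, ← hsup]
      exact mem_map_of_mem π (hres hk))
    (by
      rintro _ ⟨E, hE, rfl⟩
      rw [← hsup, ← hmapO E, ← hmapO (sSup 𝒦)]
      exact (map_mono (hnorm E hE)).trans (le_normalizer_map π))
    hcore
    (by
      rintro _ ⟨E, hE, rfl⟩ N hNE hEN
      set N₀ := (N.comap π).subgroupOf E with hN₀
      have hN₀n : N₀.Normal := ⟨fun a ha b => by
        show π (↑b * ↑a * (↑b : G)⁻¹) ∈ N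
        rw [map_mul, map_mul, map_inv]
        exact (Subgroup.mem_normalizer_iff.1 (hEN (mem_map_of_mem π b.2)) (π (a : G))).1 ha⟩
      by_cases hc : ⁅N₀, (⊤ : Subgroup E)⁆ ≤ Cfsg.pCore p E
      · left
        refine eq_bot_iff.2 (Subgroup.commutator_le.2 fun n hn q hq => ?_)
        obtain ⟨e, he, rfl⟩ := hq
        obtain ⟨a, ha, rfl⟩ := hNE hn
        have h1 : ⁅(⟨a, ha⟩ : E), ⟨e, he⟩⁆ ∈ Cfsg.pCore p E :=
          hc (commutator_mem_commutator (show (⟨a, ha⟩ : E) ∈ N₀ from hn) (mem_top _))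
        refine (hsubcore E hE).le ?_
        rw [← map_commutatorElement]
        exact mem_map_of_mem π ⟨_, h1, rfl⟩
      · right
        refine pResidualMap_le_iff.2 fun q hq hcop => ?_
        obtain ⟨e, he, rfl⟩ := hq
        obtain ⟨k, hk⟩ := exists_pPow_mem_pResidual (p := p) (⟨e, he⟩ : E)
        refine mem_of_pow_pPow_mem (k := k) hcop ?_
        rw [← map_pow]
        exact (hirr E hE).2 N₀ hN₀n hc hk)
    (by
      rintro _ ⟨E, hE, rfl⟩
      by_contra hno
      push Not at hno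
      exact (hirr E hE).1 (hpc E fun P hP hPp =>
        hker ▸ (Subgroup.map_eq_bot_iff P).1 (hno _ (map_mono hP) (hPp.map π))))
  refine ⟨⟨fun hclosed => ?_, fun N hN hNc => ?_⟩, fun E hE K hK => ?_⟩
  · obtain ⟨E, hE⟩ := hne
    exact (hirr E hE).1 (hpc E fun P _ hPp => isPClosed_iff.1 hclosed P hPp)
  · rcases hA (N.map π) (hN.map π hsurj) with h | h
    · exact absurd (hpc N fun P hP hPp =>
        hker ▸ (Subgroup.map_eq_bot_iff P).1 (h _ (map_mono hP) (hPp.map π))) hNc
    · refine pResidual_le_iff.2 fun x hx => ?_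
      obtain ⟨n, hn, hnx⟩ := h (mem_pResidual_of_coprime
        (Nat.Coprime.coprime_dvd_left (orderOf_map_dvd π x) hx))
      have ho : n⁻¹ * x ∈ O := by
        rw [← hker, MonoidHom.mem_ker, map_mul, map_inv, hnx, inv_mul_cancel]
      obtain ⟨k, hk⟩ := exists_pPow_eq_one hOp ho
      refine mem_of_pow_pPow_mem (k := k) hx ((QuotientGroup.eq_one_iff (N := N) _).1 ?_)
      show QuotientGroup.mk' N (x ^ p ^ k) = 1
      have he : QuotientGroup.mk' N x = QuotientGroup.mk' N (n⁻¹ * x) := by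
        rw [map_mul, map_inv, show QuotientGroup.mk' N n = 1 from (QuotientGroup.eq_one_iff n).2 hn,
          inv_one, one_mul]
      rw [map_pow, he, ← map_pow, hk, map_one]
  · rcases hB _ ⟨E, hE, rfl⟩ _ ⟨K, hK, rfl⟩ with h | h
    · left
      have key : ∀ A B : Subgroup G, RES[p, A.map π] ≤ RES[p, B.map π] →
          RES[p, (A ⊔ O : Subgroup G)] ≤ RES[p, (B ⊔ O : Subgroup G)] := by
        intro A B hAB
        refine pResidualMap_le_iff.2 fun x hx hcop => mem_pResidualMap ?_ hcop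
        have h1 : π x ∈ B.map π := pResidualMap_le _ (hAB (mem_pResidualMap
          (hmapO A ▸ mem_map_of_mem π hx) (Nat.Coprime.coprime_dvd_left (orderOf_map_dvd π x) hcop)))
        rw [← mem_comap, comap_map_eq, hker] at h1
        exact h1
      exact le_antisymm (key E K h.le) (key K E h.ge)
    · right
      rw [← hker, ← Subgroup.map_eq_bot_iff, Subgroup.map_commutator]
      exact h

end CfsgLib.LargeSubgroups
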