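import Cfsg.Agent.Lib.LargeSubgroups.FrakH
import Cfsg.Agent.Lib.FFModules.WeaklyClosed
import Cfsg.Agent.Lib.StronglyPEmbedded.PMinimal

/-!
The weak closure of a weakly closed `p`-subgroup in a product of two normal subgroups.
-/

set_option autoImplicit false

namespace CfsgLib.LargeSubgroups

open Subgroup CfsgLib.FFModules
open scoped commutatorElement

variable {G : Type*} [Group G] [Finite G] {p : ℕ} [Fact p.Prime]

local notation "RES[" L "]" => Subgroup.map (Subgroup.subtype L) (Cfsg.pResidual p L)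

/-- `O^p(L) ≤ N` when `N` is normal in `L` with `L = N P` for a `p`-group `P`. -/
theorem pResidualMap_le_of_le_sup {L N P : Subgroup G} (hNL : N ≤ L) (hPL : P ≤ L)
    (hn : L ≤ normalizer (N : Set G)) (hP : IsPGroup p P) (h : L ≤ N ⊔ P) : RES[L] ≤ N := by
  haveI : (N.subgroupOf L).Normal := (normal_subgroupOf_iff_le_normalizer hNL).2 hn
  have htop : N.subgroupOf L ⊔ P.subgroupOf L = ⊤ := by
    rw [eq_top_iff, ← map_le_map_iff_of_injective L.subtype_injective, Subgroup.map_sup,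
      map_subgroupOf_eq_of_le hNL, map_subgroupOf_eq_of_le hPL, ← MonoidHom.range_eq_map,
      range_subtype]
    exact h
  have := CfsgLib.StronglyPEmbedded.pResidual_le_of_sup_eq_top (hP.comap_subtype (K := L)) htop
  exact (map_mono this).trans (map_subgroupOf_eq_of_le hNL).le

/-- `O^p(O^p(L)) = O^p(L)`. -/
theorem pResidualMap_idem (L : Subgroup G) : RES[RES[L]] = RES[L] :=
  le_antisymm (pResidualMap_le _) (pResidualMap_le_iff.2 fun _ hxL hx =>
    mem_pResidualMap (mem_pResidualMap hxL hx) hx)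

/-- For `L = ⟨Q^L⟩`: `[O^p(L), Q] = O^p(L)`. -/
theorem commutator_pResidualMap_eq {L Q : Subgroup G} (hQL : Q ≤ L) (hQ : IsPGroup p Q)
    (h : closureIn Q L = L) : ⁅RES[L], Q⁆ = RES[L] := by
  set K := RES[L] with hK
  set X := ⁅K, Q⁆ with hX
  have hKL : K ≤ L := pResidualMap_le L
  have hLK : L ≤ normalizer (K : Set G) := le_normalizer.trans (pResidualMap_le_normalizer L)
  have hXK : X ≤ K := le_normalizer_iff_commutator_le_left.1 (hQL.trans hLK)
  refine le_antisymm hXK ?_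
  have hgen := pResidualMap_sup_eq (p := p) hQL h
  have hQX : Q ≤ normalizer (X : Set G) := normalizer_commutator_ge_right K Q
  have hKX : K ≤ normalizer (X : Set G) := normalizer_commutator_ge_left K Q
  have hXQ : L ≤ normalizer ((X ⊔ Q : Subgroup G) : Set G) := by
    rw [← hgen]
    refine sup_le (fun k hk => mem_normalizer_of_map_conj_le ?_) (le_sup_right.trans le_normalizer)
    rw [Subgroup.map_sup]
    refine sup_le ((map_conj_eq_self (hKX hk)).le.trans le_sup_left) ?_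
    rintro _ ⟨q, hq, rfl⟩
    show k * q * k⁻¹ ∈ X ⊔ Q
    rw [show k * q * k⁻¹ = ⁅k, q⁆ * q by simp only [commutatorElement_def]; group]
    exact mul_mem (mem_sup_left (commutator_mem_commutator hk hq)) (mem_sup_right hq)
  have hle : L ≤ X ⊔ Q := h.ge.trans (closureIn_le_of le_sup_right hXQ)
  exact pResidualMap_le_of_le_sup (hXK.trans hKL) hQL (by rw [← hgen]; exact sup_le hKX hQX) hQ hle

theorem closureIn_weakClosure_eq {Q J : Subgroup G} (hwc : Cfsg.IsWeaklyClosedSubgroup p Q)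
    (hQJ : Q ≤ J) :
    closureIn Q (Cfsg.weakClosure Q J) = Cfsg.weakClosure Q J := by
  refine le_antisymm (closureIn_le _ _) (iSup_le fun g => ?_)
  have hQP : Q ≤ Cfsg.weakClosure Q J := LargeSubgroups.self_le_weakClosure hQJ
  obtain ⟨k, hk, e⟩ := wc_exists_conj hwc hQP (g := g.1) (FFModules.le_weakClosure g.2)
  rw [e]
  exact (map_mono (le_closureIn hQP)).trans (map_conj_eq_self (le_normalizer_closureIn _ _ hk)).le

/-- The facts about one of the two factors. -/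
theorem weakClosure_factor {Q Hc H₁ H₂ K : Subgroup G} (hQp : IsPGroup p Q)
    (hwc : Cfsg.IsWeaklyClosedSubgroup p Q) (hHc : Hc = Cfsg.weakClosure Q ⊤)
    (hn₁ : H₁ ≤ Hc ∧ Hc ≤ normalizer ((H₁ : Subgroup G) : Set G))
    (hn₂ : H₂ ≤ Hc ∧ Hc ≤ normalizer ((H₂ : Subgroup G) : Set G)) (hprod : H₁ ⊔ H₂ = Hc)
    (hcomm : ⁅H₁, H₂⁆ ≤ normalizer ((Q : Subgroup G) : Set G))
    (hK : K = RES[Cfsg.weakClosure Q (H₁ ⊔ Q)]) :
    (⁅K, Q⁆ = K ∧ ⁅K, H₁⁆ = K ∧ K ≤ ⁅H₁, H₁⁆ ∧ Hc ≤ normalizer ((K : Subgroup G) : Set G)) ∧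
      K ≤ H₁ ∧ RES[K] = K ∧ H₁ ≤ normalizer ((K ⊔ Q : Subgroup G) : Set G) ∧
      ⁅⁅H₁, H₁⁆, H₂⁆ ≤ Cfsg.pCoreOf p Hc := by
  have hQHc : Q ≤ Hc := hHc ▸ LargeSubgroups.self_le_weakClosure le_top
  set D := ⁅H₁, H₂⁆ with hD
  set R := Cfsg.pCoreOf p Hc with hR
  have hHcD : Hc ≤ normalizer (D : Set G) :=
    CfsgLib.StronglyPEmbedded.le_normalizer_commutator_of_le hn₁.2 hn₂.2
  have hDHc : D ≤ Hc := (le_normalizer_iff_commutator_le_left.1 (hn₂.1.trans hn₁.2)).trans hn₁.1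
  have hRn : Hc ≤ normalizer (R : Set G) := le_normalizer_pCoreOf Hc
  have hQD : Q ⊓ D ≤ R :=
    (le_pCoreOf inf_le_right (le_normalizer_inf_of hcomm le_normalizer) hQp.to_inf_left).trans
      (pCoreOf_le_pCoreOf hDHc hHcD)
  have hconjQ : ∀ q ∈ Q, ∀ d ∈ D, q * d * q⁻¹ * d⁻¹ ∈ Q ⊓ D := fun q hq d hd =>
    ⟨by
      rw [show q * d * q⁻¹ * d⁻¹ = q * (d * q⁻¹ * d⁻¹) by group]
      exact Q.mul_mem hq ((Subgroup.mem_normalizer_iff.1 (hcomm hd) _).1 (Q.inv_mem hq)),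
     D.mul_mem ((Subgroup.mem_normalizer_iff.1 (hHcD (hQHc hq)) d).1 hd) (D.inv_mem hd)⟩
  -- `D` is central modulo `R`
  let C : Subgroup G :=
    { carrier := {x | x ∈ Hc ∧ ∀ d ∈ D, x * d * x⁻¹ * d⁻¹ ∈ R}
      one_mem' := ⟨one_mem _, fun d _ => by simp⟩
      mul_mem' := by
        rintro x y ⟨hx, hx'⟩ ⟨hy, hy'⟩
        refine ⟨mul_mem hx hy, fun d hd => ?_⟩
        rw [show x * y * d * (x * y)⁻¹ * d⁻¹ =
          (x * (y * d * y⁻¹ * d⁻¹) * x⁻¹) * (x * d * x⁻¹ * d⁻¹) by group]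
        exact mul_mem ((Subgroup.mem_normalizer_iff.1 (hRn hx) _).1 (hy' d hd)) (hx' d hd)
      inv_mem' := by
        rintro x ⟨hx, hx'⟩
        refine ⟨inv_mem hx, fun d hd => ?_⟩
        rw [show x⁻¹ * d * x⁻¹⁻¹ * d⁻¹ = x⁻¹ * (x * d * x⁻¹ * d⁻¹)⁻¹ * x⁻¹⁻¹ by group]
        exact (Subgroup.mem_normalizer_iff.1 (hRn (inv_mem hx)) _).1 (inv_mem (hx' d hd)) }
  have hHcC : Hc ≤ normalizer (C : Set G) := fun h hh => mem_normalizer_of_map_conj_le (by
    rintro _ ⟨x, ⟨hx, hx'⟩, rfl⟩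
    refine ⟨mul_mem (mul_mem hh hx) (inv_mem hh), fun d hd => ?_⟩
    show h * x * h⁻¹ * d * (h * x * h⁻¹)⁻¹ * d⁻¹ ∈ R
    rw [show h * x * h⁻¹ * d * (h * x * h⁻¹)⁻¹ * d⁻¹ =
      h * (x * (h⁻¹ * d * h⁻¹⁻¹) * x⁻¹ * (h⁻¹ * d * h⁻¹⁻¹)⁻¹) * h⁻¹ by group]
    exact (Subgroup.mem_normalizer_iff.1 (hRn hh) _).1
      (hx' _ ((Subgroup.mem_normalizer_iff.1 (hHcD (inv_mem hh)) d).1 hd)))
  have hcl : closureIn Q Hc = Hc := hHc ▸ closureIn_weakClosure_eq hwc le_top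
  have hcentral : ⁅Hc, D⁆ ≤ R := by
    have hle : Hc ≤ C := hcl.ge.trans
      (closureIn_le_of (fun q hq => ⟨hQHc hq, fun d hd => hQD (hconjQ q hq d hd)⟩) hHcC)
    exact Subgroup.commutator_le.2 fun x hx d hd => by
      simpa [commutatorElement_def] using (hle hx).2 d hd
  have hthree : ⁅⁅H₁, H₁⁆, H₂⁆ ≤ R := by
    refine CfsgLib.StronglyPEmbedded.commutator_commutator_le_of_rotate (hn₁.1.trans hRn)
      (hn₁.1.trans hRn) (hn₂.1.trans hRn) ?_ ?_
    · rw [commutator_comm]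
      exact (commutator_mono hn₁.1 le_rfl).trans hcentral
    · rw [commutator_comm ⁅H₂, H₁⁆, commutator_comm H₂ H₁]
      exact (commutator_mono hn₁.1 le_rfl).trans hcentral
  -- the weak closure in `H₁ Q`
  set J := H₁ ⊔ Q with hJ
  set P := Cfsg.weakClosure Q J with hP
  have hQP : Q ≤ P := LargeSubgroups.self_le_weakClosure le_sup_right
  have hPJ : P ≤ J := LargeSubgroups.weakClosure_le Q J
  have hJP : J ≤ normalizer (P : Set G) := FFModules.le_normalizer_weakClosure Q J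
  have hJK : J ≤ normalizer (K : Set G) := hK ▸ hJP.trans (pResidualMap_le_normalizer P)
  have hKQ : ⁅K, Q⁆ = K := by
    rw [hK]; exact commutator_pResidualMap_eq hQP hQp (closureIn_weakClosure_eq hwc le_sup_right)
  have hgen : K ⊔ Q = P := by
    rw [hK]; exact pResidualMap_sup_eq hQP (closureIn_weakClosure_eq hwc le_sup_right)
  have hKH : K ≤ H₁ := by
    rw [hK]
    exact (pResidualMap_mono hPJ).trans (pResidualMap_le_of_le_sup le_sup_left le_sup_right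
      (sup_le le_normalizer (hQHc.trans hn₁.2)) hQp le_rfl)
  have hKK : RES[K] = K := by rw [hK]; exact pResidualMap_idem P
  set X := ⁅K, H₁⁆ with hX
  have hXK : X ≤ K := le_normalizer_iff_commutator_le_left.1 (le_sup_left.trans hJK)
  have hQX : Q ≤ normalizer (X : Set G) :=
    CfsgLib.StronglyPEmbedded.le_normalizer_commutator_of_le (le_sup_right.trans hJK) (hQHc.trans hn₁.2)
  have hKX : K ≤ normalizer (X : Set G) := normalizer_commutator_ge_left K H₁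
  have hKH₁ : ⁅K, H₁⁆ = K := by
    refine le_antisymm hXK ?_
    have hstep : K ≤ X ⊔ K ⊓ D := by
      calc K = ⁅K, Q⁆ := hKQ.symm
        _ ≤ X ⊔ K ⊓ D := Subgroup.commutator_le.2 fun k hk q hq => by
          have hq' : q ∈ ((H₁ ⊔ H₂ : Subgroup G) : Set G) := by rw [hprod]; exact hQHc hq
          rw [coe_mul_of_left_le_normalizer_right H₁ H₂ (hn₁.1.trans hn₂.2)] at hq'
          obtain ⟨a, ha, b, hb, rfl⟩ := hq'
          have h1 : ⁅k, a⁆ ∈ X := commutator_mem_commutator hk ha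
          have hab : ⁅k, a * b⁆ = ⁅k, a⁆ * (a * ⁅k, b⁆ * a⁻¹) := by
            simp only [commutatorElement_def]; group
          have h2 : ⁅k, a * b⁆ ∈ K := hKQ.le (commutator_mem_commutator hk hq)
          have h3 : a * ⁅k, b⁆ * a⁻¹ ∈ K := by
            rw [show a * ⁅k, b⁆ * a⁻¹ = ⁅k, a⁆⁻¹ * ⁅k, a * b⁆ by rw [hab, inv_mul_cancel_left]]
            exact mul_mem (inv_mem (hXK h1)) h2
          have h4 : a * ⁅k, b⁆ * a⁻¹ ∈ D :=
            (Subgroup.mem_normalizer_iff.1 (hHcD (hn₁.1 ha)) _).1 (commutator_mem_commutator (hKH hk) hb)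
          rw [hab]
          exact mul_mem (mem_sup_left h1) (mem_sup_right ⟨h3, h4⟩)
    have hstep2 : K ≤ X ⊔ Q ⊓ D ⊓ K := by
      calc K = ⁅K, Q⁆ := hKQ.symm
        _ ≤ X ⊔ Q ⊓ D ⊓ K := Subgroup.commutator_le.2 fun k hk q hq => by
          have hk' : k ∈ ((X ⊔ K ⊓ D : Subgroup G) : Set G) := hstep hk
          rw [coe_mul_of_right_le_normalizer_left X (K ⊓ D) (inf_le_left.trans hKX)] at hk'
          obtain ⟨x, hx, d, hd, rfl⟩ := hk'
          have hab : ⁅x * d, q⁆ = x * ⁅d, q⁆ * x⁻¹ * ⁅x, q⁆ := by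
            simp only [commutatorElement_def]; group
          rw [hab]
          have h1 : ⁅d, q⁆ ∈ Q ⊓ D ⊓ K := by
            refine ⟨?_, hKQ.le (commutator_mem_commutator hd.1 hq)⟩
            rw [← commutatorElement_inv]
            exact (Q ⊓ D).inv_mem (hconjQ q hq d hd.2)
          have h2 : ⁅x, q⁆ ∈ X := by
            rw [commutatorElement_def, show x * q * x⁻¹ * q⁻¹ = x * (q * x⁻¹ * q⁻¹) by group]
            exact mul_mem hx ((Subgroup.mem_normalizer_iff.1 (hQX hq) _).1 (inv_mem hx))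
          exact mul_mem (mul_mem (mul_mem (mem_sup_left hx) (mem_sup_right h1))
            (inv_mem (mem_sup_left hx))) (mem_sup_left h2)
    exact hKK.ge.trans (pResidualMap_le_of_le_sup hXK inf_le_right hKX
      ((hQp.to_le (inf_le_left : Q ⊓ D ≤ Q)).to_inf_left) hstep2)
  have hKder : K ≤ ⁅H₁, H₁⁆ := hKH₁.ge.trans (commutator_mono hKH le_rfl)
  have hRN : R ≤ normalizer (K : Set G) := by
    have hRQ : R ≤ normalizer (Q : Set G) := le_sup_right.trans (wc_pGroup_le_normalizer hwc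
      (IsPGroup.to_sup_of_normal_right' hQp (isPGroup_pCoreOf Hc) (hQHc.trans hRn)) le_sup_left)
    have hRJ : R ≤ normalizer (J : Set G) := fun r hr => mem_normalizer_of_map_conj_le (by
      rw [hJ, Subgroup.map_sup]
      exact sup_le ((map_conj_eq_self (hn₁.2 (pCoreOf_le Hc hr))).le.trans le_sup_left)
        ((map_conj_eq_self (hRQ hr)).le.trans le_sup_right))
    have hRP : R ≤ normalizer (P : Set G) := fun r hr => mem_normalizer_of_map_conj_le (by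
      rw [hP, Cfsg.weakClosure, Subgroup.map_iSup]
      refine iSup_le fun g => ?_
      rw [← map_conj_mul]
      exact LargeSubgroups.le_weakClosure (by
        rw [map_conj_mul]; exact conj_le_of_le g.2 (hRJ hr)))
    exact hK ▸ hRP.trans (pResidualMap_le_normalizer P)
  have hnorm : Hc ≤ normalizer (K : Set G) := by
    rw [← hprod]
    refine sup_le (le_sup_left.trans hJK) ?_
    have hres : RES[(K ⊔ R : Subgroup G)] = K := le_antisymm
      (pResidualMap_le_of_le_sup le_sup_left le_sup_right (sup_le le_normalizer hRN)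
        (isPGroup_pCoreOf Hc) le_rfl)
      (hKK.ge.trans (pResidualMap_mono le_sup_left))
    have hH2J : H₂ ≤ normalizer ((K ⊔ R : Subgroup G) : Set G) := fun b hb =>
      mem_normalizer_of_map_conj_le (by
        rw [Subgroup.map_sup]
        refine sup_le ?_ ((map_conj_eq_self (hRn (hn₂.1 hb))).le.trans le_sup_right)
        rintro _ ⟨k, hk, rfl⟩
        show b * k * b⁻¹ ∈ K ⊔ R
        rw [show b * k * b⁻¹ = ⁅k, b⁆⁻¹ * k by simp only [commutatorElement_def]; group]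
        exact mul_mem (inv_mem (mem_sup_right (hthree (commutator_mem_commutator (hKder hk) hb))))
          (mem_sup_left hk))
    have := hH2J.trans (pResidualMap_le_normalizer (p := p) (K ⊔ R))
    rwa [hres] at this
  refine ⟨⟨hKQ, hKH₁, hKder, hnorm⟩, hKH, hKK, ?_, hthree⟩
  rw [hgen]
  exact le_sup_left.trans hJP

theorem weakClosure_product {Q Hc H₁ H₂ K₁ K₂ : Subgroup G} (hQp : IsPGroup p Q)
    (hwc : Cfsg.IsWeaklyClosedSubgroup p Q) (hHc : Hc = Cfsg.weakClosure Q ⊤)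
    (hn₁ : H₁ ≤ Hc ∧ Hc ≤ normalizer ((H₁ : Subgroup G) : Set G))
    (hn₂ : H₂ ≤ Hc ∧ Hc ≤ normalizer ((H₂ : Subgroup G) : Set G)) (hprod : H₁ ⊔ H₂ = Hc)
    (hcomm : ⁅H₁, H₂⁆ ≤ normalizer ((Q : Subgroup G) : Set G))
    (hK₁ : K₁ = RES[Cfsg.weakClosure Q (H₁ ⊔ Q)]) (hK₂ : K₂ = RES[Cfsg.weakClosure Q (H₂ ⊔ Q)]) :
    (⁅K₁, Q⁆ = K₁ ∧ ⁅K₁, H₁⁆ = K₁ ∧ K₁ ≤ ⁅H₁, H₁⁆ ∧ Hc ≤ normalizer ((K₁ : Subgroup G) : Set G)) ∧
      (⁅K₂, Q⁆ = K₂ ∧ ⁅K₂, H₂⁆ = K₂ ∧ K₂ ≤ ⁅H₂, H₂⁆ ∧ Hc ≤ normalizer ((K₂ : Subgroup G) : Set G)) ∧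
      K₁ ⊔ K₂ = RES[Hc] ∧ ⁅K₁, K₂⁆ ≤ Cfsg.pCoreOf p Hc := by
  obtain ⟨a, hK1H, hK1K, hA1, hthree⟩ := weakClosure_factor hQp hwc hHc hn₁ hn₂ hprod hcomm hK₁
  obtain ⟨b, hK2H, hK2K, hA2, -⟩ := weakClosure_factor hQp hwc hHc hn₂ hn₁
    (sup_comm H₁ H₂ ▸ hprod) (commutator_comm H₁ H₂ ▸ hcomm) hK₂
  have hQHc : Q ≤ Hc := hHc ▸ LargeSubgroups.self_le_weakClosure le_top
  refine ⟨a, b, le_antisymm (sup_le (hK1K.ge.trans (pResidualMap_mono (hK1H.trans hn₁.1)))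
    (hK2K.ge.trans (pResidualMap_mono (hK2H.trans hn₂.1)))) ?_,
    (commutator_mono a.2.2.1 hK2H).trans hthree⟩
  have hN : Hc ≤ normalizer ((K₁ ⊔ K₂ : Subgroup G) : Set G) := fun h hh =>
    mem_normalizer_of_map_conj_le (by
      rw [Subgroup.map_sup, map_conj_eq_self (a.2.2.2 hh), map_conj_eq_self (b.2.2.2 hh)])
  have hNQ : Hc ≤ normalizer ((K₁ ⊔ K₂ ⊔ Q : Subgroup G) : Set G) := by
    conv_lhs => rw [← hprod]
    refine sup_le (fun h hh => mem_normalizer_of_map_conj_le ?_) (fun h hh => mem_normalizer_of_map_conj_le ?_)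
    · rw [show K₁ ⊔ K₂ ⊔ Q = K₂ ⊔ (K₁ ⊔ Q) by ac_rfl, Subgroup.map_sup,
        map_conj_eq_self (b.2.2.2 (hn₁.1 hh)), map_conj_eq_self (hA1 hh)]
    · rw [sup_assoc, Subgroup.map_sup, map_conj_eq_self (a.2.2.2 (hn₂.1 hh)), map_conj_eq_self (hA2 hh)]
  have hcl : closureIn Q Hc = Hc := hHc ▸ closureIn_weakClosure_eq hwc le_top
  exact pResidualMap_le_of_le_sup (sup_le (hK1H.trans hn₁.1) (hK2H.trans hn₂.1)) hQHc hN hQp
    (hcl.ge.trans (closureIn_le_of le_sup_right hNQ))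

end CfsgLib.LargeSubgroups
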